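import Groth.Prelude.Def_CAlg
import Mathlib

/-!
Depth of finite modules over Noetherian local rings (`LocCoh.depth`): characterisations through
regular sequences and `Ext`, behaviour under a regular element, finiteness.
-/

set_option autoImplicit false
set_option linter.unusedSectionVars false
universe u

open scoped Pointwise
open CategoryTheory Abelian IsLocalRing RingTheory.Sequence

namespace Groth.Agent.EGA4Alg4

variable {A : Type u} [CommRing A] {M : Type u} [AddCommGroup M] [Module A M]

theorem exists_le_assoc_of_forall_not_regular [IsNoetherianRing A] [Module.Finite A M] [Nontrivial M]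
    (I : Ideal A) (h : ∀ x ∈ I, ¬ IsSMulRegular M x) : ∃ p ∈ associatedPrimes A M, I ≤ p := by
  rcases associatedPrimes.nonempty A M with ⟨Ia, hIa⟩
  apply (Ideal.subset_union_prime_finite (associatedPrimes.finite A M) Ia Ia _).mp
  · rw [biUnion_associatedPrimes_eq_compl_regular A]
    exact fun r hr ↦ h r hr
  · exact fun I hin _ _ ↦ IsAssociatedPrime.isPrime hin

theorem ofList_le {rs : List A} {I : Ideal A} (h : ∀ r ∈ rs, r ∈ I) : Ideal.ofList rs ≤ I :=
  Ideal.span_le.mpr h

theorem not_regular_of_mem_assoc [IsNoetherianRing A] {p : Ideal A} (hp : p ∈ associatedPrimes A M) :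
    ∀ x ∈ p, ¬ IsSMulRegular M x := by
  intro x hx
  have : x ∈ ⋃ q ∈ associatedPrimes A M, (q : Set A) := Set.mem_biUnion hp hx
  rw [biUnion_associatedPrimes_eq_compl_regular A] at this
  exact this

section Local

variable [IsLocalRing A] [IsNoetherianRing A] [Module.Finite A M]

theorem maximalIdeal_mem_assoc_iff [Nontrivial M] :
    maximalIdeal A ∈ associatedPrimes A M ↔ ∀ x ∈ maximalIdeal A, ¬ IsSMulRegular M x := by
  refine ⟨not_regular_of_mem_assoc, fun h => ?_⟩
  obtain ⟨p, hp, hle⟩ := exists_le_assoc_of_forall_not_regular _ h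
  have := IsLocalRing.le_maximalIdeal hp.isPrime.ne_top
  rwa [le_antisymm hle this]

theorem maximalIdeal_mem_assoc_iff_nontrivial_hom :
    maximalIdeal A ∈ associatedPrimes A M ↔ Nontrivial (ResidueField A →ₗ[A] M) := by
  rw [← not_subsingleton_iff_nontrivial, IsSMulRegular.subsingleton_linearMap_iff]
  have hann : Module.annihilator A (ResidueField A) = maximalIdeal A := Ideal.annihilator_quotient
  rw [hann]
  rcases subsingleton_or_nontrivial M with hM | hM
  · simp only [associatedPrimes.eq_empty_of_subsingleton, Set.mem_empty_iff_false, false_iff, not_not]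
    exact ⟨0, zero_mem _, IsSMulRegular.zero⟩
  · rw [maximalIdeal_mem_assoc_iff]; push Not; rfl

theorem maximalIdeal_smul_top_eq_top_iff :
    maximalIdeal A • (⊤ : Submodule A M) = ⊤ ↔ Subsingleton M := by
  refine ⟨fun h => ?_, fun h => Subsingleton.elim _ _⟩
  by_contra hM
  rw [not_subsingleton_iff_nontrivial] at hM
  exact (Submodule.top_ne_ideal_smul_of_le_jacobson_annihilator
    (maximalIdeal_le_jacobson _)) h.symm

omit [IsNoetherianRing A] [Module.Finite A M] in
theorem depth_of_subsingleton [Subsingleton M] : LocCoh.depth A M = ⊤ :=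
  if_pos (Subsingleton.elim _ _)

omit [IsNoetherianRing A] in
theorem smul_top_lt_top [Nontrivial M] (I : Ideal A) (hI : I ≤ maximalIdeal A) :
    I • (⊤ : Submodule A M) < ⊤ :=
  lt_top_iff_ne_top.mpr (Submodule.top_ne_ideal_smul_of_le_jacobson_annihilator
    (hI.trans (maximalIdeal_le_jacobson _))).symm

omit [IsNoetherianRing A] in
theorem depth_eq_iSup [Nontrivial M] :
    LocCoh.depth A M = ⨆ (rs : List A) (_ : IsWeaklyRegular M rs ∧ ∀ r ∈ rs, r ∈ maximalIdeal A),
      (rs.length : ℕ∞) :=
  if_neg (smul_top_lt_top _ le_rfl).ne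

omit [IsNoetherianRing A] in
theorem isRegular_of_isWeaklyRegular [Nontrivial M] {rs : List A} (h : IsWeaklyRegular M rs)
    (hmem : ∀ r ∈ rs, r ∈ maximalIdeal A) : IsRegular M rs :=
  ⟨h, (smul_top_lt_top _ (ofList_le hmem)).ne'⟩

omit [IsNoetherianRing A] [Module.Finite A M] in
theorem isWeaklyRegular_take {rs : List A} (h : IsWeaklyRegular M rs) (n : ℕ) :
    IsWeaklyRegular M (rs.take n) := by
  rw [← List.take_append_drop n rs, isWeaklyRegular_append_iff] at h
  exact h.1

omit [IsNoetherianRing A] in
theorem length_le_depth [Nontrivial M] {rs : List A} (h : IsWeaklyRegular M rs)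
    (hmem : ∀ r ∈ rs, r ∈ maximalIdeal A) : (rs.length : ℕ∞) ≤ LocCoh.depth A M := by
  rw [depth_eq_iSup]; exact le_iSup₂ (f := fun rs _ => ((List.length rs : ℕ) : ℕ∞)) rs ⟨h, hmem⟩

theorem length_le_supportDim [Nontrivial M] {rs : List A} (h : IsWeaklyRegular M rs)
    (hmem : ∀ r ∈ rs, r ∈ maximalIdeal A) :
    (rs.length : WithBot ℕ∞) ≤ Module.supportDim A M := by
  have reg := isRegular_of_isWeaklyRegular h hmem
  rw [← Module.supportDim_add_length_eq_supportDim_of_isRegular rs reg]
  refine le_add_of_nonneg_left ?_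
  have hlt := smul_top_lt_top (M := M) (Ideal.ofList rs)
    (ofList_le hmem)
  have : Nontrivial (M ⧸ Ideal.ofList rs • (⊤ : Submodule A M)) :=
    Submodule.Quotient.nontrivial_iff.mpr hlt.ne
  exact Order.krullDim_nonneg_iff.mpr (Module.nonempty_support_iff.mpr this).to_subtype

theorem depth_le_supportDim [Nontrivial M] :
    ((LocCoh.depth A M : ℕ∞) : WithBot ℕ∞) ≤ Module.supportDim A M := by
  obtain ⟨d, hd⟩ := WithBot.ne_bot_iff_exists.mp (Module.supportDim_ne_bot_of_nontrivial A M)
  rw [← hd, WithBot.coe_le_coe, depth_eq_iSup]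
  refine iSup₂_le fun rs hrs => ?_
  rw [← WithBot.coe_le_coe, hd]
  exact length_le_supportDim hrs.1 hrs.2

theorem supportDim_lt_top : Module.supportDim A M < (⊤ : ℕ∞) :=
  (Module.supportDim_le_ringKrullDim A M).trans_lt ringKrullDim_lt_top

theorem depth_ne_top [Nontrivial M] : LocCoh.depth A M ≠ ⊤ := by
  intro h
  have := (depth_le_supportDim (A := A) (M := M)).trans_lt supportDim_lt_top
  simp [h] at this

theorem exists_depth_eq [Nontrivial M] : ∃ n : ℕ, LocCoh.depth A M = n :=
  (ENat.ne_top_iff_exists.mp depth_ne_top).imp fun _ h => h.symm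

theorem natCast_le_depth_iff [Nontrivial M] (n : ℕ) :
    (n : ℕ∞) ≤ LocCoh.depth A M ↔
      ∃ rs : List A, rs.length = n ∧ (∀ r ∈ rs, r ∈ maximalIdeal A) ∧ IsWeaklyRegular M rs := by
  constructor
  · intro h
    rcases n with _ | n
    · exact ⟨[], rfl, by simp, IsWeaklyRegular.nil A M⟩
    have : (n : ℕ∞) < LocCoh.depth A M := lt_of_lt_of_le (by exact_mod_cast Nat.lt_succ_self n) h
    rw [depth_eq_iSup] at this
    obtain ⟨rs, hrs⟩ := lt_iSup_iff.mp this
    obtain ⟨⟨hreg, hmem⟩, hlt⟩ := lt_iSup_iff.mp hrs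
    refine ⟨rs.take (n + 1), ?_, fun r hr => hmem r (List.mem_of_mem_take hr),
      isWeaklyRegular_take hreg _⟩
    have : n < rs.length := by exact_mod_cast hlt
    rw [List.length_take]; omega
  · rintro ⟨rs, rfl, hmem, hreg⟩
    exact length_le_depth hreg hmem

theorem natCast_le_depth_iff_ext [Nontrivial M] (n : ℕ) :
    (n : ℕ∞) ≤ LocCoh.depth A M ↔ ∀ i < n,
      Subsingleton (Ext (ModuleCat.of A (ResidueField A)) (ModuleCat.of A M) i) := by
  rw [natCast_le_depth_iff]
  have hsupp : Module.support A (ResidueField A) = PrimeSpectrum.zeroLocus (maximalIdeal A : Set A) := by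
    rw [Module.support_eq_zeroLocus]; congr 1
    exact congrArg _ Ideal.annihilator_quotient
  constructor
  · rintro ⟨rs, rfl, hmem, hreg⟩
    exact ModuleCat.subsingleton_ext_of_exists_isRegular (maximalIdeal A) _ hsupp.subset
      (ModuleCat.of A M) (smul_top_lt_top _ le_rfl) rs hmem (isRegular_of_isWeaklyRegular hreg hmem)
  · intro h
    obtain ⟨rs, h1, h2, h3⟩ := ModuleCat.exists_isRegular_of_exists_subsingleton_ext (maximalIdeal A) n
      (ModuleCat.of A M) (smul_top_lt_top _ le_rfl) _ hsupp h
    exact ⟨rs, h1, h2, h3.toIsWeaklyRegular⟩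

theorem depth_eq_zero_iff :
    LocCoh.depth A M = 0 ↔ maximalIdeal A ∈ associatedPrimes A M := by
  rcases subsingleton_or_nontrivial M with hM | hM
  · simp [depth_of_subsingleton, associatedPrimes.eq_empty_of_subsingleton]
  rw [maximalIdeal_mem_assoc_iff]
  constructor
  · intro h x hx hreg
    have := length_le_depth (rs := [x]) ((isWeaklyRegular_singleton_iff M x).mpr hreg) (List.forall_mem_singleton.mpr hx)
    simp [h] at this
  · intro h
    by_contra h0
    obtain ⟨rs, hlen, hmem, hreg⟩ :=
      (natCast_le_depth_iff (A := A) (M := M) 1).mp (by simpa [pos_iff_ne_zero, Order.one_le_iff_pos] using h0)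
    match rs, hlen with
    | [x], _ => exact h x (by simpa using hmem) ((isWeaklyRegular_singleton_iff M x).mp hreg)

/-- Cutting by a regular element lowers the depth by exactly one. -/
theorem depth_quotSMulTop_add_one {x : A} (hx : x ∈ maximalIdeal A) (hreg : IsSMulRegular M x) :
    LocCoh.depth A (QuotSMulTop x M) + 1 = LocCoh.depth A M := by
  rcases subsingleton_or_nontrivial M with hM | hM
  · simp [depth_of_subsingleton]
  have := nontrivial_quotSMulTop_of_mem_maximalIdeal M hx
  obtain ⟨d, hd⟩ := exists_depth_eq (A := A) (M := M)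
  obtain ⟨e, he⟩ := exists_depth_eq (A := A) (M := QuotSMulTop x M)
  rw [hd, he]
  refine le_antisymm ?_ ?_
  · obtain ⟨rs, hlen, hmem, hr⟩ := (natCast_le_depth_iff e).mp he.ge
    have := length_le_depth (IsWeaklyRegular.cons hreg hr) (List.forall_mem_cons.mpr ⟨hx, hmem⟩)
    simp only [List.length_cons, hlen, hd] at this
    exact_mod_cast this
  · rcases d with _ | n
    · simp
    have h1 := (natCast_le_depth_iff_ext (A := A) (M := M) (n + 1)).mp hd.ge
    have h2 : ∀ i < n, Subsingleton (Ext (ModuleCat.of A (ResidueField A))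
        (ModuleCat.of A (QuotSMulTop x M)) i) := by
      intro i hi
      have zero1 := AddCommGrpCat.isZero_of_iff_subsingleton.mpr (h1 i (by omega))
      have zero2 := AddCommGrpCat.isZero_of_iff_subsingleton.mpr (h1 (i + 1) (by omega))
      exact AddCommGrpCat.subsingleton_of_isZero <| ShortComplex.Exact.isZero_of_both_zeros
        ((Ext.covariant_sequence_exact₃' (ModuleCat.of A (ResidueField A))
          (hreg.smulShortComplex_shortExact (M := ModuleCat.of A M))) i (i + 1) rfl)
        (zero1.eq_zero_of_src _) (zero2.eq_zero_of_tgt _)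
    have := (natCast_le_depth_iff_ext n).mpr h2
    rw [he] at this
    push_cast
    exact add_le_add this le_rfl

theorem isCohenMacaulayModule_nontrivial (h : LocCoh.IsCohenMacaulayModule A M) : Nontrivial M := by
  by_contra hc
  rw [not_nontrivial_iff_subsingleton] at hc
  rw [LocCoh.IsCohenMacaulayModule, Module.supportDim_eq_bot_of_subsingleton] at h
  exact WithBot.bot_ne_coe h

theorem isCohenMacaulayModule_iff :
    LocCoh.IsCohenMacaulayModule A M ↔
      Nontrivial M ∧ Module.supportDim A M ≤ ((LocCoh.depth A M : ℕ∞) : WithBot ℕ∞) := by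
  refine ⟨fun h => ⟨isCohenMacaulayModule_nontrivial h, h.le⟩, fun ⟨_, h⟩ => le_antisymm h depth_le_supportDim⟩

end Local

end Groth.Agent.EGA4Alg4
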