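import Groth.Agent.CAlg1.Regular
import Groth.Agent.EGA4Alg4.Depth

/-! Parts of regular systems of parameters. -/

set_option autoImplicit false
set_option linter.unusedSectionVars false
universe u

open IsLocalRing

namespace Groth.Agent.EGA4Alg4

variable {A : Type u} [CommRing A] [IsLocalRing A] [IsNoetherianRing A]

theorem span_eq_maximalIdeal_iff (s : Set (maximalIdeal A)) :
    Ideal.span (Subtype.val '' s) = maximalIdeal A ↔
      Submodule.span (ResidueField A) ((maximalIdeal A).toCotangent '' s) = ⊤ := by
  rw [CotangentSpace.span_image_eq_top_iff]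
  rw [← (Submodule.map_injective_of_injective (maximalIdeal A).injective_subtype).eq_iff,
    Submodule.map_span, Submodule.map_top, Submodule.range_subtype]
  rfl

theorem maximalIdeal_quotient_eq {J : Ideal A} (_hJ : J ≠ ⊤) [IsLocalRing (A ⧸ J)] :
    maximalIdeal (A ⧸ J) = (maximalIdeal A).map (Ideal.Quotient.mk J) :=
  (IsLocalRing.map_maximalIdeal_of_surjective _ Ideal.Quotient.mk_surjective).symm

theorem regular_params_iff {r : ℕ} (x : Fin r → maximalIdeal A) :
    ((IsRegularLocalRing A ∧
        LinearIndependent (ResidueField A) (fun i => (maximalIdeal A).toCotangent (x i))) ↔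
      (ringKrullDim (A ⧸ Ideal.span (Set.range fun i => (x i : A))) + r = ringKrullDim A ∧
        IsRegularLocalRing (A ⧸ Ideal.span (Set.range fun i => (x i : A))))) ∧
    (IsRegularLocalRing (A ⧸ Ideal.span (Set.range fun i => (x i : A))) →
      ringKrullDim (A ⧸ Ideal.span (Set.range fun i => (x i : A))) + r = ringKrullDim A →
        (Ideal.span (Set.range fun i => (x i : A))).IsPrime) := by
  classical
  set J := Ideal.span (Set.range fun i => (x i : A))
  set v := fun i => (maximalIdeal A).toCotangent (x i)
  have hJm : J ≤ maximalIdeal A := Ideal.span_le.mpr (Set.range_subset_iff.mpr fun i => (x i).2)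
  have hJ : J ≠ ⊤ := ne_top_of_le_ne_top (maximalIdeal.isMaximal A).ne_top hJm
  have : Nontrivial (A ⧸ J) := Ideal.Quotient.nontrivial_iff.mpr hJ
  have : IsLocalRing (A ⧸ J) := .of_surjective' _ Ideal.Quotient.mk_surjective
  obtain ⟨e, he⟩ : ∃ e : ℕ, ringKrullDim (A ⧸ J) = e := by
    obtain ⟨a, ha⟩ := WithBot.ne_bot_iff_exists.mp (ringKrullDim_ne_bot (R := A ⧸ J))
    obtain ⟨e, rfl⟩ := ENat.ne_top_iff_exists.mp
      (fun h : a = ⊤ => (ringKrullDim_lt_top (R := A ⧸ J)).ne (by rw [← ha, h]; rfl))
    exact ⟨e, ha.symm⟩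
  obtain ⟨d, hd⟩ : ∃ d : ℕ, ringKrullDim A = d := by
    obtain ⟨a, ha⟩ := WithBot.ne_bot_iff_exists.mp (ringKrullDim_ne_bot (R := A))
    obtain ⟨e, rfl⟩ := ENat.ne_top_iff_exists.mp
      (fun h : a = ⊤ => (ringKrullDim_lt_top (R := A)).ne (by rw [← ha, h]; rfl))
    exact ⟨e, ha.symm⟩
  have hle : d ≤ e + r := by
    have h1 := ringKrullDim_le_ringKrullDim_quotient_add_spanFinrank J
      (by rw [ringJacobson_eq_maximalIdeal]; exact hJm)
    have h2 : J.spanFinrank ≤ r := by
      have h3 : J = Submodule.span A ((Finset.univ.image fun i => (x i : A) : Finset A) : Set A) := by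
        simp [J, Ideal.span]
      rw [h3]
      exact (Submodule.spanFinrank_span_le_ncard_of_finite (Finset.finite_toSet _)).trans
        (by rw [Set.ncard_coe_finset]; exact Finset.card_image_le.trans (by simp))
    rw [hd, he] at h1
    have : d ≤ e + J.spanFinrank := by exact_mod_cast h1
    omega
  refine ⟨⟨?_, ?_⟩, fun hreg _ => ?_⟩
  · rintro ⟨hA, hv⟩
    have hdk : Module.finrank (ResidueField A) (CotangentSpace A) = d := by
      have := (IsRegularLocalRing.iff_finrank_cotangentSpace A).mp hA
      rw [hd] at this; exact_mod_cast this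
    set W := Submodule.span (ResidueField A) (Set.range v)
    have hW : Module.finrank (ResidueField A) W = r := by
      rw [finrank_span_eq_card hv, Fintype.card_fin]
    set n := Module.finrank (ResidueField A) (CotangentSpace A ⧸ W)
    have hn : n + r = d := by rw [← hdk, ← Submodule.finrank_quotient_add_finrank W, hW]
    let b := Module.finBasis (ResidueField A) (CotangentSpace A ⧸ W)
    choose y hy using fun i => (W.mkQ_surjective.comp (maximalIdeal A).toCotangent_surjective) (b i)
    have hspan : Ideal.span (Subtype.val '' (Set.range x ∪ Set.range y)) = maximalIdeal A := by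
      rw [span_eq_maximalIdeal_iff, Set.image_union, Submodule.span_union, ← Set.range_comp,
        ← Set.range_comp]
      have : (Submodule.span (ResidueField A) (Set.range ((maximalIdeal A).toCotangent ∘ y))).map W.mkQ = ⊤ := by
        rw [Submodule.map_span, ← Set.range_comp]
        rw [show (W.mkQ ∘ ((maximalIdeal A).toCotangent ∘ y)) = b from funext hy]
        exact b.span_eq
      exact Submodule.map_mkQ_eq_top W _ |>.mp this
    have hspanQ : maximalIdeal (A ⧸ J) =
        Submodule.span (A ⧸ J) (Set.range fun i => Ideal.Quotient.mk J (y i)) := by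
      rw [maximalIdeal_quotient_eq hJ]
      refine (congrArg (Ideal.map (Ideal.Quotient.mk J)) hspan.symm).trans ?_
      rw [Ideal.map_span, Set.image_union, Set.image_union, Ideal.span_union]
      have : Ideal.span (Ideal.Quotient.mk J '' (Subtype.val '' Set.range x)) = ⊥ := by
        rw [Ideal.span_eq_bot]
        rintro _ ⟨_, ⟨_, ⟨i, rfl⟩, rfl⟩, rfl⟩
        exact Ideal.Quotient.eq_zero_iff_mem.mpr (Ideal.subset_span ⟨i, rfl⟩)
      rw [this, bot_sup_eq]
      simp only [← Set.range_comp]
      rfl
    have hfr : (maximalIdeal (A ⧸ J)).spanFinrank ≤ n := by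
      rw [hspanQ]
      have : (Set.range fun i => Ideal.Quotient.mk J (y i)) =
          ((Finset.univ.image fun i => Ideal.Quotient.mk J (y i) : Finset (A ⧸ J)) : Set (A ⧸ J)) := by simp
      rw [this]
      exact (Submodule.spanFinrank_span_le_ncard_of_finite (Finset.finite_toSet _)).trans
        (by rw [Set.ncard_coe_finset]; exact Finset.card_image_le.trans (by simp [n]))
    have h5 := ringKrullDim_le_spanFinrank_maximalIdeal (R := A ⧸ J)
    rw [he] at h5
    have h5' : e ≤ (maximalIdeal (A ⧸ J)).spanFinrank := by exact_mod_cast h5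
    refine ⟨?_, IsRegularLocalRing.of_spanFinrank_maximalIdeal_le _ ?_⟩
    · rw [he, hd]; exact_mod_cast (by omega : e + r = d)
    · rw [he]; exact_mod_cast (by omega : (maximalIdeal (A ⧸ J)).spanFinrank ≤ e)
  · rintro ⟨hdim, hQ⟩
    rw [he, hd] at hdim
    have hdim' : e + r = d := by exact_mod_cast hdim
    have hq : (maximalIdeal (A ⧸ J)).spanFinrank = e := by
      have := IsRegularLocalRing.spanFinrank_maximalIdeal (R := A ⧸ J)
      rw [he] at this; exact_mod_cast this
    obtain ⟨S, hcard, hS⟩ := Submodule.FG.exists_span_finset_card_eq_spanFinrank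
      (maximalIdeal (A ⧸ J)).fg_of_isNoetherianRing
    have hlift : ∀ q : S, ∃ a : maximalIdeal A, Ideal.Quotient.mk J a = q := fun q => by
      have : (q : A ⧸ J) ∈ maximalIdeal (A ⧸ J) := hS ▸ Submodule.subset_span q.2
      rw [maximalIdeal_quotient_eq hJ,
        Ideal.mem_map_iff_of_surjective _ Ideal.Quotient.mk_surjective] at this
      obtain ⟨a, ha, haq⟩ := this
      exact ⟨⟨a, ha⟩, haq⟩
    choose z hz using hlift
    have hspan : Ideal.span (Subtype.val '' (Set.range x ∪ Set.range z)) = maximalIdeal A := by
      refine le_antisymm (Ideal.span_le.mpr ?_) fun a ha => ?_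
      · rintro _ ⟨a, -, rfl⟩; exact a.2
      · have h0 : Ideal.Quotient.mk J a ∈ (Ideal.span (Subtype.val '' Set.range z)).map (Ideal.Quotient.mk J) := by
          rw [Ideal.map_span]
          have : Ideal.Quotient.mk J a ∈ maximalIdeal (A ⧸ J) := by
            rw [maximalIdeal_quotient_eq hJ]; exact Ideal.mem_map_of_mem _ ha
          rw [← hS] at this
          refine Submodule.span_mono ?_ this
          intro q hq
          exact ⟨_, ⟨_, ⟨⟨q, hq⟩, rfl⟩, rfl⟩, hz _⟩
        obtain ⟨b, hb, hbe⟩ := (Ideal.mem_map_iff_of_surjective _ Ideal.Quotient.mk_surjective).mp h0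
        rw [Set.image_union, Ideal.span_union, ← Set.range_comp]
        exact Submodule.mem_sup.mpr ⟨a - b, Ideal.Quotient.eq.mp hbe.symm, b, hb, sub_add_cancel a b⟩
    have hcardS : S.card = e := hcard.trans hq
    have hfin : Module.finrank (ResidueField A) (CotangentSpace A) = d := by
      have hsp := (span_eq_maximalIdeal_iff _).mp hspan
      have hge := ringKrullDim_le_spanFinrank_maximalIdeal (R := A)
      rw [hd, spanFinrank_maximalIdeal_eq_finrank_cotangentSpace] at hge
      refine le_antisymm ?_ (by exact_mod_cast hge)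
      rw [Set.image_union, ← Set.range_comp, ← Set.range_comp, ← Set.Sum.elim_range] at hsp
      have h := finrank_range_le_card (R := ResidueField A)
        (Sum.elim ((maximalIdeal A).toCotangent ∘ x) ((maximalIdeal A).toCotangent ∘ z))
      rw [Set.finrank, hsp, finrank_top, Fintype.card_sum, Fintype.card_fin, Fintype.card_coe, hcardS] at h
      change Module.finrank (ResidueField A) (CotangentSpace A) ≤ r + e at h
      omega
    refine ⟨(IsRegularLocalRing.iff_finrank_cotangentSpace A).mpr (by rw [hfin, hd]), ?_⟩
    have hsp := (span_eq_maximalIdeal_iff _).mp hspan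
    rw [Set.image_union, ← Set.range_comp, ← Set.range_comp, ← Set.Sum.elim_range] at hsp
    have hli := linearIndependent_of_top_le_span_of_card_eq_finrank (R := ResidueField A)
      (b := Sum.elim ((maximalIdeal A).toCotangent ∘ x) ((maximalIdeal A).toCotangent ∘ z)) hsp.ge
      (by rw [hfin, Fintype.card_sum, Fintype.card_fin, Fintype.card_coe, hcardS]; omega)
    exact hli.comp Sum.inl Sum.inl_injective
  · exact (Ideal.Quotient.isDomain_iff_prime J).mp (CAlg1.isDomain_regular (A ⧸ J))

end Groth.Agent.EGA4Alg4
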