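import Mathlib

/-! Krull dimension and integral extensions; dimension of modules and restriction of scalars. -/

set_option autoImplicit false
universe u v w

namespace Groth.Agent.EGA4Alg4

variable (A : Type u) (B : Type v) [CommRing A] [CommRing B] [Algebra A B] [Algebra.IsIntegral A B]

theorem ringKrullDim_le_of_integral : ringKrullDim B ≤ ringKrullDim A :=
  Order.krullDim_le_of_strictMono (PrimeSpectrum.comap (algebraMap A B))
    fun _ _ h => Ideal.IsIntegral.comap_lt_comap h

theorem ringKrullDim_eq_of_integral (hinj : Function.Injective (algebraMap A B)) :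
    ringKrullDim B = ringKrullDim A := by
  refine le_antisymm (ringKrullDim_le_of_integral A B) ?_
  refine iSup_le fun l => ?_
  obtain ⟨Q, -, hQ, hQc⟩ := Ideal.exists_ideal_over_prime_of_isIntegral (S := B) l.head.asIdeal ⊥
    (by rw [← RingHom.ker_eq_comap_bot, (RingHom.injective_iff_ker_eq_bot _).mp hinj]; exact bot_le)
  have : Q.LiesOver l.head.asIdeal := ⟨hQc.symm⟩
  obtain ⟨L, hL, -, -⟩ := Ideal.exists_ltSeries_of_hasGoingUp l Q
  exact le_of_eq_of_le (by rw [hL]) (le_iSup _ L)

omit [Algebra.IsIntegral A B] in
theorem supportDim_eq_of_finite_restrictScalars (M : Type w) [AddCommGroup M] [Module B M] [Module A M]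
    [IsScalarTower A B M] [Module.Finite A M] :
    Module.supportDim A M = Module.supportDim B M := by
  have : Module.Finite B M := Module.Finite.of_restrictScalars_finite A B M
  rw [Module.supportDim_eq_ringKrullDim_quotient_annihilator,
    Module.supportDim_eq_ringKrullDim_quotient_annihilator]
  set J := Module.annihilator B M
  have hI : Module.annihilator A M = J.comap (algebraMap A B) := by
    rw [Module.comap_annihilator]
  rw [hI]
  let f : (B ⧸ J) →ₐ[A] Module.End A M := Ideal.Quotient.liftₐ J (Algebra.lsmul A A M)
    (fun b hb => LinearMap.ext fun m => Module.mem_annihilator.mp hb m)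
  have hf : Function.Injective f := by
    rw [injective_iff_map_eq_zero]
    intro x hx
    obtain ⟨b, rfl⟩ := Ideal.Quotient.mk_surjective x
    rw [Ideal.Quotient.eq_zero_iff_mem]
    exact Module.mem_annihilator.mpr fun m => congrArg (fun g : Module.End A M => g m) hx
  letI : Algebra (A ⧸ J.comap (algebraMap A B)) (B ⧸ J) := Ideal.quotientAlgebra
  have : IsScalarTower A (A ⧸ J.comap (algebraMap A B)) (B ⧸ J) := .of_algebraMap_eq fun _ => rfl
  have hint : Algebra.IsIntegral A (B ⧸ J) :=
    ⟨fun x => (isIntegral_algHom_iff f hf).mp (Algebra.IsIntegral.isIntegral _)⟩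
  have : Algebra.IsIntegral (A ⧸ J.comap (algebraMap A B)) (B ⧸ J) :=
    ⟨fun x => (hint.isIntegral x).tower_top⟩
  exact (ringKrullDim_eq_of_integral _ _ Ideal.algebraMap_quotient_injective).symm

end Groth.Agent.EGA4Alg4
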