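import Mathlib

/-! Criteria for injective and projective dimension through cyclic modules. -/

set_option autoImplicit false
universe u

open CategoryTheory Abelian

namespace Groth.Agent.EGA4Alg4

variable {A : Type u} [CommRing A]

theorem injective_of_ext_one_cyclic (M : ModuleCat.{u} A)
    (h : ∀ I : Ideal A, Subsingleton (Ext (ModuleCat.of A (A ⧸ I)) M 1)) : Injective M := by
  rw [← Module.injective_iff_injective_object, ← Module.Baer.iff_injective]
  intro I g
  have hS := LinearMap.shortExact_shortComplexKer I.mkQ_surjective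
  let g' : ↥(LinearMap.ker I.mkQ) →ₗ[A] M :=
    g.comp (LinearEquiv.ofEq _ _ I.ker_mkQ).toLinearMap
  obtain ⟨x₂, hx₂⟩ := Ext.contravariant_sequence_exact₁ hS M
    (Ext.mk₀ (ModuleCat.ofHom g' : I.mkQ.shortComplexKer.X₁ ⟶ M)) (add_zero 1)
    (@Subsingleton.elim _ (h I) _ _)
  obtain ⟨φ, rfl⟩ := Ext.homEquiv₀.symm.surjective x₂
  rw [show Ext.homEquiv₀.symm φ = Ext.mk₀ φ from rfl, Ext.mk₀_comp_mk₀,
    (Ext.mk₀_bijective _ _).1.eq_iff] at hx₂
  refine ⟨φ.hom, fun x hx => ?_⟩
  exact LinearMap.congr_fun (congrArg ModuleCat.Hom.hom hx₂) ⟨x, by simpa using hx⟩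

theorem hasInjectiveDimensionLT_of_ext_cyclic (n : ℕ) (M : ModuleCat.{u} A)
    (h : ∀ I : Ideal A, Subsingleton (Ext (ModuleCat.of A (A ⧸ I)) M (n + 1))) :
    HasInjectiveDimensionLT M (n + 1) := by
  induction n generalizing M with
  | zero => exact injective_iff_hasInjectiveDimensionLT_one.mp (injective_of_ext_one_cyclic M h)
  | succ n ih =>
    obtain ⟨p⟩ := EnoughInjectives.presentation M
    let S := ShortComplex.mk p.f (Limits.cokernel.π p.f) (Limits.cokernel.condition p.f)
    have hS : S.ShortExact := { exact := ShortComplex.exact_cokernel p.f }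
    have hinj : Injective S.X₂ := p.injective
    rw [← hS.hasInjectiveDimensionLT_X₃_iff n hinj]
    refine ih S.X₃ fun I => ⟨fun a b => ?_⟩
    rw [← sub_eq_zero]
    generalize a - b = c
    obtain ⟨x, rfl⟩ := Ext.covariant_sequence_exact₃ _ hS c (rfl : n + 1 + 1 = n + 2)
      (@Subsingleton.elim _ (h I) _ _)
    rw [Ext.eq_zero_of_injective x, Ext.zero_comp]

theorem hasProjectiveDimensionLT_of_cyclic (n : ℕ)
    (h : ∀ I : Ideal A, HasProjectiveDimensionLT (ModuleCat.of A (A ⧸ I)) (n + 1))
    (M : ModuleCat.{u} A) : HasProjectiveDimensionLT M (n + 1) := by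
  refine hasProjectiveDimensionLT_of_enoughInjectives M (n + 1) fun Y => ?_
  have : HasInjectiveDimensionLT Y (n + 1) := hasInjectiveDimensionLT_of_ext_cyclic n Y fun I =>
    @HasProjectiveDimensionLT.subsingleton _ _ _ _ _ _ (h I) (n + 1) le_rfl Y
  exact HasInjectiveDimensionLT.subsingleton Y (n + 1) _ le_rfl M

theorem subsingleton_ext_X₂_covariant {S : ShortComplex (ModuleCat.{u} A)} (hS : S.ShortExact)
    (X : ModuleCat.{u} A) (n : ℕ) (h₁ : Subsingleton (Ext X S.X₁ n)) (h₃ : Subsingleton (Ext X S.X₃ n)) :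
    Subsingleton (Ext X S.X₂ n) := by
  refine subsingleton_of_forall_eq 0 fun c => ?_
  obtain ⟨x, rfl⟩ := Ext.covariant_sequence_exact₂ X hS c (h₃.elim _ _)
  rw [h₁.elim x 0, Ext.zero_comp]

theorem subsingleton_ext_X₂_contravariant {S : ShortComplex (ModuleCat.{u} A)} (hS : S.ShortExact)
    (X : ModuleCat.{u} A) (n : ℕ) (h₁ : Subsingleton (Ext S.X₁ X n)) (h₃ : Subsingleton (Ext S.X₃ X n)) :
    Subsingleton (Ext S.X₂ X n) := by
  refine subsingleton_of_forall_eq 0 fun c => ?_
  obtain ⟨x, rfl⟩ := Ext.contravariant_sequence_exact₂ hS X c (h₁.elim _ _)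
  rw [h₃.elim x 0, Ext.comp_zero]

variable [IsNoetherianRing A]

/-- A property of finite modules that is stable under extensions and isomorphisms holds for all
finite modules with annihilator above `J` as soon as it holds for `A ⧸ q` for all primes `q ≥ J`. -/
theorem finite_induction_of_le_annihilator (J : Ideal A)
    (P : ModuleCat.{u} A → Prop)
    (iso : ∀ X Y : ModuleCat.{u} A, (X ≅ Y) → P X → P Y)
    (zero : ∀ X : ModuleCat.{u} A, Limits.IsZero X → P X)
    (ext : ∀ S : ShortComplex (ModuleCat.{u} A), S.ShortExact → P S.X₁ → P S.X₃ → P S.X₂)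
    (quot : ∀ q : PrimeSpectrum A, J ≤ q.asIdeal → P (ModuleCat.of A (A ⧸ q.asIdeal)))
    (N : ModuleCat.{u} A) [Module.Finite A N] (hN : J ≤ Module.annihilator A N) : P N := by
  have key : ∀ (N : Type u) [AddCommGroup N] [Module A N] [Module.Finite A N],
      J ≤ Module.annihilator A N → P (ModuleCat.of A N) := by
    intro N _ _ hfin
    induction hfin using IsNoetherianRing.induction_on_isQuotientEquivQuotientPrime A with
    | subsingleton N =>
      exact fun _ => zero _ (ModuleCat.isZero_of_subsingleton _)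
    | quotient N p e =>
      intro hJ
      rw [e.annihilator_eq, Ideal.annihilator_quotient] at hJ
      exact iso _ _ e.symm.toModuleIso (quot p hJ)
    | exact N₁ N₂ N₃ f g hf hg hfg ih₁ ih₃ =>
      intro hJ
      refine ext (ShortComplex.mk (ModuleCat.ofHom f) (ModuleCat.ofHom g) ?_) ?_
        (ih₁ (hJ.trans (f.annihilator_le_of_injective hf)))
        (ih₃ (hJ.trans (g.annihilator_le_of_surjective hg)))
      · ext x; exact hfg.apply_apply_eq_zero x
      · refine { exact := ?_, mono_f := ?_, epi_g := ?_ }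
        · exact (ShortComplex.ShortExact.moduleCat_exact_iff_function_exact _).mpr hfg
        · exact (ModuleCat.mono_iff_injective _).mpr hf
        · exact (ModuleCat.epi_iff_surjective _).mpr hg
  exact key N hN

theorem subsingleton_ext_of_forall_prime {J : Ideal A} (X : ModuleCat.{u} A) (n : ℕ)
    (quot : ∀ q : PrimeSpectrum A, J ≤ q.asIdeal → Subsingleton (Ext (ModuleCat.of A (A ⧸ q.asIdeal)) X n))
    (N : ModuleCat.{u} A) [Module.Finite A N] (hN : J ≤ Module.annihilator A N) :
    Subsingleton (Ext N X n) := by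
  refine finite_induction_of_le_annihilator J (fun N => Subsingleton (Ext N X n)) ?_ ?_ ?_ quot N hN
  · intro Y Z e h
    refine subsingleton_of_forall_eq 0 fun c => ?_
    have : (Ext.mk₀ e.inv).comp ((Ext.mk₀ e.hom).comp c (zero_add n)) (zero_add n) = c := by
      rw [Ext.mk₀_comp_mk₀_assoc, e.inv_hom_id, Ext.mk₀_id_comp]
    rw [← this, h.elim ((Ext.mk₀ e.hom).comp c (zero_add n)) 0, Ext.comp_zero]
  · intro Y hY
    refine subsingleton_of_forall_eq 0 fun c => ?_
    rw [← Ext.mk₀_id_comp c, hY.eq_of_src (𝟙 Y) 0, Ext.mk₀_zero, Ext.zero_comp]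
  · intro S hS; exact subsingleton_ext_X₂_contravariant hS X n

theorem hasProjectiveDimensionLT_of_ext_cyclic (n : ℕ) (M : ModuleCat.{u} A) [Module.Finite A M]
    (h : ∀ I : Ideal A, Subsingleton (Ext M (ModuleCat.of A (A ⧸ I)) (n + 1))) :
    HasProjectiveDimensionLT M (n + 1) := by
  refine ModuleCat.hasProjectiveDimensionLT_of_forall_finite M (n + 1) fun L _ => ?_
  refine finite_induction_of_le_annihilator ⊥ (fun L => Subsingleton (Ext M L (n + 1))) ?_ ?_ ?_
    (fun q _ => h _) L bot_le
  · intro Y Z e hYZ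
    refine subsingleton_of_forall_eq 0 fun c => ?_
    have : (c.comp (Ext.mk₀ e.inv) (add_zero _)).comp (Ext.mk₀ e.hom) (add_zero _) = c := by
      simp
    rw [← this, hYZ.elim (c.comp (Ext.mk₀ e.inv) (add_zero _)) 0, Ext.zero_comp]
  · intro Y hY
    refine subsingleton_of_forall_eq 0 fun c => ?_
    rw [← Ext.comp_mk₀_id c, hY.eq_of_src (𝟙 Y) 0, Ext.mk₀_zero, Ext.comp_zero]
  · intro S hS; exact subsingleton_ext_X₂_covariant hS M (n + 1)

open IsLocalRing in
/-- If `Ext^i(k, X) = 0` for all `i > n`, the same holds for every finite module in place of `k`. -/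
theorem subsingleton_ext_of_residueField [IsLocalRing A] (n : ℕ) (X : ModuleCat.{u} A) [Module.Finite A X]
    (h : ∀ i, n < i → Subsingleton (Ext (ModuleCat.of A (ResidueField A)) X i))
    (N : ModuleCat.{u} A) [Module.Finite A N] (i : ℕ) (hi : n < i) : Subsingleton (Ext N X i) := by
  suffices H : ∀ (p : Ideal A), p.IsPrime → ∀ i, n < i → Subsingleton (Ext (ModuleCat.of A (A ⧸ p)) X i) from
    subsingleton_ext_of_forall_prime (J := ⊥) X i (fun q _ => H q.asIdeal q.isPrime i hi) N bot_le
  intro p
  induction p using IsNoetherian.induction with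
  | hgt p IH =>
    intro hp i hi
    by_cases hpm : p = maximalIdeal A
    · subst hpm; exact h i hi
    obtain ⟨x, hxm, hxp⟩ := SetLike.exists_of_lt (lt_of_le_of_ne (le_maximalIdeal hp.ne_top) hpm)
    let P : ModuleCat.{u} A := ModuleCat.of A (A ⧸ p)
    have reg : IsSMulRegular P x := by
      change IsSMulRegular (A ⧸ p) x
      rw [isSMulRegular_iff_right_eq_zero_of_smul]
      intro y hy
      obtain ⟨y, rfl⟩ := Ideal.Quotient.mk_surjective y
      rw [Ideal.Quotient.eq_zero_iff_mem]
      change Ideal.Quotient.mk p (x * y) = 0 at hy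
      exact (hp.mem_or_mem (Ideal.Quotient.eq_zero_iff_mem.mp hy)).resolve_left hxp
    have hQ : Subsingleton (Ext (ModuleCat.of A (QuotSMulTop x (A ⧸ p))) X (i + 1)) := by
      refine subsingleton_ext_of_forall_prime (J := p ⊔ Ideal.span {x}) X (i + 1) (fun q hq => ?_) _ ?_
      · refine IH q.asIdeal (lt_of_le_of_ne (le_sup_left.trans hq) ?_) q.isPrime (i + 1) (by omega)
        rintro rfl
        exact hxp (hq (le_sup_right (a := q.asIdeal) (Ideal.mem_span_singleton_self x)))
      · refine sup_le ?_ ((Ideal.span_singleton_le_iff_mem _).mpr (QuotSMulTop.mem_annihilator _ x))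
        calc p = Module.annihilator A (A ⧸ p) := Ideal.annihilator_quotient.symm
          _ ≤ _ := (Submodule.mkQ _).annihilator_le_of_surjective (Submodule.mkQ_surjective _)
    have hS : (P.smulShortComplex x).ShortExact := reg.smulShortComplex_shortExact
    have hfin : Module.Finite A (Ext P X i) := inferInstance
    by_contra hne
    have hjac : x ∈ (Module.annihilator A (Ext P X i)).jacobson := maximalIdeal_le_jacobson _ hxm
    rw [not_subsingleton_iff_nontrivial] at hne
    apply Submodule.top_ne_pointwise_smul_of_mem_jacobson_annihilator (M := Ext P X i) hjac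
    rw [eq_comm, eq_top_iff]
    intro c _
    obtain ⟨d, hd⟩ := Ext.contravariant_sequence_exact₁ hS X c (n₁ := i + 1) (add_comm 1 i) (hQ.elim _ _)
    simp only [ModuleCat.smulShortComplex_f_eq_smul_id] at hd
    refine (Submodule.mem_smul_pointwise_iff_exists _ _ _).mpr ⟨d, trivial, ?_⟩
    refine Eq.trans ?_ hd
    have key : ∀ e : Ext P X i, x • e = (Ext.mk₀ (x • 𝟙 P)).comp e (zero_add i) := fun e => by
      rw [Ext.mk₀_smul, Ext.smul_comp, Ext.mk₀_id_comp]
    exact key d

theorem hasProjectiveDimensionLT_of_residueField [IsLocalRing A] (n : ℕ)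
    (hk : HasProjectiveDimensionLT (ModuleCat.of A (IsLocalRing.ResidueField A)) (n + 1))
    (M : ModuleCat.{u} A) : HasProjectiveDimensionLT M (n + 1) := by
  refine hasProjectiveDimensionLT_of_cyclic n (fun I => ?_) M
  refine ModuleCat.hasProjectiveDimensionLT_of_forall_finite _ (n + 1) fun L _ => ?_
  exact subsingleton_ext_of_residueField n L
    (fun i hi => HasProjectiveDimensionLT.subsingleton _ (n + 1) i hi L) _ (n + 1) (by omega)

end Groth.Agent.EGA4Alg4
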