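import Groth.Agent.EGA4Alg4.Depth

/-! Depth and change of rings: finite local homomorphisms, flat unramified-at-the-point extensions. -/

set_option autoImplicit false
set_option linter.unusedSectionVars false
universe u

open scoped Pointwise TensorProduct
open IsLocalRing RingTheory.Sequence Module

namespace Groth.Agent.EGA4Alg4

section Equiv

variable {A : Type u} [CommRing A] [IsLocalRing A] {M N : Type u} [AddCommGroup M] [Module A M]
  [AddCommGroup N] [Module A N]

theorem depth_eq_of_equiv (e : M ≃ₗ[A] N) : LocCoh.depth A M = LocCoh.depth A N := by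
  have h : maximalIdeal A • (⊤ : Submodule A M) = ⊤ ↔ maximalIdeal A • (⊤ : Submodule A N) = ⊤ := by
    have hmap : (maximalIdeal A • (⊤ : Submodule A M)).map e.toLinearMap =
        maximalIdeal A • (⊤ : Submodule A N) := by
      rw [Submodule.map_smul'', Submodule.map_top, LinearEquiv.range]
    rw [← hmap]
    constructor
    · intro h1; rw [h1, Submodule.map_top, LinearEquiv.range]
    · intro h1
      exact Submodule.map_injective_of_injective e.injective
        (h1.trans (by rw [Submodule.map_top, LinearEquiv.range]))
  unfold LocCoh.depth LocCoh.idealDepth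
  simp only [h, e.isWeaklyRegular_congr]

end Equiv

variable {A B : Type u} [CommRing A] [CommRing B] [IsLocalRing A] [IsLocalRing B]
  [IsNoetherianRing A] [IsNoetherianRing B] [Algebra A B]

theorem map_mem_maximalIdeal [IsLocalHom (algebraMap A B)] {x : A} (hx : x ∈ maximalIdeal A) :
    algebraMap A B x ∈ maximalIdeal B :=
  map_maximalIdeal_le (algebraMap A B) (Ideal.mem_map_of_mem _ hx)

/-- Scalars can be moved in `QuotSMulTop`. -/
noncomputable def quotSMulTopRestrictEquiv (M : Type u) [AddCommGroup M] [Module B M] [Module A M]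
    [IsScalarTower A B M] (x : A) :
    QuotSMulTop x M ≃ₗ[A] QuotSMulTop (algebraMap A B x) M :=
  Submodule.quotEquivOfEq (x • (⊤ : Submodule A M))
      ((algebraMap A B x • (⊤ : Submodule B M)).restrictScalars A) (by
    ext z
    simp [Submodule.mem_smul_pointwise_iff_exists, algebraMap_smul]) ≪≫ₗ
  Submodule.Quotient.restrictScalarsEquiv A _

section FiniteHom

variable [IsLocalHom (algebraMap A B)]

theorem maximalIdeal_mem_assoc_iff_of_finite (M : Type u) [AddCommGroup M] [Module B M] [Module A M]
    [IsScalarTower A B M] [Module.Finite A M] :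
    maximalIdeal A ∈ associatedPrimes A M ↔ maximalIdeal B ∈ associatedPrimes B M := by
  have : Module.Finite B M := Module.Finite.of_restrictScalars_finite A B M
  rcases subsingleton_or_nontrivial M with hM | hM
  · simp [associatedPrimes.eq_empty_of_subsingleton]
  constructor
  · intro h
    obtain ⟨-, x, hx⟩ := isAssociatedPrime_iff.mp h
    let N : Submodule B M := Submodule.torsionBySet B M
      ((maximalIdeal A).map (algebraMap A B) : Set B)
    have hxN : x ∈ N := by
      refine (Submodule.mem_torsionBySet_iff _ _).mpr fun ⟨b, hb⟩ => ?_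
      change b • x = 0
      refine Submodule.span_induction ?_ ?_ ?_ ?_ hb
      · rintro _ ⟨a, ha, rfl⟩
        rw [hx] at ha
        simpa [algebraMap_smul] using Submodule.mem_colon_singleton.mp ha
      · simp
      · intro a b _ _ ha hb
        rw [add_smul, ha, hb, add_zero]
      · intro a b _ hb
        rw [smul_eq_mul, mul_smul, hb, smul_zero]
    have hx0 : x ≠ 0 := by
      rintro rfl
      exact h.isPrime.ne_top (hx.trans (by simp))
    have : Nontrivial N := ⟨⟨x, hxN⟩, 0, fun hc => hx0 (congrArg Subtype.val hc)⟩
    obtain ⟨q, hq⟩ := associatedPrimes.nonempty B N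
    refine associatedPrimes.subset_of_injective (Submodule.injective_subtype N) ?_
    have hle : (maximalIdeal A).map (algebraMap A B) ≤ q :=
      le_trans (le_trans (fun b hb => Module.mem_annihilator.mpr fun n => Subtype.ext
        ((Submodule.mem_torsionBySet_iff _ _).mp n.2 ⟨b, hb⟩)) Submodule.annihilator_top.symm.le)
        hq.annihilator_le
    suffices hqm : q = maximalIdeal B by rwa [← hqm]
    have := hq.isPrime
    obtain ⟨-, f, hf⟩ := (isAssociatedPrime_iff_exists_injective_linearMap ..).mp hq
    have hfin : Module.Finite A (B ⧸ q) := by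
      have : IsNoetherian A M := inferInstance
      exact Module.Finite.of_injective ((N.subtype.comp f).restrictScalars A)
        ((Submodule.injective_subtype N).comp hf)
    have hcomap : maximalIdeal A ≤ q.comap (algebraMap A B) := Ideal.map_le_iff_le_comap.mp hle
    have hmaxc : (q.comap (algebraMap A B)).IsMaximal := by
      rw [← le_antisymm hcomap (le_maximalIdeal (Ideal.comap_ne_top _ hq.isPrime.ne_top))]
      infer_instance
    have : Algebra.IsIntegral A (B ⧸ q) := Algebra.IsIntegral.of_finite A _
    have h2 : ((⊥ : Ideal (B ⧸ q)).comap (algebraMap A (B ⧸ q))).IsMaximal := by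
      rw [IsScalarTower.algebraMap_eq A B (B ⧸ q), ← Ideal.comap_comap, Ideal.Quotient.algebraMap_eq,
        ← RingHom.ker_eq_comap_bot, Ideal.mk_ker]
      exact hmaxc
    have h3 := Ideal.isMaximal_of_isIntegral_of_isMaximal_comap (⊥ : Ideal (B ⧸ q)) h2
    have h4 : q.IsMaximal := by
      have := Ideal.comap_isMaximal_of_surjective (Ideal.Quotient.mk q) Ideal.Quotient.mk_surjective
        (K := (⊥ : Ideal (B ⧸ q)))
      rwa [← RingHom.ker_eq_comap_bot, Ideal.mk_ker] at this
    exact IsLocalRing.eq_maximalIdeal h4
  · intro h
    rw [maximalIdeal_mem_assoc_iff] at h ⊢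
    intro x hx hreg
    refine h _ (map_mem_maximalIdeal hx) ?_
    intro a b hab
    exact hreg (by simpa [algebraMap_smul] using hab)

theorem depth_eq_of_finite (M : Type u) [AddCommGroup M] [Module B M] [Module A M]
    [IsScalarTower A B M] [Module.Finite A M] :
    LocCoh.depth A M = LocCoh.depth B M := by
  rcases subsingleton_or_nontrivial M with hM | hM
  · simp [depth_of_subsingleton]
  obtain ⟨n, hn⟩ := exists_depth_eq (A := A) (M := M)
  induction n generalizing M with
  | zero =>
    have : Module.Finite B M := Module.Finite.of_restrictScalars_finite A B M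
    rw [Nat.cast_zero] at hn
    rw [hn, eq_comm, depth_eq_zero_iff, ← maximalIdeal_mem_assoc_iff_of_finite (A := A),
      ← depth_eq_zero_iff]
    exact hn
  | succ n ih =>
    have : Module.Finite B M := Module.Finite.of_restrictScalars_finite A B M
    obtain ⟨x, hx, hreg⟩ : ∃ x ∈ maximalIdeal A, IsSMulRegular M x := by
      by_contra! hc
      have := depth_eq_zero_iff.mpr (maximalIdeal_mem_assoc_iff.mpr hc)
      rw [hn] at this
      exact Nat.succ_ne_zero n (by exact_mod_cast this)
    have hreg' : IsSMulRegular M (algebraMap A B x) := fun a b hab =>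
      hreg (by simpa [algebraMap_smul] using hab)
    let e := quotSMulTopRestrictEquiv (B := B) M x
    have : Nontrivial (QuotSMulTop (algebraMap A B x) M) :=
      nontrivial_quotSMulTop_of_mem_maximalIdeal M (map_mem_maximalIdeal hx)
    have : Module.Finite A (QuotSMulTop (algebraMap A B x) M) := Module.Finite.equiv e
    rw [← depth_quotSMulTop_add_one hx hreg, ← depth_quotSMulTop_add_one (map_mem_maximalIdeal hx) hreg',
      depth_eq_of_equiv e]
    congr 1
    refine ih _ inferInstance ?_
    obtain ⟨k, hk⟩ := exists_depth_eq (A := A) (M := QuotSMulTop (algebraMap A B x) M)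
    rw [← depth_quotSMulTop_add_one hx hreg, depth_eq_of_equiv e, hk] at hn
    have : k + 1 = n + 1 := by exact_mod_cast hn
    rw [hk, show k = n by omega]

end FiniteHom

section Flat

theorem depth_baseChange_eq [Module.Flat A B] (hm : (maximalIdeal A).map (algebraMap A B) = maximalIdeal B)
    (M : Type u) [AddCommGroup M] [Module A M] [Module.Finite A M] :
    LocCoh.depth B (B ⊗[A] M) = LocCoh.depth A M := by
  have hloc : IsLocalHom (algebraMap A B) :=
    ((local_hom_TFAE (algebraMap A B)).out 2 0 rfl rfl).mp hm.le
  have : Module.FaithfullyFlat A B := Module.FaithfullyFlat.of_flat_of_isLocalHom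
  rcases subsingleton_or_nontrivial M with hM | hM
  · simp [depth_of_subsingleton]
  obtain ⟨n, hn⟩ := exists_depth_eq (A := A) (M := M)
  induction n generalizing M with
  | zero =>
    rw [Nat.cast_zero] at hn
    rw [hn, depth_eq_zero_iff, maximalIdeal_mem_assoc_iff]
    obtain ⟨-, c, hc⟩ := isAssociatedPrime_iff.mp (depth_eq_zero_iff.mp hn)
    intro b hb hreg
    have hc0 : c ≠ 0 := by
      rintro rfl
      exact (depth_eq_zero_iff.mp hn).isPrime.ne_top (hc.trans (by simp))
    have h1 : (1 : B) ⊗ₜ[A] c ≠ 0 := fun h =>
      hc0 (Module.FaithfullyFlat.tensorProduct_mk_injective (A := A) (B := B) M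
        (h.trans (TensorProduct.tmul_zero M (1 : B)).symm))
    refine h1 (hreg.right_eq_zero_of_smul ?_)
    rw [← hm] at hb
    refine Submodule.span_induction ?_ ?_ ?_ ?_ hb
    · rintro _ ⟨a, ha, rfl⟩
      rw [SetLike.mem_coe, hc, Submodule.mem_colon_singleton, Submodule.mem_bot] at ha
      rw [algebraMap_smul, ← TensorProduct.tmul_smul, ha, TensorProduct.tmul_zero]
    · simp
    · intro a b _ _ ha hb
      rw [add_smul, ha, hb, add_zero]
    · intro a b _ hb
      rw [smul_eq_mul, mul_smul, hb, smul_zero]
  | succ n ih =>
    obtain ⟨x, hx, hreg⟩ : ∃ x ∈ maximalIdeal A, IsSMulRegular M x := by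
      by_contra! hc
      have := depth_eq_zero_iff.mpr (maximalIdeal_mem_assoc_iff.mpr hc)
      rw [hn] at this
      exact Nat.succ_ne_zero n (by exact_mod_cast this)
    have hreg' : IsSMulRegular (B ⊗[A] M) (algebraMap A B x) :=
      hreg.of_flat_of_isBaseChange (TensorProduct.isBaseChange A M B)
    have := nontrivial_quotSMulTop_of_mem_maximalIdeal M hx
    have e := QuotSMulTop.algebraMapTensorEquivTensorQuotSMulTop x M B
    rw [← depth_quotSMulTop_add_one hx hreg,
      ← depth_quotSMulTop_add_one (map_mem_maximalIdeal hx) hreg', depth_eq_of_equiv e]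
    congr 1
    refine ih _ inferInstance ?_
    obtain ⟨k, hk⟩ := exists_depth_eq (A := A) (M := QuotSMulTop x M)
    rw [← depth_quotSMulTop_add_one hx hreg, hk] at hn
    have : k + 1 = n + 1 := by exact_mod_cast hn
    rw [hk, show k = n by omega]

end Flat

end Groth.Agent.EGA4Alg4
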