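import Mathlib

/-! The dimension inequality for a local homomorphism, for rings and modules. -/

set_option autoImplicit false
universe u v w w'

open IsLocalRing TensorProduct

namespace Groth.Agent.EGA4Alg4

theorem ringKrullDim_le_add_fibre (A : Type u) (B : Type v) [CommRing A] [CommRing B]
    [IsLocalRing A] [IsLocalRing B] [IsNoetherianRing A] [IsNoetherianRing B] [Algebra A B]
    [IsLocalHom (algebraMap A B)] :
    ringKrullDim B ≤ ringKrullDim A + ringKrullDim (B ⧸ (maximalIdeal A).map (algebraMap A B)) := by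
  have hlo : (maximalIdeal B).LiesOver (maximalIdeal A) :=
    ⟨(maximalIdeal_comap (algebraMap A B)).symm⟩
  have h := Ideal.height_le_height_add_of_liesOver (maximalIdeal A) (maximalIdeal B)
  have hle : (maximalIdeal A).map (algebraMap A B) ≤ maximalIdeal B :=
    Ideal.map_le_iff_le_comap.mpr hlo.over.le
  rw [← maximalIdeal_height_eq_ringKrullDim, ← maximalIdeal_height_eq_ringKrullDim]
  refine (WithBot.coe_le_coe.mpr h).trans ?_
  rw [WithBot.coe_add]
  refine add_le_add le_rfl ?_
  have : ((maximalIdeal B).map (Ideal.Quotient.mk ((maximalIdeal A).map (algebraMap A B)))).IsPrime :=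
    Ideal.isPrime_map_quotientMk_of_isPrime hle
  exact Ideal.height_le_ringKrullDim_of_ne_top Ideal.IsPrime.ne_top'

variable {A : Type u} {B : Type v} [CommRing A] [CommRing B] [IsLocalRing A] [IsLocalRing B]
  [IsNoetherianRing A] [IsNoetherianRing B] [Algebra A B] [IsLocalHom (algebraMap A B)]

/-- The inequality for the pair of quotient rings `A ⧸ I → B ⧸ J`. -/
theorem ringKrullDim_quotient_le_add_fibre (I : Ideal A) (hI : I ≠ ⊤) (J : Ideal B)
    (hIJ : I.map (algebraMap A B) ≤ J) :
    ringKrullDim (B ⧸ J) ≤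
      ringKrullDim (A ⧸ I) + ringKrullDim (B ⧸ (J ⊔ (maximalIdeal A).map (algebraMap A B))) := by
  rcases eq_or_ne J ⊤ with rfl | hJ
  · rw [ringKrullDim_eq_bot_of_subsingleton]; exact bot_le
  have hm : (maximalIdeal A).map (algebraMap A B) ≤ maximalIdeal B :=
    map_maximalIdeal_le _
  let φ : (A ⧸ I) →+* (B ⧸ J) := Ideal.quotientMap J (algebraMap A B) (Ideal.map_le_iff_le_comap.mp hIJ)
  letI : Algebra (A ⧸ I) (B ⧸ J) := φ.toAlgebra
  have hnA : Nontrivial (A ⧸ I) := Ideal.Quotient.nontrivial_iff.mpr hI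
  have hnB : Nontrivial (B ⧸ J) := Ideal.Quotient.nontrivial_iff.mpr hJ
  have : IsLocalRing (A ⧸ I) := .of_surjective' _ Ideal.Quotient.mk_surjective
  have : IsLocalRing (B ⧸ J) := .of_surjective' _ Ideal.Quotient.mk_surjective
  have hmA : maximalIdeal (A ⧸ I) = (maximalIdeal A).map (Ideal.Quotient.mk I) :=
    (IsLocalRing.map_maximalIdeal_of_surjective _ Ideal.Quotient.mk_surjective).symm
  have hmap : (maximalIdeal (A ⧸ I)).map (algebraMap (A ⧸ I) (B ⧸ J)) =
      ((maximalIdeal A).map (algebraMap A B)).map (Ideal.Quotient.mk J) := by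
    rw [hmA, Ideal.map_map, Ideal.map_map]
    rfl
  have : IsLocalHom (algebraMap (A ⧸ I) (B ⧸ J)) := by
    refine ((local_hom_TFAE (algebraMap (A ⧸ I) (B ⧸ J))).out 0 2).mpr ?_
    rw [hmap, ← IsLocalRing.map_maximalIdeal_of_surjective _ (Ideal.Quotient.mk_surjective (I := J))]
    exact Ideal.map_mono hm
  refine (ringKrullDim_le_add_fibre (A ⧸ I) (B ⧸ J)).trans (le_of_eq ?_)
  congr 1
  exact ringKrullDim_eq_of_ringEquiv ((Ideal.quotientEquiv _ _ (RingEquiv.refl _) (by simp [hmap])).trans
    (DoubleQuot.quotQuotEquivQuotSup J ((maximalIdeal A).map (algebraMap A B))))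

theorem supportDim_tensor_le_add_fibre (M : Type w) [AddCommGroup M] [Module A M] [Module.Finite A M]
    (N : Type w') [AddCommGroup N] [Module B N] [Module A N] [IsScalarTower A B N] [Module.Finite B N] :
    Module.supportDim B (N ⊗[A] M) ≤ Module.supportDim A M +
      Module.supportDim B (N ⧸ ((maximalIdeal A).map (algebraMap A B) • (⊤ : Submodule B N))) := by
  rcases subsingleton_or_nontrivial M with hM | hM
  · rw [Module.supportDim_eq_bot_of_subsingleton]; exact bot_le
  set m := (maximalIdeal A).map (algebraMap A B)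
  set IA := Module.annihilator A M
  set J := Module.annihilator B N ⊔ IA.map (algebraMap A B)
  have hI : IA ≠ ⊤ := fun h => not_subsingleton M (Module.annihilator_eq_top_iff.mp h)
  have h1 : J ≤ Module.annihilator B (N ⊗[A] M) := by
    refine sup_le (fun b hb => ?_) (Ideal.map_le_iff_le_comap.mpr fun a ha => ?_)
    · rw [Module.mem_annihilator] at hb ⊢
      intro t
      induction t with
      | zero => simp
      | tmul x y => rw [smul_tmul', hb, zero_tmul]
      | add x y hx hy => rw [smul_add, hx, hy, add_zero]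
    · rw [Ideal.mem_comap, Module.mem_annihilator]
      rw [Module.mem_annihilator] at ha
      intro t
      induction t with
      | zero => simp
      | tmul x y => rw [algebraMap_smul, ← tmul_smul, ha, tmul_zero]
      | add x y hx hy => rw [smul_add, hx, hy, add_zero]
  have h2 : Module.supportDim B (N ⧸ (m • (⊤ : Submodule B N))) = ringKrullDim (B ⧸ (J ⊔ m)) := by
    rw [Module.supportDim, ringKrullDim_quotient]
    refine congrArg (fun s : Set (PrimeSpectrum B) => Order.krullDim s) ?_
    rw [Module.support_quotient, Module.support_eq_zeroLocus, ← PrimeSpectrum.zeroLocus_sup]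
    refine PrimeSpectrum.zeroLocus_eq_iff.mpr ?_
    have : Module.annihilator B N ⊔ m = J ⊔ m := by
      refine le_antisymm (sup_le_sup_right le_sup_left _) (sup_le (sup_le le_sup_left ?_) le_sup_right)
      exact (Ideal.map_mono (le_maximalIdeal hI)).trans le_sup_right
    rw [this]
  rw [h2]
  calc Module.supportDim B (N ⊗[A] M) ≤ ringKrullDim (B ⧸ J) := by
        rw [Module.supportDim, ringKrullDim_quotient]
        refine Order.krullDim_le_of_strictMono (fun p => ⟨p.1, ?_⟩) (fun _ _ h => h)
        exact fun x hx => Module.annihilator_le_of_mem_support p.2 (h1 hx)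
    _ ≤ ringKrullDim (A ⧸ IA) + ringKrullDim (B ⧸ (J ⊔ m)) :=
        ringKrullDim_quotient_le_add_fibre IA hI J le_sup_right
    _ = _ := by rw [Module.supportDim_eq_ringKrullDim_quotient_annihilator]

theorem le_and_injective_of_fibre_dim_eq_zero
    (hdef : ringKrullDim (B ⧸ (maximalIdeal A).map (algebraMap A B)) = 0) :
    ringKrullDim B ≤ ringKrullDim A ∧
      (IsDomain A → ringKrullDim A = ringKrullDim B → Function.Injective (algebraMap A B)) := by
  have key := ringKrullDim_le_add_fibre A B
  rw [hdef, add_zero] at key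
  refine ⟨key, fun hA hdim => ?_⟩
  rw [RingHom.injective_iff_ker_eq_bot]
  by_contra hne
  obtain ⟨a, ha, ha0⟩ := Submodule.exists_mem_ne_zero_of_ne_bot hne
  have hI : Ideal.span {a} ≠ ⊤ := fun h => RingHom.ker_ne_top (algebraMap A B)
    (top_le_iff.mp (h ▸ (Ideal.span_singleton_le_iff_mem _).mpr ha))
  have h1 := ringKrullDim_quotient_le_add_fibre (A := A) (B := B) (Ideal.span {a}) hI ⊥ (by
    rw [Ideal.map_span, Set.image_singleton, RingHom.mem_ker.mp ha]; simp)
  rw [bot_sup_eq, hdef, add_zero, ringKrullDim_eq_of_ringEquiv (RingEquiv.quotientBot B), ← hdim] at h1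
  have h2 := ringKrullDim_quotient_succ_le_of_nonZeroDivisor (r := a) (mem_nonZeroDivisors_of_ne_zero ha0)
  obtain ⟨d, hd⟩ := WithBot.ne_bot_iff_exists.mp (ringKrullDim_ne_bot (R := A))
  have hdt : d ≠ ⊤ := by
    rintro rfl
    exact (ringKrullDim_lt_top (R := A)).ne hd.symm
  have h3 := (add_le_add h1 (le_refl (1 : WithBot ℕ∞))).trans h2
  rw [← hd, ← WithBot.coe_one, ← WithBot.coe_add, WithBot.coe_le_coe] at h3
  exact absurd h3 (not_le.mpr (ENat.lt_add_one_iff hdt |>.mpr le_rfl))

end Groth.Agent.EGA4Alg4
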