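import Groth.Agent.EGA4Alg4.CMMod

/-! Localizations of Cohen-Macaulay modules. -/

set_option autoImplicit false
universe u

open IsLocalRing RingTheory.Sequence Module

namespace Groth.Agent.EGA4Alg4

variable {A : Type u} [CommRing A] [IsLocalRing A] [IsNoetherianRing A]
variable {M : Type u} [AddCommGroup M] [Module A M] [Module.Finite A M]

theorem localization_cm_and_dim (hM : LocCoh.IsCohenMacaulayModule A M) (p : PrimeSpectrum A)
    (hp : p ∈ support A M) :
    LocCoh.IsCohenMacaulayModule (Localization.AtPrime p.asIdeal)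
        (LocalizedModule p.asIdeal.primeCompl M) ∧
      supportDim A M = supportDim A (M ⧸ (p.asIdeal • (⊤ : Submodule A M))) +
        supportDim (Localization.AtPrime p.asIdeal) (LocalizedModule p.asIdeal.primeCompl M) := by
  have := isCohenMacaulayModule_nontrivial hM
  have : Nontrivial (A ⧸ p.asIdeal) := Ideal.Quotient.nontrivial_iff.mpr p.2.ne_top
  have : Nontrivial (LocalizedModule p.asIdeal.primeCompl M) := Module.mem_support_iff.mp hp
  have : Module.Finite (Localization.AtPrime p.asIdeal) (LocalizedModule p.asIdeal.primeCompl M) :=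
    Module.Finite.of_isLocalizedModule p.asIdeal.primeCompl
      (LocalizedModule.mkLinearMap p.asIdeal.primeCompl M)
  obtain ⟨d, hd⟩ := exists_supportDim_eq (A := A) (M := M)
  obtain ⟨a, ha⟩ := exists_supportDim_eq (A := A) (M := A ⧸ p.asIdeal)
  rw [supportDim_quotient_eq_ringKrullDim] at ha
  obtain ⟨e, he⟩ := exists_supportDim_eq (A := Localization.AtPrime p.asIdeal)
    (M := LocalizedModule p.asIdeal.primeCompl M)
  obtain ⟨f, hf⟩ := exists_depth_eq (A := Localization.AtPrime p.asIdeal)
    (M := LocalizedModule p.asIdeal.primeCompl M)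
  have had : a ≤ d := by
    have := ringKrullDim_quotient_le_supportDim hp
    rw [ha, hd] at this
    exact_mod_cast this
  obtain ⟨xs, hlen, hmem, hreg⟩ := exists_isWeaklyRegular_in_prime (d - a) hM hp (by
    rw [ha, hd]
    exact_mod_cast Nat.add_sub_cancel' had)
  have h1 := length_le_depth (hreg.of_isLocalizedModule (Localization.AtPrime p.asIdeal)
      p.asIdeal.primeCompl (LocalizedModule.mkLinearMap p.asIdeal.primeCompl M)) (by
    intro r hr
    obtain ⟨s, hs, rfl⟩ := List.mem_map.mp hr
    exact (IsLocalization.AtPrime.to_map_mem_maximal_iff (Localization.AtPrime p.asIdeal) p.asIdeal s).mpr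
      (hmem s hs))
  have h2 := depth_le_supportDim (A := Localization.AtPrime p.asIdeal)
    (M := LocalizedModule p.asIdeal.primeCompl M)
  have h3 := supportDim_localizedModule_add_le M p.asIdeal
  rw [List.length_map, hlen, hf] at h1
  rw [hf, he] at h2
  rw [supportDim_quotient_prime hp, ha, hd, he] at h3
  have k1 : d - a ≤ f := by exact_mod_cast h1
  have k2 : f ≤ e := by exact_mod_cast h2
  have k3 : e + a ≤ d := by exact_mod_cast h3
  constructor
  · rw [LocCoh.IsCohenMacaulayModule, he, hf, show e = f by omega]; rfl
  · rw [supportDim_quotient_prime hp, hd, ha, he]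
    exact_mod_cast (by omega : d = a + e)

end Groth.Agent.EGA4Alg4
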