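import Groth.Agent.EGA4Alg4.Depth
import Groth.Agent.LC16.SopRegular
import Groth.Agent.Ega11.SupportLoc

/-! Cohen-Macaulay modules over Noetherian local rings. -/

set_option autoImplicit false
set_option linter.unusedSectionVars false
universe u

open scoped Pointwise
open IsLocalRing RingTheory.Sequence Module

namespace Groth.Agent.EGA4Alg4

/-- For a prime `p` in the support, `dim M_p + dim M/pM ≤ dim M`. -/
theorem supportDim_localizedModule_add_le {A : Type u} [CommRing A] (M : Type u) [AddCommGroup M]
    [Module A M] [Module.Finite A M] (p : Ideal A) [p.IsPrime] :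
    supportDim (Localization.AtPrime p) (LocalizedModule p.primeCompl M) +
        supportDim A (M ⧸ (p • (⊤ : Submodule A M))) ≤ supportDim A M := by
  by_cases hp : (⟨p, inferInstance⟩ : PrimeSpectrum A) ∈ support A M
  · let x : support A M := ⟨⟨p, inferInstance⟩, hp⟩
    have h1 : supportDim (Localization.AtPrime p) (LocalizedModule p.primeCompl M) ≤ Order.height x := by
      rw [Ega11.SupportLoc.supportDim_localizedModule_eq, Order.height_eq_krullDim_Iic]
      exact Order.krullDim_le_of_strictMono (fun y => ⟨⟨y.1, y.2.1⟩, y.2.2⟩) (fun _ _ h => h)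
    have h2 : supportDim A (M ⧸ (p • (⊤ : Submodule A M))) ≤ Order.coheight x := by
      rw [supportDim, Order.coheight_eq_krullDim_Ici]
      refine Order.krullDim_le_of_strictMono (fun y => ⟨⟨y.1, ?_⟩, ?_⟩) (fun _ _ h => h)
      · exact ((support_quotient p).le y.2).1
      · exact fun a ha => (((support_quotient (M := M) p).le y.2).2 : (p : Set A) ⊆ y.1.asIdeal) ha
    refine (add_le_add h1 h2).trans ?_
    have : Nonempty (support A M) := ⟨x⟩
    rw [supportDim, Order.krullDim_eq_iSup_height_add_coheight_of_nonempty, ← WithBot.coe_add,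
      WithBot.coe_le_coe]
    exact le_iSup (fun a : support A M => Order.height a + Order.coheight a) x
  · have : Subsingleton (LocalizedModule p.primeCompl M) := by
      simpa [Module.mem_support_iff, not_nontrivial_iff_subsingleton] using hp
    rw [supportDim_eq_bot_of_subsingleton, WithBot.bot_add]
    exact bot_le

/-- For a prime in the support, `dim M/pM = dim A/p`. -/
theorem supportDim_quotient_prime {A : Type u} [CommRing A] {M : Type u} [AddCommGroup M]
    [Module A M] [Module.Finite A M] {p : PrimeSpectrum A} (hp : p ∈ support A M) :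
    supportDim A (M ⧸ (p.asIdeal • (⊤ : Submodule A M))) = ringKrullDim (A ⧸ p.asIdeal) := by
  rw [← supportDim_quotient_eq_ringKrullDim, supportDim, supportDim, support_quotient,
    support_eq_zeroLocus, support_eq_zeroLocus, Ideal.annihilator_quotient]
  refine congrArg (fun s : Set (PrimeSpectrum A) => Order.krullDim s) ?_
  refine Set.inter_eq_right.mpr (PrimeSpectrum.zeroLocus_anti_mono ?_)
  exact SetLike.coe_subset_coe.mpr (Module.mem_support_iff_of_finite.mp hp)

variable {A : Type u} [CommRing A] [IsLocalRing A] [IsNoetherianRing A]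
variable {M : Type u} [AddCommGroup M] [Module A M] [Module.Finite A M]

theorem exists_supportDim_eq [Nontrivial M] : ∃ n : ℕ, supportDim A M = n := by
  obtain ⟨d, hd⟩ := WithBot.ne_bot_iff_exists.mp (supportDim_ne_bot_of_nontrivial A M)
  have := supportDim_lt_top (A := A) (M := M)
  rw [← hd, WithBot.coe_lt_coe] at this
  obtain ⟨n, rfl⟩ := ENat.ne_top_iff_exists.mp this.ne
  exact ⟨n, hd.symm⟩

theorem nontrivial_quotient_ofList [Nontrivial M] {xs : List A} (h : ∀ x ∈ xs, x ∈ maximalIdeal A) :
    Nontrivial (M ⧸ (Ideal.ofList xs • (⊤ : Submodule A M))) :=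
  Submodule.Quotient.nontrivial_iff.mpr (smul_top_lt_top _ (ofList_le h)).ne

theorem supportDim_cons (x : A) (xs : List A) :
    supportDim A (M ⧸ (Ideal.ofList (x :: xs) • (⊤ : Submodule A M))) =
      supportDim A (QuotSMulTop x M ⧸ (Ideal.ofList xs • (⊤ : Submodule A (QuotSMulTop x M)))) :=
  supportDim_eq_of_equiv (Submodule.quotOfListConsSMulTopEquivQuotSMulTopInner M x xs)

theorem supportDim_le_quotient_add_length : ∀ {xs : List A} {M : Type u} [AddCommGroup M] [Module A M]
    [Module.Finite A M], (∀ x ∈ xs, x ∈ maximalIdeal A) →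
    supportDim A M ≤ supportDim A (M ⧸ (Ideal.ofList xs • (⊤ : Submodule A M))) + xs.length := by
  intro xs
  induction xs with
  | nil =>
    intro M _ _ _ _
    rw [Ideal.ofList_nil, Submodule.bot_smul, List.length_nil, Nat.cast_zero, add_zero,
      supportDim_eq_of_equiv (Submodule.quotEquivOfEqBot (⊥ : Submodule A M) rfl)]
  | cons x xs ih =>
    intro M _ _ _ h
    rw [supportDim_cons, List.length_cons, Nat.cast_add, Nat.cast_one, ← add_assoc]
    exact (supportDim_le_supportDim_quotSMulTop_succ (h x List.mem_cons_self)).trans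
      (add_le_add (ih fun y hy => h y (List.mem_cons_of_mem _ hy)) le_rfl)

theorem depth_quotient_add_length : ∀ {xs : List A} {M : Type u} [AddCommGroup M] [Module A M]
    [Module.Finite A M], IsWeaklyRegular M xs → (∀ x ∈ xs, x ∈ maximalIdeal A) →
    LocCoh.depth A (M ⧸ (Ideal.ofList xs • (⊤ : Submodule A M))) + xs.length = LocCoh.depth A M := by
  intro xs
  induction xs with
  | nil =>
    intro M _ _ _ _ _
    rcases subsingleton_or_nontrivial M with hM | hM
    · simp [depth_of_subsingleton]
    have e := Submodule.quotEquivOfEqBot (Ideal.ofList ([] : List A) • (⊤ : Submodule A M)) (by simp)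
    have : Nontrivial (M ⧸ (Ideal.ofList ([] : List A) • (⊤ : Submodule A M))) := e.toEquiv.nontrivial
    rw [List.length_nil, Nat.cast_zero, add_zero, depth_eq_iSup, depth_eq_iSup]
    simp only [e.isWeaklyRegular_congr]
  | cons x xs ih =>
    intro M _ _ _ hreg h
    rw [isWeaklyRegular_cons_iff] at hreg
    have hx := h x List.mem_cons_self
    have hm : ∀ y ∈ xs, y ∈ maximalIdeal A := fun y hy => h y (List.mem_cons_of_mem _ hy)
    rcases subsingleton_or_nontrivial M with hM | hM
    · simp [depth_of_subsingleton]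
    have := nontrivial_quotSMulTop_of_mem_maximalIdeal M hx
    have e := Submodule.quotOfListConsSMulTopEquivQuotSMulTopInner M x xs
    have := nontrivial_quotient_ofList (M := M) h
    have := nontrivial_quotient_ofList (M := QuotSMulTop x M) hm
    have hd : LocCoh.depth A (M ⧸ (Ideal.ofList (x :: xs) • (⊤ : Submodule A M))) =
        LocCoh.depth A (QuotSMulTop x M ⧸ (Ideal.ofList xs • (⊤ : Submodule A (QuotSMulTop x M)))) := by
      rw [depth_eq_iSup, depth_eq_iSup]
      simp only [e.isWeaklyRegular_congr]
    rw [hd, List.length_cons, Nat.cast_add, Nat.cast_one, ← add_assoc, ih hreg.2 hm,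
      depth_quotSMulTop_add_one hx hreg.1]

theorem depth_le_ringKrullDim_quotient {p : Ideal A} (hp : p ∈ associatedPrimes A M) :
    ((LocCoh.depth A M : ℕ∞) : WithBot ℕ∞) ≤ ringKrullDim (A ⧸ p) := by
  have : Nontrivial M := by
    by_contra hc
    rw [not_nontrivial_iff_subsingleton] at hc
    simp [associatedPrimes.eq_empty_of_subsingleton] at hp
  obtain ⟨n, hn⟩ := exists_depth_eq (A := A) (M := M)
  obtain ⟨rs, hlen, hmem, hreg⟩ := (natCast_le_depth_iff n).mp hn.ge
  rw [hn, ← supportDim_quotient_eq_ringKrullDim, ← hlen]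
  exact LC16.length_le_supportDim_quotient (isRegular_of_isWeaklyRegular hreg hmem) hmem hp

theorem ringKrullDim_quotient_le_supportDim {p : PrimeSpectrum A} (hp : p ∈ support A M) :
    ringKrullDim (A ⧸ p.asIdeal) ≤ supportDim A M := by
  rw [← supportDim_quotient_prime hp]
  exact supportDim_le_of_surjective _ (Submodule.mkQ_surjective _)

theorem mem_support_of_assoc {p : Ideal A} (hp : p ∈ associatedPrimes A M) :
    (⟨p, hp.isPrime⟩ : PrimeSpectrum A) ∈ support A M :=
  Module.mem_support_iff_of_finite.mpr (Submodule.annihilator_top.symm.le.trans hp.annihilator_le)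

theorem ringKrullDim_quotient_lt {p q : Ideal A} [p.IsPrime] [q.IsPrime] (h : p < q) :
    ringKrullDim (A ⧸ q) < ringKrullDim (A ⧸ p) := by
  obtain ⟨x, hxq, hxp⟩ := SetLike.exists_of_lt h
  have : Nontrivial (A ⧸ p) := Ideal.Quotient.nontrivial_iff.mpr ‹p.IsPrime›.ne_top
  have : Nontrivial (A ⧸ q) := Ideal.Quotient.nontrivial_iff.mpr ‹q.IsPrime›.ne_top
  have h1 := ringKrullDim_succ_le_of_surjective (Ideal.Quotient.factor h.le)
    (Ideal.Quotient.factor_surjective h.le) (r := Ideal.Quotient.mk p x)
    (mem_nonZeroDivisors_of_ne_zero (by simpa [Ideal.Quotient.eq_zero_iff_mem] using hxp))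
    (by simp [Ideal.Quotient.eq_zero_iff_mem, hxq])
  obtain ⟨n, hn⟩ := exists_supportDim_eq (A := A) (M := A ⧸ q)
  rw [supportDim_quotient_eq_ringKrullDim] at hn
  rw [hn] at h1 ⊢
  exact lt_of_lt_of_le (by exact_mod_cast Nat.lt_succ_self n) h1

section CM

variable (hM : LocCoh.IsCohenMacaulayModule A M)
include hM

theorem ringKrullDim_quotient_assoc {p : Ideal A} (hp : p ∈ associatedPrimes A M) :
    ringKrullDim (A ⧸ p) = supportDim A M := by
  refine le_antisymm (ringKrullDim_quotient_le_supportDim (p := ⟨p, hp.isPrime⟩) (mem_support_of_assoc hp)) ?_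
  rw [LocCoh.IsCohenMacaulayModule] at hM
  rw [hM]
  exact depth_le_ringKrullDim_quotient hp

theorem isCohenMacaulayModule_quotient {xs : List A} (hreg : IsWeaklyRegular M xs)
    (h : ∀ x ∈ xs, x ∈ maximalIdeal A) :
    LocCoh.IsCohenMacaulayModule A (M ⧸ (Ideal.ofList xs • (⊤ : Submodule A M))) := by
  have := isCohenMacaulayModule_nontrivial hM
  have := nontrivial_quotient_ofList (M := M) h
  obtain ⟨a, ha⟩ := exists_supportDim_eq (A := A) (M := M ⧸ (Ideal.ofList xs • (⊤ : Submodule A M)))
  obtain ⟨b, hb⟩ := exists_depth_eq (A := A) (M := M ⧸ (Ideal.ofList xs • (⊤ : Submodule A M)))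
  have h1 := supportDim_add_length_eq_supportDim_of_isRegular xs (isRegular_of_isWeaklyRegular hreg h)
  have h2 := depth_quotient_add_length hreg h
  rw [LocCoh.IsCohenMacaulayModule] at hM ⊢
  rw [hM, ← h2, ha, hb] at h1
  rw [ha, hb]
  norm_cast at h1 ⊢
  have h1' : a + xs.length = b + xs.length := by exact_mod_cast h1
  have hab : a = b := by omega
  rw [hab]

end CM

theorem isWeaklyRegular_of_supportDim : ∀ {xs : List A} {M : Type u} [AddCommGroup M] [Module A M]
    [Module.Finite A M], LocCoh.IsCohenMacaulayModule A M → (∀ x ∈ xs, x ∈ maximalIdeal A) →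
    supportDim A (M ⧸ (Ideal.ofList xs • (⊤ : Submodule A M))) + xs.length = supportDim A M →
    IsWeaklyRegular M xs := by
  intro xs
  induction xs with
  | nil => intros; exact IsWeaklyRegular.nil A _
  | cons x xs ih =>
    intro M _ _ _ hM h hdim
    have := isCohenMacaulayModule_nontrivial hM
    have hx := h x List.mem_cons_self
    have hm : ∀ y ∈ xs, y ∈ maximalIdeal A := fun y hy => h y (List.mem_cons_of_mem _ hy)
    have := nontrivial_quotSMulTop_of_mem_maximalIdeal M hx
    have := nontrivial_quotient_ofList (M := QuotSMulTop x M) hm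
    rw [supportDim_cons] at hdim
    obtain ⟨d, hd⟩ := exists_supportDim_eq (A := A) (M := M)
    obtain ⟨d', hd'⟩ := exists_supportDim_eq (A := A) (M := QuotSMulTop x M)
    obtain ⟨a, ha⟩ := exists_supportDim_eq (A := A)
      (M := QuotSMulTop x M ⧸ (Ideal.ofList xs • (⊤ : Submodule A (QuotSMulTop x M))))
    have h1 := supportDim_le_quotient_add_length (M := QuotSMulTop x M) hm
    have h2 := supportDim_le_supportDim_quotSMulTop_succ (M := M) hx
    rw [hd', ha] at h1
    rw [hd, hd'] at h2
    rw [hd, ha, List.length_cons] at hdim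
    have k1 : d' ≤ a + xs.length := by exact_mod_cast h1
    have k2 : d ≤ d' + 1 := by exact_mod_cast h2
    have k3 : a + (xs.length + 1) = d := by exact_mod_cast hdim
    have hreg : IsSMulRegular M x := by
      by_contra hc
      have : x ∈ ⋃ q ∈ associatedPrimes A M, (q : Set A) := by
        rw [biUnion_associatedPrimes_eq_compl_regular A]; exact hc
      obtain ⟨q, hq, hxq⟩ := Set.mem_iUnion₂.mp this
      have hqs : (⟨q, hq.isPrime⟩ : PrimeSpectrum A) ∈ support A (QuotSMulTop x M) := by
        rw [support_quotSMulTop]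
        exact ⟨mem_support_of_assoc hq, Set.singleton_subset_iff.mpr hxq⟩
      have h3 := ringKrullDim_quotient_le_supportDim hqs
      simp only at h3
      rw [ringKrullDim_quotient_assoc hM hq, hd, hd'] at h3
      have : d ≤ d' := by exact_mod_cast h3
      omega
    have hCM : LocCoh.IsCohenMacaulayModule A (QuotSMulTop x M) := by
      rw [LocCoh.IsCohenMacaulayModule] at hM ⊢
      obtain ⟨b, hb⟩ := exists_depth_eq (A := A) (M := QuotSMulTop x M)
      have h4 := supportDim_quotSMulTop_succ_eq_supportDim hreg hx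
      rw [hd', hd] at h4
      rw [← depth_quotSMulTop_add_one hx hreg, hb, hd] at hM
      have k4 : d' + 1 = d := by exact_mod_cast h4
      have k5 : d = b + 1 := by exact_mod_cast hM
      rw [hd', hb, show d' = b by omega]; rfl
    refine IsWeaklyRegular.cons hreg (ih hCM hm ?_)
    rw [ha, hd']
    have : a + xs.length = d' := by omega
    exact_mod_cast this

theorem isCohenMacaulayModule_of_forall_assoc (n : ℕ) : ∀ {M : Type u} [AddCommGroup M] [Module A M]
    [Module.Finite A M] [Nontrivial M], supportDim A M = n →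
    (∀ xs : List A, (∀ x ∈ xs, x ∈ maximalIdeal A) →
      supportDim A (M ⧸ (Ideal.ofList xs • (⊤ : Submodule A M))) + xs.length = supportDim A M →
        ∀ p ∈ associatedPrimes A (M ⧸ (Ideal.ofList xs • (⊤ : Submodule A M))),
          ringKrullDim (A ⧸ p) = supportDim A (M ⧸ (Ideal.ofList xs • (⊤ : Submodule A M)))) →
    LocCoh.IsCohenMacaulayModule A M := by
  induction n with
  | zero =>
    intro M _ _ _ _ hn _
    rw [isCohenMacaulayModule_iff, hn]
    exact ⟨inferInstance, WithBot.coe_le_coe.mpr zero_le⟩
  | succ n ih =>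
    intro M _ _ _ _ hn h
    have e := Submodule.quotEquivOfEqBot (Ideal.ofList ([] : List A) • (⊤ : Submodule A M)) (by simp)
    have hass : ∀ p ∈ associatedPrimes A M, ringKrullDim (A ⧸ p) = supportDim A M := by
      intro p hp
      rw [← LinearEquiv.AssociatedPrimes.eq e] at hp
      rw [h [] (by simp) (by simp [supportDim_eq_of_equiv e]) p hp, supportDim_eq_of_equiv e]
    have hm : maximalIdeal A ∉ associatedPrimes A M := by
      intro hm
      have := hass _ hm
      rw [hn, ringKrullDim_eq_zero_of_isField ((Ideal.Quotient.maximal_ideal_iff_isField_quotient _).mp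
        inferInstance)] at this
      exact absurd this (by exact_mod_cast (Nat.succ_ne_zero n).symm)
    rw [maximalIdeal_mem_assoc_iff] at hm
    push Not at hm
    obtain ⟨x, hx, hreg⟩ := hm
    have := nontrivial_quotSMulTop_of_mem_maximalIdeal M hx
    obtain ⟨d', hd'⟩ := exists_supportDim_eq (A := A) (M := QuotSMulTop x M)
    have h4 := supportDim_quotSMulTop_succ_eq_supportDim hreg hx
    rw [hd', hn] at h4
    have hd'n : d' = n := by
      have : d' + 1 = n + 1 := by exact_mod_cast h4
      omega
    subst hd'n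
    have hQ : LocCoh.IsCohenMacaulayModule A (QuotSMulTop x M) := by
      refine ih hd' fun xs hxs hdim p hp => ?_
      have e' := Submodule.quotOfListConsSMulTopEquivQuotSMulTopInner M x xs
      rw [← LinearEquiv.AssociatedPrimes.eq e'] at hp
      have hk := h (x :: xs) (List.forall_mem_cons.mpr ⟨hx, hxs⟩) ?_ p hp
      · rw [hk, supportDim_eq_of_equiv e']
      · rw [supportDim_cons, List.length_cons, Nat.cast_add, Nat.cast_one, ← add_assoc, hdim]
        exact supportDim_quotSMulTop_succ_eq_supportDim hreg hx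
    rw [LocCoh.IsCohenMacaulayModule] at hQ ⊢
    rw [← depth_quotSMulTop_add_one hx hreg, ← supportDim_quotSMulTop_succ_eq_supportDim hreg hx, hQ]
    norm_cast

theorem exists_isWeaklyRegular_in_prime (r : ℕ) : ∀ {M : Type u} [AddCommGroup M] [Module A M]
    [Module.Finite A M], LocCoh.IsCohenMacaulayModule A M → ∀ {p : PrimeSpectrum A}, p ∈ support A M →
    ringKrullDim (A ⧸ p.asIdeal) + r = supportDim A M →
    ∃ xs : List A, xs.length = r ∧ (∀ x ∈ xs, x ∈ p.asIdeal) ∧ IsWeaklyRegular M xs := by
  induction r with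
  | zero => exact fun _ _ _ _ => ⟨[], rfl, by simp, IsWeaklyRegular.nil A _⟩
  | succ r ih =>
    intro M _ _ _ hM p hp hr
    have := isCohenMacaulayModule_nontrivial hM
    obtain ⟨x, hxp, hreg⟩ : ∃ x ∈ p.asIdeal, IsSMulRegular M x := by
      by_contra! hc
      obtain ⟨q, hq, hle⟩ := exists_le_assoc_of_forall_not_regular _ hc
      have hle' : ringKrullDim (A ⧸ q) ≤ ringKrullDim (A ⧸ p.asIdeal) :=
        ringKrullDim_le_of_surjective _ (Ideal.Quotient.factor_surjective hle)
      rw [ringKrullDim_quotient_assoc hM hq, ← hr] at hle'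
      have : Nontrivial (A ⧸ p.asIdeal) := Ideal.Quotient.nontrivial_iff.mpr p.2.ne_top
      obtain ⟨a, ha⟩ := exists_supportDim_eq (A := A) (M := A ⧸ p.asIdeal)
      rw [supportDim_quotient_eq_ringKrullDim] at ha
      rw [ha] at hle'
      have : a + (r + 1) ≤ a := by exact_mod_cast hle'
      omega
    have hxm : x ∈ maximalIdeal A := le_maximalIdeal p.2.ne_top hxp
    have hp' : p ∈ support A (QuotSMulTop x M) := by
      rw [support_quotSMulTop]; exact ⟨hp, Set.singleton_subset_iff.mpr hxp⟩
    have hCM : LocCoh.IsCohenMacaulayModule A (QuotSMulTop x M) := by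
      rw [LocCoh.IsCohenMacaulayModule] at hM ⊢
      have := nontrivial_quotSMulTop_of_mem_maximalIdeal M hxm
      obtain ⟨b, hb⟩ := exists_depth_eq (A := A) (M := QuotSMulTop x M)
      obtain ⟨d', hd'⟩ := exists_supportDim_eq (A := A) (M := QuotSMulTop x M)
      rw [← supportDim_quotSMulTop_succ_eq_supportDim hreg hxm, ← depth_quotSMulTop_add_one hxm hreg,
        hd', hb] at hM
      have : d' + 1 = b + 1 := by exact_mod_cast hM
      rw [hd', hb, show d' = b by omega]; rfl
    have hr' : ringKrullDim (A ⧸ p.asIdeal) + r = supportDim A (QuotSMulTop x M) := by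
      have := nontrivial_quotSMulTop_of_mem_maximalIdeal M hxm
      have : Nontrivial (A ⧸ p.asIdeal) := Ideal.Quotient.nontrivial_iff.mpr p.2.ne_top
      obtain ⟨a, ha⟩ := exists_supportDim_eq (A := A) (M := A ⧸ p.asIdeal)
      rw [supportDim_quotient_eq_ringKrullDim] at ha
      obtain ⟨d', hd'⟩ := exists_supportDim_eq (A := A) (M := QuotSMulTop x M)
      rw [← supportDim_quotSMulTop_succ_eq_supportDim hreg hxm, ha, hd'] at hr
      rw [ha, hd']
      have : a + (r + 1) = d' + 1 := by exact_mod_cast hr
      have : a + r = d' := by omega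
      exact_mod_cast this
    obtain ⟨xs, hlen, hmem, hxs⟩ := ih hCM hp' hr'
    exact ⟨x :: xs, by simp [hlen], List.forall_mem_cons.mpr ⟨hxp, hmem⟩, IsWeaklyRegular.cons hreg hxs⟩

end Groth.Agent.EGA4Alg4
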