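import Groth.Agent.CAlg1.Complete
import Mathlib

/-! Dimension of finite modules is invariant under completion (semi-local Noetherian rings). -/

set_option autoImplicit false
universe u

open Module TensorProduct

namespace Groth.Agent.EGA4Alg4

variable {A : Type u} [CommRing A] {C : Type u} [CommRing C] [Algebra A C]

theorem map_annihilator_le_annihilator_tensor (M : Type u) [AddCommGroup M] [Module A M] :
    (Module.annihilator A M).map (algebraMap A C) ≤ Module.annihilator C (C ⊗[A] M) := by
  refine Ideal.map_le_iff_le_comap.mpr fun a ha => ?_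
  rw [Ideal.mem_comap, Module.mem_annihilator]
  rw [Module.mem_annihilator] at ha
  intro t
  induction t with
  | zero => simp
  | tmul x y => rw [algebraMap_smul, ← tmul_smul, ha, tmul_zero]
  | add x y hx hy => rw [smul_add, hx, hy, add_zero]

theorem mem_support_tensor_of_flat [Module.Flat A C] (M : Type u) [AddCommGroup M] [Module A M]
    (Q : PrimeSpectrum C) (h : PrimeSpectrum.comap (algebraMap A C) Q ∈ Module.support A M) :
    Q ∈ Module.support C (C ⊗[A] M) := by
  rw [Module.mem_support_iff'] at h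
  obtain ⟨m, hm⟩ := h
  let f : A →ₗ[A] M := LinearMap.toSpanSingleton A M m
  let g : (A ⧸ LinearMap.ker f) →ₗ[A] M := (LinearMap.ker f).liftQ f le_rfl
  have hg : Function.Injective g := LinearMap.ker_eq_bot.mp (Submodule.ker_liftQ_eq_bot' _ _ rfl)
  refine Module.support_subset_of_injective (g.baseChange C)
    (Module.Flat.lTensor_preserves_injective_linearMap g hg) ?_
  let e : (C ⊗[A] (A ⧸ LinearMap.ker f)) ≃ₗ[C] (C ⧸ Ideal.map (algebraMap A C) (LinearMap.ker f)) :=
    (Algebra.TensorProduct.quotIdealMapEquivTensorQuot C (LinearMap.ker f)).symm.toLinearEquiv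
  rw [e.support_eq, Module.support_eq_zeroLocus, Ideal.annihilator_quotient]
  refine SetLike.coe_subset_coe.mpr (Ideal.map_le_iff_le_comap.mpr fun a ha => ?_)
  by_contra hc
  exact hm a hc ha

theorem supportDim_baseChange_eq [IsNoetherianRing A] [IsNoetherianRing C] [Module.Flat A C]
    (h1 : ∀ P : Ideal C, P.IsMaximal →
      (P.comap (algebraMap A C)).IsMaximal ∧ P = (P.comap (algebraMap A C)).map (algebraMap A C))
    (h2 : ∀ m : Ideal A, m.IsMaximal → (m.map (algebraMap A C)).IsMaximal)
    (M : Type u) [AddCommGroup M] [Module A M] [Module.Finite A M] :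
    supportDim C (C ⊗[A] M) = supportDim A M := by
  set I := Module.annihilator A M
  set J := I.map (algebraMap A C) with hJ
  refine le_antisymm ?_ ?_
  · refine le_trans (?_ : supportDim C (C ⊗[A] M) ≤ ringKrullDim (C ⧸ J)) ?_
    · rw [supportDim, ringKrullDim_quotient]
      refine Order.krullDim_le_of_strictMono (fun Q => ⟨Q.1, ?_⟩) (fun _ _ h => h)
      exact SetLike.coe_subset_coe.mpr
        ((map_annihilator_le_annihilator_tensor M).trans (Module.annihilator_le_of_mem_support Q.2))
    rw [supportDim_eq_ringKrullDim_quotient_annihilator, ringKrullDim_le_iff_isMaximal_height_le]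
    intro P hP
    let φ : (A ⧸ I) →+* (C ⧸ J) := Ideal.quotientMap J (algebraMap A C) Ideal.le_comap_map
    let _ : Algebra (A ⧸ I) (C ⧸ J) := φ.toAlgebra
    have hP' : (P.comap (Ideal.Quotient.mk J)).IsMaximal :=
      Ideal.comap_isMaximal_of_surjective _ Ideal.Quotient.mk_surjective
    obtain ⟨hm, hPm⟩ := h1 _ hP'
    have : (P.comap (algebraMap (A ⧸ I) (C ⧸ J))).IsPrime := Ideal.IsPrime.comap _
    have : P.LiesOver (P.comap (algebraMap (A ⧸ I) (C ⧸ J))) := ⟨rfl⟩
    have key := Ideal.height_le_height_add_of_liesOver (P.comap (algebraMap (A ⧸ I) (C ⧸ J))) P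
    have hmapeq : (P.comap (algebraMap (A ⧸ I) (C ⧸ J))).map (algebraMap (A ⧸ I) (C ⧸ J)) = P := by
      refine le_antisymm Ideal.map_comap_le ?_
      calc P = (P.comap (Ideal.Quotient.mk J)).map (Ideal.Quotient.mk J) :=
            (Ideal.map_comap_of_surjective _ Ideal.Quotient.mk_surjective P).symm
        _ ≤ _ := ?_
      rw [hPm, Ideal.map_map]
      refine le_trans (le_of_eq ?_) (Ideal.map_mono (f := algebraMap (A ⧸ I) (C ⧸ J))
        (Ideal.map_comap_le (f := Ideal.Quotient.mk I)))
      rw [Ideal.map_map, Ideal.comap_comap, Ideal.comap_comap]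
      rfl
    have hzero : (P.map (Ideal.Quotient.mk
        ((P.comap (algebraMap (A ⧸ I) (C ⧸ J))).map (algebraMap (A ⧸ I) (C ⧸ J))))).height = 0 := by
      rw [hmapeq, Ideal.map_quotient_self]
      have : IsField ((C ⧸ J) ⧸ P) := (Ideal.Quotient.maximal_ideal_iff_isField_quotient P).mp hP
      have h0 := Ideal.height_le_ringKrullDim_of_ne_top (I := (⊥ : Ideal ((C ⧸ J) ⧸ P)))
        (by
          have : Nontrivial ((C ⧸ J) ⧸ P) := Ideal.Quotient.nontrivial_iff.mpr hP.ne_top
          exact bot_ne_top)
      rw [ringKrullDim_eq_zero_of_isField this] at h0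
      exact le_antisymm (WithBot.coe_le_coe.mp h0) zero_le
    rw [hzero, add_zero] at key
    exact (WithBot.coe_le_coe.mpr key).trans (Ideal.height_le_ringKrullDim_of_ne_top
      (Ideal.comap_ne_top _ hP.ne_top))
  · refine iSup_le fun l => ?_
    obtain ⟨m, hm, hle⟩ := l.last.1.asIdeal.exists_le_maximal l.last.1.2.ne_top
    let l₁ : LTSeries (PrimeSpectrum A) := l.map Subtype.val (fun _ _ h => h)
    obtain ⟨Q, hQle, hQp, hQl⟩ : ∃ Q : Ideal C, Q ≤ m.map (algebraMap A C) ∧ Q.IsPrime ∧
        Q.LiesOver l₁.last.asIdeal := by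
      have := h2 m hm
      have : (m.map (algebraMap A C)).LiesOver m := ⟨(hm.eq_of_le
        (Ideal.comap_ne_top _ (h2 m hm).ne_top) Ideal.le_comap_map)⟩
      exact Ideal.exists_ideal_le_liesOver_of_le (p := l₁.last.asIdeal) (q := m) _ hle
    obtain ⟨L, hlen, -, hmap⟩ := Ideal.exists_ltSeries_of_hasGoingDown l₁ Q
    have hmem : ∀ i, L i ∈ Module.support C (C ⊗[A] M) := by
      intro i
      apply mem_support_tensor_of_flat
      have : PrimeSpectrum.comap (algebraMap A C) (L i) ∈ l₁.toList := by
        rw [← hmap]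
        exact List.mem_map.mpr ⟨_, RelSeries.toList_ne_nil L |> fun _ => List.mem_ofFn.mpr ⟨i, rfl⟩, rfl⟩
      obtain ⟨j, hj⟩ := List.mem_ofFn.mp this
      rw [← hj]
      exact (l j).2
    let L' : LTSeries (Module.support C (C ⊗[A] M)) := ⟨L.length, fun i => ⟨L i, hmem i⟩, L.step⟩
    refine le_of_eq_of_le ?_ (le_iSup _ L')
    simp only [L', hlen]; rfl

theorem supportDim_adicCompletion_eq [IsNoetherianRing A] [Finite (MaximalSpectrum A)]
    (M : Type u) [AddCommGroup M] [Module A M] [Module.Finite A M] :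
    supportDim (AdicCompletion (Ring.jacobson A) A) (AdicCompletion (Ring.jacobson A) M) =
      supportDim A M := by
  set r := Ring.jacobson A
  have : IsNoetherianRing (AdicCompletion r A) :=
    CAlg1.isNoetherianRing_adicCompletion _ (IsNoetherian.noetherian _)
  rw [← supportDim_eq_of_equiv (AdicCompletion.ofTensorProductEquivOfFiniteNoetherian r M)]
  refine supportDim_baseChange_eq (fun P hP => ?_) (fun m hm =>
    AdicCompletion.isMaximal_map_of_le r m (Ring.jacobson_le_of_isMaximal m) (IsNoetherian.noetherian _)) M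
  have hc := AdicCompletion.isAdicComplete_self r (IsNoetherian.noetherian _)
  have hJP : r.map (algebraMap A (AdicCompletion r A)) ≤ P :=
    (IsAdicComplete.le_jacobson_bot _).trans (sInf_le ⟨bot_le, hP⟩)
  have hker := AdicCompletion.ker_evalOneₐ_eq_map r (IsNoetherian.noetherian _)
  have hsurj := AdicCompletion.evalOneₐ_surjective r
  set ev := (AdicCompletion.evalOneₐ r).toRingHom
  have hevP : (P.map ev).IsMaximal :=
    Ideal.IsMaximal.map_of_surjective_of_ker_le hsurj (hker.le.trans hJP)
  have hcomapP : (P.map ev).comap ev = P := by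
    rw [Ideal.comap_map_of_surjective' ev hsurj, sup_eq_left]
    exact hker.le.trans hJP
  have hm : (P.comap (algebraMap A (AdicCompletion r A))) = (P.map ev).comap (Ideal.Quotient.mk r) := by
    conv_lhs => rw [← hcomapP, Ideal.comap_comap]
    rw [AdicCompletion.evalOneₐ_comp_algebraMap_eq_mk]
  have hmax : (P.comap (algebraMap A (AdicCompletion r A))).IsMaximal := by
    rw [hm]; exact Ideal.comap_isMaximal_of_surjective _ Ideal.Quotient.mk_surjective
  refine ⟨hmax, ((AdicCompletion.isMaximal_map_of_le r _ (Ring.jacobson_le_of_isMaximal _)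
    (IsNoetherian.noetherian _)).eq_of_le hP.ne_top Ideal.map_comap_le).symm⟩

end Groth.Agent.EGA4Alg4
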