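import Mathlib
import Groth.Agent.CAlg1.Complete
import Groth.Agent.CAlg1.Serre
import Groth.Agent.EGA4H10.RegAway

/-! Rows S5784, S5785: completions and power series over regular rings are regular. -/

set_option autoImplicit false

universe u

open IsLocalRing

namespace Groth.Agent.EGA4Alg4.RegCompletion13

theorem isRegularRing_of_isMaximal {R : Type u} [CommRing R] [IsNoetherianRing R]
    (h : ∀ (M : Ideal R) [M.IsMaximal], IsRegularLocalRing (Localization.AtPrime M)) : IsRegularRing R := by
  refine isRegularRing_iff.mpr fun P hP => ?_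
  obtain ⟨M, hM, hPM⟩ := Ideal.exists_le_maximal P hP.ne_top
  have := h M
  have : IsRegularRing (Localization.AtPrime M) :=
    isRegularRing_iff.mpr fun Q _ => CAlg1.regular_localization (Localization.AtPrime M) Q
  exact EGA4H10.regular_atPrime_of_isLocalization M.primeCompl (Localization.AtPrime M) P
    (Set.disjoint_left.mpr fun x hx hxP => hx (hPM hxP))

theorem isRegularRing_adicCompletion {A : Type u} [CommRing A] [IsRegularRing A] (J : Ideal A) :
    IsRegularRing (AdicCompletion J A) := by
  have : IsNoetherianRing (AdicCompletion J A) :=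
    CAlg1.isNoetherianRing_adicCompletion _ (IsNoetherian.noetherian _)
  refine isRegularRing_of_isMaximal fun P hP => ?_
  have hc := AdicCompletion.isAdicComplete_self J (IsNoetherian.noetherian _)
  have hJP : J.map (algebraMap A (AdicCompletion J A)) ≤ P :=
    (IsAdicComplete.le_jacobson_bot _).trans (sInf_le ⟨bot_le, hP⟩)
  have hker := AdicCompletion.ker_evalOneₐ_eq_map J (IsNoetherian.noetherian _)
  have hsurj := AdicCompletion.evalOneₐ_surjective J
  set ev := (AdicCompletion.evalOneₐ J).toRingHom
  have hevP : (P.map ev).IsMaximal :=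
    Ideal.IsMaximal.map_of_surjective_of_ker_le hsurj (hker.le.trans hJP)
  have hcomapP : (P.map ev).comap ev = P := by
    rw [Ideal.comap_map_of_surjective' ev hsurj, sup_eq_left]
    exact hker.le.trans hJP
  set p := P.comap (algebraMap A (AdicCompletion J A)) with hp
  have hm : p = (P.map ev).comap (Ideal.Quotient.mk J) := by
    conv_lhs => rw [hp, ← hcomapP, Ideal.comap_comap]
    rw [AdicCompletion.evalOneₐ_comp_algebraMap_eq_mk]
  have hmax : p.IsMaximal := by
    rw [hm]; exact Ideal.comap_isMaximal_of_surjective _ Ideal.Quotient.mk_surjective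
  have hJp : J ≤ p := fun x hx => hJP (Ideal.mem_map_of_mem _ hx)
  have hmap : p.map (algebraMap A (AdicCompletion J A)) = P :=
    (AdicCompletion.isMaximal_map_of_le J p hJp (IsNoetherian.noetherian _)).eq_of_le hP.ne_top
      Ideal.map_comap_le
  have : Module.Flat A (AdicCompletion J A) := AdicCompletion.flat_of_isNoetherian J
  have : Module.Flat A (Localization.AtPrime P) := Module.Flat.trans A (AdicCompletion J A) _
  refine EGA4H10.regular_of_map_maximal P p (EGA4H10.height_comap_le P) ?_ rfl
  rw [IsScalarTower.algebraMap_eq A (AdicCompletion J A) (Localization.AtPrime P), ← Ideal.map_map, hmap,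
    Localization.AtPrime.map_eq_maximalIdeal]

theorem isRegularRing_mvPowerSeries (A : Type u) [CommRing A] [IsRegularRing A] (n : ℕ) :
    IsRegularRing (MvPowerSeries (Fin n) A) :=
  have := isRegularRing_adicCompletion (MvPolynomial.idealOfVars (Fin n) A)
  IsRegularRing.of_ringEquiv (MvPowerSeries.toAdicCompletionAlgEquiv (Fin n) A).toRingEquiv.symm

end Groth.Agent.EGA4Alg4.RegCompletion13
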