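import Groth.Prelude.Def_CAlgX
import Mathlib

/-! Quasi-regular sequences (`CAlgX.IsQuasiRegular`) versus regular sequences. -/

set_option autoImplicit false
universe u

open MvPolynomial RingTheory.Sequence
open scoped Pointwise

namespace Groth.Agent.EGA4Alg4

variable {A : Type u} [CommRing A]

theorem eval_mem_span_pow {ι : Type} (f : ι → A) {n : ℕ} {P : MvPolynomial ι A} (hP : P.IsHomogeneous n) :
    eval f P ∈ Ideal.span (Set.range f) ^ n :=
  (Ideal.mem_span_pow_iff_exists_isHomogeneous _ _).mpr ⟨P, hP, rfl⟩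

theorem eval_mem_of_coeff_mem {ι : Type} (f : ι → A) {n : ℕ} {P : MvPolynomial ι A} (hP : P.IsHomogeneous n)
    (I : Ideal A) (hI : ∀ d, P.coeff d ∈ I) : eval f P ∈ I * Ideal.span (Set.range f) ^ n := by
  rw [P.as_sum, map_sum]
  refine Ideal.sum_mem _ fun d hd => ?_
  rw [← C_mul_monomial' P d, map_mul, eval_C]
  refine Ideal.mul_mem_mul (hI d) (eval_mem_span_pow f (isHomogeneous_monomial _ ?_))
  have := hP (mem_support_iff.mp hd)
  rwa [Finsupp.degree_eq_weight_one]
where
  C_mul_monomial' (P : MvPolynomial ι A) (d : ι →₀ ℕ) :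
      C (P.coeff d) * monomial d 1 = monomial d (P.coeff d) := by rw [C_mul_monomial, mul_one]

theorem coeff_mem_of_eval_eq_zero_imp {ι : Type} (f : ι → A) {n : ℕ}
    (h : ∀ P : MvPolynomial ι A, P.IsHomogeneous n → eval f P = 0 →
      ∀ d, P.coeff d ∈ Ideal.span (Set.range f))
    (P : MvPolynomial ι A) (hP : P.IsHomogeneous n) (hev : eval f P ∈ Ideal.span (Set.range f) ^ (n + 1))
    (d : ι →₀ ℕ) : P.coeff d ∈ Ideal.span (Set.range f) := by
  set J := Ideal.span (Set.range f)
  -- the value is `eval f Q` with `Q` homogeneous of degree `n` and coefficients in `J`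
  have key : ∃ Q : MvPolynomial ι A, Q.IsHomogeneous n ∧ eval f Q = eval f P ∧ ∀ d, Q.coeff d ∈ J := by
    rw [pow_succ'] at hev
    refine Submodule.mul_induction_on hev ?_ ?_
    · intro a ha b hb
      obtain ⟨R, hR, rfl⟩ := (Ideal.mem_span_pow_iff_exists_isHomogeneous _ _).mp hb
      exact ⟨C a * R, hR.C_mul a, by simp, fun d => by rw [coeff_C_mul]; exact J.mul_mem_right _ ha⟩
    · rintro a b ⟨Q, hQ, rfl, hQc⟩ ⟨Q', hQ', rfl, hQ'c⟩
      exact ⟨Q + Q', hQ.add hQ', map_add _ _ _, fun d => by rw [coeff_add]; exact J.add_mem (hQc d) (hQ'c d)⟩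
  obtain ⟨Q, hQ, hQe, hQc⟩ := key
  have := h (P - Q) (hP.sub hQ) (by rw [map_sub, hQe, sub_self]) d
  rw [coeff_sub] at this
  simpa using J.add_mem this (hQc d)

/-- If `g` is quasi-regular and `a` is regular modulo `(g)`, then it is regular modulo every power. -/
theorem mem_pow_of_mul_mem {c : ℕ} (g : Fin c → A) (hg : CAlgX.IsQuasiRegular g) (a : A)
    (ha : ∀ x, a * x ∈ Ideal.span (Set.range g) → x ∈ Ideal.span (Set.range g)) :
    ∀ (k : ℕ) (y : A), a * y ∈ Ideal.span (Set.range g) ^ k → y ∈ Ideal.span (Set.range g) ^ k := by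
  intro k
  induction k with
  | zero => intro y _; simp
  | succ k ih =>
    intro y hy
    obtain ⟨P, hP, rfl⟩ := (Ideal.mem_span_pow_iff_exists_isHomogeneous _ _).mp
      (ih y (Ideal.pow_le_pow_right k.le_succ hy))
    have := hg k (C a * P) (hP.C_mul a) (by simpa using hy)
    rw [pow_succ']
    exact eval_mem_of_coeff_mem g hP _ fun d => ha _ (by simpa using this d)

theorem isHomogeneous_divMonomial_single {ι : Type} {P : MvPolynomial ι A} {n : ℕ} (i : ι)
    (hP : P.IsHomogeneous (n + 1)) : (divMonomial P (Finsupp.single i 1)).IsHomogeneous n := by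
  intro d hd
  rw [coeff_divMonomial] at hd
  have := hP hd
  rw [map_add, Finsupp.weight_single] at this
  simp only [Pi.one_apply, smul_eq_mul, mul_one] at this
  omega

theorem isQuasiRegular_snoc {c : ℕ} (g : Fin c → A) (a : A) (hg : CAlgX.IsQuasiRegular g)
    (ha : ∀ x, a * x ∈ Ideal.span (Set.range g) → x ∈ Ideal.span (Set.range g)) :
    CAlgX.IsQuasiRegular (Fin.snoc g a : Fin (c + 1) → A) := by
  classical
  set f : Fin (c + 1) → A := Fin.snoc g a with hf
  set J := Ideal.span (Set.range f)
  have hgJ : Ideal.span (Set.range g) ≤ J :=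
    Ideal.span_mono (Set.range_subset_iff.mpr fun i => ⟨i.castSucc, by simp [hf]⟩)
  have haJ : a ∈ J := Ideal.subset_span ⟨Fin.last c, by simp [hf]⟩
  have hfg : f ∘ Fin.castSucc = g := by ext i; simp [hf]
  suffices H : ∀ n (P : MvPolynomial (Fin (c + 1)) A), P.IsHomogeneous n → eval f P = 0 →
      ∀ d, P.coeff d ∈ J by
    exact fun n P hP hev d => coeff_mem_of_eval_eq_zero_imp f (H n) P hP hev d
  intro n
  induction n with
  | zero =>
    intro P hP hev d
    obtain ⟨r, rfl⟩ : ∃ r, C r = P :=
      ⟨P.coeff 0, ((totalDegree_eq_zero_iff_eq_C).mp (Nat.le_zero.mp hP.totalDegree_le)).symm⟩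
    rw [eval_C] at hev
    simp [hev]
  | succ n ih =>
    intro P hP hev d
    set l := Finsupp.single (Fin.last c) 1
    set H := divMonomial P l
    have hH : H.IsHomogeneous n := isHomogeneous_divMonomial_single _ hP
    have hsplit := modMonomial_add_divMonomial P l
    set R := modMonomial P l
    have hRcoeff : ∀ e, R.coeff e = if l ≤ e then 0 else P.coeff e := fun e => by
      split_ifs with he
      · exact coeff_modMonomial_of_le _ he
      · exact coeff_modMonomial_of_not_le _ he
    have hR : R.IsHomogeneous (n + 1) := fun e he => hP (by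
      rw [hRcoeff] at he
      split_ifs at he with hle
      · exact absurd rfl he
      · exact he)
    obtain ⟨G, hG⟩ : ∃ G : MvPolynomial (Fin c) A, rename Fin.castSucc G = R := by
      refine exists_rename_eq_of_vars_subset_range R _ (Fin.castSucc_injective _) ?_
      intro i hi
      rw [Finset.mem_coe, mem_vars_iff_mem_support] at hi
      obtain ⟨e, he, hie⟩ := hi
      rw [mem_support_iff, hRcoeff] at he
      split_ifs at he with hle
      · exact absurd rfl he
      · rcases Fin.eq_castSucc_or_eq_last i with ⟨j, rfl⟩ | rfl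
        · exact ⟨j, rfl⟩
        · exfalso
          apply hle
          rw [Finsupp.single_le_iff]
          exact Nat.one_le_iff_ne_zero.mpr (Finsupp.mem_support_iff.mp hie)
    have hGh : G.IsHomogeneous (n + 1) := (IsHomogeneous.rename_isHomogeneous_iff (Fin.castSucc_injective _)).mp (hG ▸ hR)
    have hev' : eval g G + a * eval f H = 0 := by
      rw [← hev, ← hsplit, map_add, map_mul, ← hG, eval_rename, hfg]
      simp [l, hf, eval_monomial, Finsupp.prod_single_index]
      rfl
    have hmem : eval f H ∈ Ideal.span (Set.range g) ^ (n + 1) := by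
      refine mem_pow_of_mul_mem g hg a ha _ _ ?_
      rw [eq_neg_of_add_eq_zero_right hev']
      exact neg_mem (eval_mem_span_pow g hGh)
    have hHc : ∀ e, H.coeff e ∈ J := fun e =>
      coeff_mem_of_eval_eq_zero_imp f ih H hH (Ideal.pow_right_mono hgJ _ hmem) e
    obtain ⟨K, hK, hKe⟩ := (Ideal.mem_span_pow_iff_exists_isHomogeneous _ _).mp hmem
    have hGc : ∀ e, G.coeff e ∈ J := by
      intro e
      have := hg (n + 1) (G + C a * K) (hGh.add (hK.C_mul a)) (by simp [hKe, hev']) e
      rw [coeff_add, coeff_C_mul] at this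
      have h2 := J.sub_mem (hgJ this) (J.mul_mem_right (K.coeff e) haJ)
      simpa using h2
    rw [← hsplit, coeff_add, coeff_monomial_mul', ← hG]
    refine J.add_mem ?_ ?_
    · by_cases hd : ∃ e, Finsupp.mapDomain Fin.castSucc e = d
      · obtain ⟨e, rfl⟩ := hd
        rw [coeff_rename_mapDomain _ (Fin.castSucc_injective _)]
        exact hGc e
      · rw [coeff_rename_eq_zero _ _ _ (fun u hu => absurd ⟨u, hu⟩ hd)]
        exact J.zero_mem
    · split_ifs
      · rw [one_mul]; exact hHc _
      · exact J.zero_mem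

theorem isQuasiRegular_of_isWeaklyRegular : ∀ (c : ℕ) (f : Fin c → A),
    IsWeaklyRegular A (List.ofFn f) → CAlgX.IsQuasiRegular f := by
  intro c
  induction c with
  | zero =>
    intro f _ n P hP hev d
    have : P = C (P.coeff 0) := P.eq_C_of_isEmpty
    rw [this, eval_C] at hev
    have h0 : Ideal.span (Set.range f) = ⊥ := by simp [Set.range_eq_empty]
    rw [h0] at hev ⊢
    rw [this, coeff_C]
    split_ifs
    · simpa using hev
    · simp
  | succ c ih =>
    intro f hf
    rw [List.ofFn_succ', List.concat_eq_append, isWeaklyRegular_append_iff, isWeaklyRegular_singleton_iff] at hf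
    have hspan : Ideal.ofList (List.ofFn fun i : Fin c => f i.castSucc) • (⊤ : Submodule A A) =
        Ideal.span (Set.range fun i : Fin c => f i.castSucc) := by
      rw [smul_eq_mul, Ideal.mul_top]
      exact congrArg Ideal.span (Set.ext fun z => List.mem_ofFn)
    have := isQuasiRegular_snoc (fun i : Fin c => f i.castSucc) (f (Fin.last c)) (ih _ hf.1) fun x hx => by
      rw [← hspan] at hx ⊢
      exact mem_of_isSMulRegular_quotient_of_smul_mem hf.2 hx
    rwa [show (Fin.snoc (fun i : Fin c => f i.castSucc) (f (Fin.last c)) : Fin (c + 1) → A) = f from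
      Fin.snoc_init_self f] at this

theorem jacobson_map_mk {I : Ideal A} {x : A} (hx : x ∈ Ring.jacobson A) :
    Ideal.Quotient.mk I x ∈ Ring.jacobson (A ⧸ I) := by
  rw [Ring.jacobson_eq_sInf_isMaximal, Ideal.mem_sInf]
  intro m hm
  have : (m.comap (Ideal.Quotient.mk I)).IsMaximal :=
    have : m.IsMaximal := hm
    Ideal.comap_isMaximal_of_surjective _ Ideal.Quotient.mk_surjective
  exact Ideal.mem_comap.mp (Ring.jacobson_le_of_isMaximal _ hx)

theorem exists_homogeneous_lift {B : Type u} [CommRing B] {φ : A →+* B} (hφ : Function.Surjective φ)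
    {ι : Type} {n : ℕ} (P : MvPolynomial ι B) (hP : P.IsHomogeneous n) :
    ∃ Q : MvPolynomial ι A, Q.IsHomogeneous n ∧ map φ Q = P := by
  classical
  obtain ⟨Q, hQ⟩ := MvPolynomial.map_surjective φ hφ P
  refine ⟨homogeneousComponent n Q, homogeneousComponent_isHomogeneous n Q, ?_⟩
  ext d
  rw [coeff_map, coeff_homogeneousComponent]
  split_ifs with hd
  · rw [← coeff_map, hQ]
  · rw [map_zero, hP.coeff_eq_zero hd]

theorem isWeaklyRegular_of_isQuasiRegular : ∀ (c : ℕ) (A : Type u) [CommRing A] [IsNoetherianRing A]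
    (f : Fin c → A), (∀ i, f i ∈ Ring.jacobson A) → CAlgX.IsQuasiRegular f →
    IsWeaklyRegular A (List.ofFn f) := by
  intro c
  induction c with
  | zero => intros; simp
  | succ c ih =>
    intro A _ _ f hf hq
    classical
    set J := Ideal.span (Set.range f)
    have hJ : J ≤ Ideal.jacobson ⊥ := by
      rw [Ideal.jacobson_bot]
      exact Ideal.span_le.mpr (Set.range_subset_iff.mpr hf)
    have hreg : IsSMulRegular A (f 0) := by
      refine IsSMulRegular.of_right_eq_zero_of_smul fun a ha => ?_
      have hk : ∀ k, a ∈ J ^ k := by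
        intro k
        induction k with
        | zero => simp
        | succ k ihk =>
          obtain ⟨P, hP, rfl⟩ := (Ideal.mem_span_pow_iff_exists_isHomogeneous _ _).mp ihk
          have := hq (1 + k) (X 0 * P) ((isHomogeneous_X A 0).mul hP) (by
            rw [map_mul, eval_X, show f 0 * eval f P = 0 from ha]; exact zero_mem _)
          rw [pow_succ']
          refine eval_mem_of_coeff_mem f hP _ fun d => ?_
          have := this (Finsupp.single 0 1 + d)
          rwa [coeff_X_mul] at this
      have : a ∈ ⨅ k, J ^ k • (⊤ : Submodule A A) := by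
        rw [Submodule.mem_iInf]; intro k; simpa using hk k
      rwa [Ideal.iInf_pow_smul_eq_bot_of_le_jacobson J hJ, Submodule.mem_bot] at this
    set π := Ideal.Quotient.mk (Ideal.span {f 0})
    set g : Fin c → A ⧸ Ideal.span {f 0} := fun i => π (f i.succ)
    have hg : ∀ i, g i ∈ Ring.jacobson (A ⧸ Ideal.span {f 0}) := fun i => jacobson_map_mk (hf _)
    have hJmap : J.map π = Ideal.span (Set.range g) := by
      rw [Ideal.map_span]
      refine le_antisymm (Ideal.span_le.mpr ?_) (Ideal.span_mono (Set.range_subset_iff.mpr fun i => ?_))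
      · rintro _ ⟨_, ⟨i, rfl⟩, rfl⟩
        rcases Fin.eq_zero_or_eq_succ i with rfl | ⟨j, rfl⟩
        · simp [π, Ideal.Quotient.eq_zero_iff_mem.mpr (Ideal.mem_span_singleton_self (f 0))]
        · exact Ideal.subset_span ⟨j, rfl⟩
      · exact ⟨f i.succ, ⟨i.succ, rfl⟩, rfl⟩
    have hgq : CAlgX.IsQuasiRegular g := by
      intro n P hP hev d
      obtain ⟨Q, hQ, rfl⟩ := exists_homogeneous_lift (φ := π) Ideal.Quotient.mk_surjective P hP
      rw [coeff_map, ← hJmap]
      rw [eval_map, ← hJmap, ← Ideal.map_pow] at hev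
      obtain ⟨b, hb, hbe⟩ := (Ideal.mem_map_iff_of_surjective π Ideal.Quotient.mk_surjective).mp hev
      set R := rename Fin.succ Q
      have hval : π (eval f R) = π b := by
        have he : eval₂ π g Q = π (eval₂ (RingHom.id A) (fun i => f i.succ) Q) := by
          rw [eval₂_comp_left π, RingHom.comp_id]
          rfl
        rw [hbe, he]
        rw [eval_rename]
        rfl
      obtain ⟨a, ha⟩ := Ideal.mem_span_singleton'.mp (Ideal.Quotient.eq.mp hval)
      have hR : R.IsHomogeneous n := hQ.rename_isHomogeneous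
      have hRd : R.coeff (Finsupp.mapDomain Fin.succ d) = Q.coeff d :=
        coeff_rename_mapDomain _ (Fin.succ_injective _) _ _
      refine Ideal.mem_map_of_mem π ?_
      rcases n with _ | m
      · rw [← hRd]
        refine hq 0 R hR ?_ _
        rw [zero_add, pow_one, show eval f R = b + a * f 0 by rw [ha]; ring]
        exact J.add_mem (by simpa using hb) (J.mul_mem_left _ (Ideal.subset_span ⟨0, rfl⟩))
      · have haJ : ∀ j, j ≤ m → a ∈ J ^ j := by
          intro j
          induction j with
          | zero => intro _; simp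
          | succ j ihj =>
            intro hj
            obtain ⟨S, hS, rfl⟩ := (Ideal.mem_span_pow_iff_exists_isHomogeneous _ _).mp (ihj (by omega))
            have := hq (1 + j) (X 0 * S) ((isHomogeneous_X A 0).mul hS) (by
              rw [map_mul, eval_X, mul_comm, ha]
              exact sub_mem (Ideal.pow_le_pow_right (by omega) (eval_mem_span_pow f hR))
                (Ideal.pow_le_pow_right (by omega) hb))
            rw [pow_succ']
            refine eval_mem_of_coeff_mem f hS _ fun e => ?_
            have := this (Finsupp.single 0 1 + e)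
            rwa [coeff_X_mul] at this
        obtain ⟨S, hS, rfl⟩ := (Ideal.mem_span_pow_iff_exists_isHomogeneous _ _).mp (haJ m le_rfl)
        have := hq (m + 1) (R - X 0 * S) (hR.sub (Nat.add_comm 1 m ▸ (isHomogeneous_X A 0).mul hS)) (by
          rw [map_sub, map_mul, eval_X, mul_comm (f 0), ha, sub_sub_cancel]; exact hb)
          (Finsupp.mapDomain Fin.succ d)
        rw [coeff_sub, hRd, coeff_X_mul', if_neg, sub_zero] at this
        · exact this
        · rw [Finsupp.mem_support_iff, not_not, Finsupp.mapDomain_of_notMem_range]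
          simp [Fin.range_succ]
    rw [List.ofFn_succ, isWeaklyRegular_cons_iff']
    refine ⟨hreg, ?_⟩
    rw [List.map_ofFn]
    let e : QuotSMulTop (f 0) A ≃ₗ[A] A ⧸ Ideal.span {f 0} :=
      Submodule.quotEquivOfEq _ _ (by rw [← Submodule.ideal_span_singleton_smul, smul_eq_mul, Ideal.mul_top])
    let e' : QuotSMulTop (f 0) A ≃ₗ[A ⧸ Ideal.span {f 0}] A ⧸ Ideal.span {f 0} :=
      LinearEquiv.extendScalarsOfSurjective (R := A) Ideal.Quotient.mk_surjective e
    exact (e'.isWeaklyRegular_congr _).mpr (ih _ g hg hgq)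

end Groth.Agent.EGA4Alg4
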