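import Mathlib

/-!
# Quotient of a polynomial ring by monic polynomials in separated variables
-/

set_option autoImplicit false

universe u

namespace Groth.Agent.EGA4Alg4.SepVars13

open Polynomial

variable {A : Type u} [CommRing A]

/-- The ideal generated by `F i (X i)`. -/
noncomputable abbrev sepIdeal {r : ℕ} (F : Fin r → Polynomial A) : Ideal (MvPolynomial (Fin r) A) :=
  Ideal.span (Set.range fun i => Polynomial.aeval (MvPolynomial.X i : MvPolynomial (Fin r) A) (F i))

/-- The quotient by polynomials in separated variables, one step. -/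
noncomputable def succEquiv {r : ℕ} (F : Fin (r + 1) → Polynomial A) :
    (MvPolynomial (Fin (r + 1)) A ⧸ sepIdeal F) ≃ₐ[A]
      AdjoinRoot ((F 0).map (algebraMap A (MvPolynomial (Fin r) A ⧸ sepIdeal (fun i => F i.succ)))) :=
  let B := MvPolynomial (Fin r) A ⧸ sepIdeal (fun i => F i.succ)
  let g : Polynomial B := (F 0).map (algebraMap A B)
  let v : Fin (r + 1) → AdjoinRoot g :=
    Fin.cons (AdjoinRoot.root g) fun i => AdjoinRoot.of g (Ideal.Quotient.mk _ (MvPolynomial.X i))
  have hv : ∀ a ∈ sepIdeal F, MvPolynomial.aeval v a = 0 := by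
    intro a ha
    refine (Ideal.span_le (I := RingHom.ker (MvPolynomial.aeval v).toRingHom)).2 ?_ ha
    rintro _ ⟨i, rfl⟩
    change MvPolynomial.aeval v (Polynomial.aeval (MvPolynomial.X i) (F i)) = 0
    rw [← Polynomial.aeval_algHom_apply, MvPolynomial.aeval_X]
    refine Fin.cases ?_ (fun j => ?_) i
    · change Polynomial.aeval (AdjoinRoot.root g) (F 0) = 0
      rw [← Polynomial.aeval_map_algebraMap B]
      exact (AdjoinRoot.aeval_eq g).trans AdjoinRoot.mk_self
    · have h : Polynomial.aeval (Ideal.Quotient.mk (sepIdeal (fun i => F i.succ)) (MvPolynomial.X j))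
          (F j.succ) = 0 := by
        rw [← Ideal.Quotient.mkₐ_eq_mk A, Polynomial.aeval_algHom_apply, Ideal.Quotient.mkₐ_eq_mk,
          Ideal.Quotient.eq_zero_iff_mem]
        exact Ideal.subset_span ⟨j, rfl⟩
      have := Polynomial.aeval_algHom_apply (IsScalarTower.toAlgHom A B (AdjoinRoot g))
        (Ideal.Quotient.mk (sepIdeal (fun i => F i.succ)) (MvPolynomial.X j)) (F j.succ)
      rw [h, map_zero] at this
      exact this
  let φ : MvPolynomial (Fin (r + 1)) A ⧸ sepIdeal F →ₐ[A] AdjoinRoot g :=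
    Ideal.Quotient.liftₐ _ (MvPolynomial.aeval v) hv
  let w : MvPolynomial (Fin r) A →ₐ[A] MvPolynomial (Fin (r + 1)) A ⧸ sepIdeal F :=
    MvPolynomial.aeval fun i => Ideal.Quotient.mk _ (MvPolynomial.X i.succ)
  have hw : ∀ a ∈ sepIdeal (fun i => F i.succ), w a = 0 := by
    intro a ha
    refine (Ideal.span_le (I := RingHom.ker w.toRingHom)).2 ?_ ha
    rintro _ ⟨j, rfl⟩
    change w (Polynomial.aeval (MvPolynomial.X j) (F j.succ)) = 0
    rw [← Polynomial.aeval_algHom_apply, MvPolynomial.aeval_X, ← Ideal.Quotient.mkₐ_eq_mk A,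
      Polynomial.aeval_algHom_apply, Ideal.Quotient.mkₐ_eq_mk, Ideal.Quotient.eq_zero_iff_mem]
    exact Ideal.subset_span ⟨j.succ, rfl⟩
  let ψ₀ : B →ₐ[A] MvPolynomial (Fin (r + 1)) A ⧸ sepIdeal F := Ideal.Quotient.liftₐ _ w hw
  let ψ : AdjoinRoot g →ₐ[A] MvPolynomial (Fin (r + 1)) A ⧸ sepIdeal F :=
    AdjoinRoot.liftAlgHom g ψ₀ (Ideal.Quotient.mk _ (MvPolynomial.X 0)) (by
      rw [Polynomial.eval₂_map]
      erw [ψ₀.comp_algebraMap]
      rw [← Polynomial.aeval_def, ← Ideal.Quotient.mkₐ_eq_mk A, Polynomial.aeval_algHom_apply,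
        Ideal.Quotient.mkₐ_eq_mk, Ideal.Quotient.eq_zero_iff_mem]
      exact Ideal.subset_span ⟨0, rfl⟩)
  AlgEquiv.ofAlgHom φ ψ
    (by
      refine AdjoinRoot.algHom_ext' ?_ ?_
      · apply Ideal.Quotient.algHom_ext
        apply MvPolynomial.algHom_ext
        intro i
        change φ (ψ (AdjoinRoot.of g (Ideal.Quotient.mk _ (MvPolynomial.X i)))) = _
        rw [AdjoinRoot.liftAlgHom_of]
        change φ (MvPolynomial.aeval _ (MvPolynomial.X i)) = _
        rw [MvPolynomial.aeval_X]
        change MvPolynomial.aeval v (MvPolynomial.X i.succ) = _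
        rw [MvPolynomial.aeval_X]
        rfl
      · change φ (ψ (AdjoinRoot.root g)) = _
        rw [AdjoinRoot.liftAlgHom_root]
        change MvPolynomial.aeval v (MvPolynomial.X 0) = _
        rw [MvPolynomial.aeval_X]
        rfl)
    (by
      apply Ideal.Quotient.algHom_ext
      apply MvPolynomial.algHom_ext
      intro i
      change ψ (φ (Ideal.Quotient.mk _ (MvPolynomial.X i))) = Ideal.Quotient.mk _ (MvPolynomial.X i)
      rw [show φ (Ideal.Quotient.mk _ (MvPolynomial.X i)) = v i from MvPolynomial.aeval_X v i]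
      refine Fin.cases ?_ (fun j => ?_) i
      · exact AdjoinRoot.liftAlgHom_root _ _ _ _
      · change ψ (AdjoinRoot.of g _) = _
        rw [AdjoinRoot.liftAlgHom_of]
        exact MvPolynomial.aeval_X _ j)

theorem free_and_finrank [Nontrivial A] : ∀ {r : ℕ} (F : Fin r → Polynomial A), (∀ i, (F i).Monic) →
    Module.Free A (MvPolynomial (Fin r) A ⧸ sepIdeal F) ∧
      Module.Finite A (MvPolynomial (Fin r) A ⧸ sepIdeal F) ∧
      Module.finrank A (MvPolynomial (Fin r) A ⧸ sepIdeal F) = ∏ i, (F i).natDegree := by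
  intro r
  induction r with
  | zero =>
    intro F _
    have h0 : sepIdeal F = ⊥ := by
      rw [sepIdeal, Ideal.span_eq_bot]
      rintro _ ⟨i, _⟩
      exact i.elim0
    let e : (MvPolynomial (Fin 0) A ⧸ sepIdeal F) ≃ₐ[A] A :=
      (Ideal.quotientEquivAlgOfEq A h0).trans
        ((AlgEquiv.quotientBot A _).trans (MvPolynomial.isEmptyAlgEquiv A (Fin 0)))
    exact ⟨Module.Free.of_equiv e.toLinearEquiv.symm, Module.Finite.equiv e.toLinearEquiv.symm,
      by rw [e.toLinearEquiv.finrank_eq, Module.finrank_self]; simp⟩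
  | succ r ih =>
    intro F hF
    obtain ⟨hfree, hfin, hrk⟩ := ih (fun i => F i.succ) fun i => hF _
    have hg : ((F 0).map (algebraMap A (MvPolynomial (Fin r) A ⧸ sepIdeal fun i => F i.succ))).Monic :=
      (hF 0).map _
    let b := (Module.Free.chooseBasis A (MvPolynomial (Fin r) A ⧸ sepIdeal fun i => F i.succ)).smulTower
      (AdjoinRoot.powerBasisAux' hg)
    let e := (succEquiv F).toLinearEquiv
    refine ⟨Module.Free.of_basis (b.map e.symm), Module.Finite.of_basis (b.map e.symm), ?_⟩
    rw [e.finrank_eq, Module.finrank_eq_card_basis b, Fintype.card_prod, Fintype.card_fin,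
      ← Module.finrank_eq_card_chooseBasisIndex, hrk, Fin.prod_univ_succ, mul_comm]
    rcases subsingleton_or_nontrivial (MvPolynomial (Fin r) A ⧸ sepIdeal fun i => F i.succ) with hs | hn
    · have : (∏ i : Fin r, (F i.succ).natDegree) = 0 := by
        rw [← hrk]; exact Module.finrank_zero_of_subsingleton
      rw [this, mul_zero, mul_zero]
    · rw [(hF 0).natDegree_map]

end Groth.Agent.EGA4Alg4.SepVars13
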