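import Mathlib
import Groth.Agent.EGA4Alg4.SepVars
import Groth.Agent.EGA4Alg4.IntegralDim
import Groth.Agent.CAlg1.Regular
import Groth.Agent.CAlg1.Serre

/-!
# Quotients of `A[T_1, …, T_r]` by Eisenstein-type polynomials in separated variables
-/

set_option autoImplicit false

universe u

namespace Groth.Agent.EGA4Alg4.Eis13

open IsLocalRing

theorem isLocalRing_of_isIntegral {A S : Type u} [CommRing A] [IsLocalRing A] [CommRing S] [Algebra A S]
    [Algebra.IsIntegral A S] (J : Ideal S) (hJ : J.IsMaximal)
    (h : ∀ M : Ideal S, M.IsMaximal → (maximalIdeal A).map (algebraMap A S) ≤ M → J ≤ M) :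
    IsLocalRing S ∧ ∀ [IsLocalRing S], maximalIdeal S = J := by
  have hall : ∀ M : Ideal S, M.IsMaximal → M = J := by
    intro M hM
    have hc : (M.comap (algebraMap A S)).IsMaximal := Ideal.IsMaximal.under A M
    have := IsLocalRing.eq_maximalIdeal hc
    exact (hJ.eq_of_le hM.ne_top (h M hM (Ideal.map_le_iff_le_comap.2 this.ge))).symm
  exact ⟨IsLocalRing.of_unique_max_ideal ⟨J, hJ, hall⟩, (hall _ (maximalIdeal.isMaximal S))⟩

theorem isIntegral_mvPolynomial_quotient {A : Type u} [CommRing A] {σ : Type u}
    (I : Ideal (MvPolynomial σ A))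
    (h : ∀ i, IsIntegral A (Ideal.Quotient.mk I (MvPolynomial.X i))) :
    Algebra.IsIntegral A (MvPolynomial σ A ⧸ I) := by
  refine ⟨fun x => ?_⟩
  obtain ⟨x, rfl⟩ := Ideal.Quotient.mk_surjective x
  induction x using MvPolynomial.induction_on with
  | C a => exact isIntegral_algebraMap
  | add p q hp hq => rw [map_add]; exact hp.add hq
  | mul_X p i hp => rw [map_mul]; exact hp.mul (h i)

variable {A : Type u} [CommRing A] [IsLocalRing A] {r : ℕ} (d : Fin r → ℕ) (c : Fin r → ℕ → A)

/-- The polynomials `T_i ^ d_i + ∑ c_{ik} T_i ^ k`. -/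
noncomputable abbrev eis (i : Fin r) : MvPolynomial (Fin r) A :=
  MvPolynomial.X i ^ d i + (Finset.range (d i)).sum fun k => MvPolynomial.C (c i k) * MvPolynomial.X i ^ k

/-- The quotient ring. -/
abbrev EisRing : Type u := MvPolynomial (Fin r) A ⧸ Ideal.span (Set.range (eis d c))

/-- The class of `T_i`. -/
noncomputable abbrev gen (i : Fin r) : EisRing d c := Ideal.Quotient.mk _ (MvPolynomial.X i)

theorem rel (i : Fin r) :
    gen d c i ^ d i + ∑ k ∈ Finset.range (d i), algebraMap A (EisRing d c) (c i k) * gen d c i ^ k = 0 := by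
  have h : Ideal.Quotient.mk (Ideal.span (Set.range (eis d c))) (eis d c i) = 0 :=
    Ideal.Quotient.eq_zero_iff_mem.2 (Ideal.subset_span ⟨i, rfl⟩)
  rw [← h]
  simp only [eis, map_add, map_pow, map_sum, map_mul]
  rfl

/-- The algebra map out of the quotient ring given by a common zero. -/
noncomputable def lift {B : Type u} [CommRing B] [Algebra A B] (x : Fin r → B)
    (h : ∀ i, x i ^ d i + ∑ k ∈ Finset.range (d i), algebraMap A B (c i k) * x i ^ k = 0) :
    EisRing d c →ₐ[A] B :=
  Ideal.Quotient.liftₐ _ (MvPolynomial.aeval x) fun a ha => by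
    refine (Ideal.span_le (I := RingHom.ker (MvPolynomial.aeval x).toRingHom)).2 ?_ ha
    rintro _ ⟨i, rfl⟩
    change MvPolynomial.aeval x (eis d c i) = 0
    simp [eis, h i]

theorem lift_gen {B : Type u} [CommRing B] [Algebra A B] (x : Fin r → B)
    (h : ∀ i, x i ^ d i + ∑ k ∈ Finset.range (d i), algebraMap A B (c i k) * x i ^ k = 0) (i : Fin r) :
    lift d c x h (gen d c i) = x i := MvPolynomial.aeval_X x i

variable {d c} (hd : ∀ i, 2 ≤ d i) (hc : ∀ i k, c i k ∈ maximalIdeal A)

include hd in
theorem zero_point {B : Type u} [CommRing B] [Algebra A B] (h0 : ∀ i, algebraMap A B (c i 0) = 0) (i : Fin r) :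
    (0 : B) ^ d i + ∑ k ∈ Finset.range (d i), algebraMap A B (c i k) * (0 : B) ^ k = 0 := by
  have := hd i
  rw [zero_pow (by omega), zero_add]
  refine Finset.sum_eq_zero fun k _ => ?_
  rcases k with _ | k
  · rw [pow_zero, mul_one, h0]
  · rw [zero_pow (by omega), mul_zero]

theorem mk_sub_constantCoeff_mem (p : MvPolynomial (Fin r) A) :
    (Ideal.Quotient.mk _ p : EisRing d c) - algebraMap A (EisRing d c) (MvPolynomial.constantCoeff p) ∈
      Ideal.span (Set.range (gen d c)) := by
  induction p using MvPolynomial.induction_on with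
  | C a => rw [MvPolynomial.constantCoeff_C]; exact (sub_self (algebraMap A (EisRing d c) a)).symm ▸ zero_mem _
  | add p q hp hq =>
    rw [map_add, map_add, map_add, add_sub_add_comm]
    exact add_mem hp hq
  | mul_X p i hp =>
    rw [map_mul, map_mul, MvPolynomial.constantCoeff_X, mul_zero, map_zero, sub_zero]
    exact Ideal.mul_mem_left _ _ (Ideal.subset_span ⟨i, rfl⟩)

/-- The monic one-variable polynomials. -/
noncomputable abbrev poly (d : Fin r → ℕ) (c : Fin r → ℕ → A) (i : Fin r) : Polynomial A :=
  Polynomial.X ^ d i + ∑ k ∈ Finset.range (d i), Polynomial.C (c i k) * Polynomial.X ^ k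

omit [IsLocalRing A] in
theorem poly_monic (i : Fin r) : (poly d c i).Monic := by
  refine Polynomial.monic_X_pow_add ?_
  refine (Polynomial.degree_sum_le _ _).trans_lt ?_
  rw [Finset.sup_lt_iff (WithBot.bot_lt_coe _)]
  intro k hk
  exact (Polynomial.degree_C_mul_X_pow_le k _).trans_lt (by exact_mod_cast Finset.mem_range.1 hk)

omit [IsLocalRing A] in
theorem aeval_poly (i : Fin r) :
    Polynomial.aeval (MvPolynomial.X i : MvPolynomial (Fin r) A) (poly d c i) = eis d c i := by
  simp [poly, eis]

instance isIntegral_eisRing : Algebra.IsIntegral A (EisRing d c) := by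
  refine ⟨fun x => ?_⟩
  obtain ⟨x, rfl⟩ := Ideal.Quotient.mk_surjective x
  induction x using MvPolynomial.induction_on with
  | C a => exact isIntegral_algebraMap
  | add p q hp hq => rw [map_add]; exact hp.add hq
  | mul_X p i hp =>
    rw [map_mul]
    refine hp.mul ⟨poly d c i, poly_monic i, ?_⟩
    rw [← Polynomial.aeval_def, ← Ideal.Quotient.mkₐ_eq_mk A, Polynomial.aeval_algHom_apply, aeval_poly,
      Ideal.Quotient.mkₐ_eq_mk, Ideal.Quotient.eq_zero_iff_mem]
    exact Ideal.subset_span ⟨i, rfl⟩

/-- The ideal generated by `m` and the `T_i`. -/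
noncomputable abbrev bigIdeal : Ideal (EisRing d c) :=
  (maximalIdeal A).map (algebraMap A (EisRing d c)) ⊔ Ideal.span (Set.range (gen d c))

include hd hc in
/-- The residue map. -/
theorem exists_residue : ∃ ρ : EisRing d c →ₐ[A] ResidueField A,
    (∀ i, ρ (gen d c i) = 0) ∧ RingHom.ker ρ = bigIdeal ∧ Function.Surjective ρ := by
  have h : ∀ i, (0 : ResidueField A) ^ d i + ∑ k ∈ Finset.range (d i),
      algebraMap A (ResidueField A) (c i k) * (0 : ResidueField A) ^ k = 0 :=
    zero_point hd fun i => (residue_eq_zero_iff _).2 (hc i 0)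
  refine ⟨lift d c (fun _ => 0) h, fun i => lift_gen d c _ h i, le_antisymm ?_ ?_, ?_⟩
  · intro x hx
    obtain ⟨p, rfl⟩ := Ideal.Quotient.mk_surjective x
    have h1 := mk_sub_constantCoeff_mem (d := d) (c := c) p
    have h2 : Ideal.span (Set.range (gen d c)) ≤ RingHom.ker (lift d c (fun _ => 0) h) := by
      rw [Ideal.span_le]; rintro _ ⟨i, rfl⟩; exact lift_gen d c _ h i
    have h3 := h2 h1
    rw [RingHom.mem_ker] at h3 hx
    rw [map_sub, hx, zero_sub, neg_eq_zero, AlgHom.commutes] at h3
    have h4 : MvPolynomial.constantCoeff p ∈ maximalIdeal A := (residue_eq_zero_iff _).1 h3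
    rw [← sub_add_cancel (Ideal.Quotient.mk _ p) (algebraMap A (EisRing d c) (MvPolynomial.constantCoeff p))]
    exact add_mem (Submodule.mem_sup_right h1) (Submodule.mem_sup_left (Ideal.mem_map_of_mem _ h4))
  · refine sup_le ?_ ?_
    · rw [Ideal.map_le_iff_le_comap]
      intro a ha
      rw [Ideal.mem_comap, RingHom.mem_ker, AlgHom.commutes]
      exact (residue_eq_zero_iff _).2 ha
    · rw [Ideal.span_le]; rintro _ ⟨i, rfl⟩; exact lift_gen d c _ h i
  · intro y
    obtain ⟨a, rfl⟩ := IsLocalRing.residue_surjective y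
    exact ⟨algebraMap A _ a, AlgHom.commutes _ a⟩

include hd hc in
theorem gen_mem {M : Ideal (EisRing d c)} (hM : M.IsPrime)
    (hm : (maximalIdeal A).map (algebraMap A (EisRing d c)) ≤ M) (i : Fin r) : gen d c i ∈ M := by
  refine hM.mem_of_pow_mem (d i) ?_
  rw [eq_neg_of_add_eq_zero_left (rel d c i)]
  exact neg_mem (Ideal.sum_mem _ fun k _ => Ideal.mul_mem_right _ _ (hm (Ideal.mem_map_of_mem _ (hc i k))))

include hd hc in
theorem isLocalRing_and_maximalIdeal :
    IsLocalRing (EisRing d c) ∧ ∀ [IsLocalRing (EisRing d c)], maximalIdeal (EisRing d c) = bigIdeal := by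
  obtain ⟨ρ, -, hker, hsurj⟩ := exists_residue hd hc
  have hmax : (bigIdeal : Ideal (EisRing d c)).IsMaximal := hker ▸ RingHom.ker_isMaximal_of_surjective _ hsurj
  refine isLocalRing_of_isIntegral _ hmax fun M hM hm => sup_le hm ?_
  rw [Ideal.span_le]
  rintro _ ⟨i, rfl⟩
  exact gen_mem hd hc hM.isPrime hm i

include hd hc in
theorem residue_surjective' (M : Ideal (EisRing d c)) [M.IsMaximal] :
    Function.Surjective ((Ideal.Quotient.mk M).comp (algebraMap A (EisRing d c))) := by
  intro y
  obtain ⟨x, rfl⟩ := Ideal.Quotient.mk_surjective y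
  obtain ⟨p, rfl⟩ := Ideal.Quotient.mk_surjective x
  refine ⟨MvPolynomial.constantCoeff p, ?_⟩
  rw [RingHom.comp_apply, Ideal.Quotient.eq]
  have hm : (maximalIdeal A).map (algebraMap A (EisRing d c)) ≤ M := by
    rw [Ideal.map_le_iff_le_comap]
    exact (IsLocalRing.eq_maximalIdeal (Ideal.IsMaximal.under A M)).ge
  have h1 := mk_sub_constantCoeff_mem (d := d) (c := c) p
  rw [← neg_sub]
  refine neg_mem ((Ideal.span_le.2 ?_) h1)
  rintro _ ⟨i, rfl⟩
  exact gen_mem hd hc ‹M.IsMaximal›.isPrime hm i

include hd hc in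
theorem constant_mem_sq [IsLocalRing (EisRing d c)] (i : Fin r) :
    algebraMap A (EisRing d c) (c i 0) ∈ maximalIdeal (EisRing d c) ^ 2 := by
  have hJ := (isLocalRing_and_maximalIdeal hd hc).2
  have ht : gen d c i ∈ maximalIdeal (EisRing d c) :=
    hJ ▸ Submodule.mem_sup_right (Ideal.subset_span ⟨i, rfl⟩)
  have hr := rel d c i
  have h2 := hd i
  obtain ⟨k, hk⟩ : ∃ k, d i = k + 1 := ⟨d i - 1, by omega⟩
  rw [hk, Finset.sum_range_succ' (fun k => algebraMap A (EisRing d c) (c i k) * gen d c i ^ k),
    pow_zero, mul_one] at hr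
  rw [add_left_comm, ← add_assoc] at hr
  rw [eq_neg_of_add_eq_zero_right hr]
  refine neg_mem (add_mem (Ideal.sum_mem _ fun j _ => ?_) ?_)
  · rw [pow_two, pow_succ' (gen d c i) j, ← mul_assoc]
    refine Ideal.mul_mem_right _ _ (Ideal.mul_mem_mul ?_ ht)
    exact hJ ▸ Submodule.mem_sup_left (Ideal.mem_map_of_mem _ (hc i _))
  · exact Ideal.pow_le_pow_right (by omega) (Ideal.pow_mem_pow ht _)

include hd hc in
/-- The kernel of `m → m'/m'²`. -/
theorem mem_sq_iff [IsLocalRing (EisRing d c)] {a : A} (ha : a ∈ maximalIdeal A) :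
    algebraMap A (EisRing d c) a ∈ maximalIdeal (EisRing d c) ^ 2 ↔
      a ∈ Ideal.span (Set.range fun i => c i 0) ⊔ maximalIdeal A ^ 2 := by
  set I : Ideal A := Ideal.span (Set.range fun i => c i 0) ⊔ maximalIdeal A ^ 2
  have hJ := (isLocalRing_and_maximalIdeal hd hc).2
  constructor
  · intro h
    have h0 : ∀ i, (0 : A ⧸ I) ^ d i + ∑ k ∈ Finset.range (d i),
        algebraMap A (A ⧸ I) (c i k) * (0 : A ⧸ I) ^ k = 0 :=
      zero_point hd fun i => Ideal.Quotient.eq_zero_iff_mem.2 (Submodule.mem_sup_left (Ideal.subset_span ⟨i, rfl⟩))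
    have h1 : (maximalIdeal (EisRing d c)).map (lift d c (fun _ => 0) h0) ≤
        (maximalIdeal A).map (algebraMap A (A ⧸ I)) := by
      rw [hJ, Ideal.map_sup, sup_le_iff]
      constructor
      · rw [Ideal.map_le_iff_le_comap, Ideal.map_le_iff_le_comap]
        intro b hb
        rw [Ideal.mem_comap, Ideal.mem_comap, AlgHom.commutes]
        exact Ideal.mem_map_of_mem _ hb
      · rw [Ideal.map_span, Ideal.span_le]
        rintro _ ⟨_, ⟨i, rfl⟩, rfl⟩
        rw [SetLike.mem_coe, lift_gen]
        exact zero_mem _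
    have h2 := Ideal.mem_map_of_mem (lift d c (fun _ => (0 : A ⧸ I)) h0) h
    rw [Ideal.map_pow, AlgHom.commutes] at h2
    have h3 : ((maximalIdeal A).map (algebraMap A (A ⧸ I))) ^ 2 = ⊥ := by
      rw [← Ideal.map_pow, Ideal.map_eq_bot_iff_le_ker]
      intro b hb
      exact Ideal.Quotient.eq_zero_iff_mem.2 (Submodule.mem_sup_right hb)
    have h4 := Ideal.pow_right_mono h1 2 h2
    rw [h3] at h4
    exact Ideal.Quotient.eq_zero_iff_mem.1 h4
  · intro h
    refine (show I ≤ (maximalIdeal (EisRing d c) ^ 2).comap (algebraMap A (EisRing d c)) from ?_) h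
    refine sup_le ?_ ?_
    · rw [Ideal.span_le]
      rintro _ ⟨i, rfl⟩
      exact constant_mem_sq hd hc i
    · rw [← Ideal.map_le_iff_le_comap, Ideal.map_pow]
      exact Ideal.pow_right_mono (hJ ▸ le_sup_left) 2

theorem injective_algebraMap (hd : ∀ i, 2 ≤ d i) (hc : ∀ i k, c i k ∈ maximalIdeal A) :
    Function.Injective (algebraMap A (EisRing d c)) := by
  have hF := (SepVars13.free_and_finrank (poly d c) fun i => poly_monic i).1
  have hS : SepVars13.sepIdeal (poly d c) = Ideal.span (Set.range (eis d c)) := by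
    rw [SepVars13.sepIdeal]; simp only [aeval_poly]
  have : Module.Free A (EisRing d c) := Module.Free.of_equiv (Ideal.quotientEquivAlgOfEq A hS).toLinearEquiv
  have : IsLocalRing (EisRing d c) := (isLocalRing_and_maximalIdeal hd hc).1
  exact FaithfulSMul.algebraMap_injective A (EisRing d c)

section Regular

variable [IsRegularLocalRing A]

theorem isRegular_iff (hd : ∀ i, 2 ≤ d i) (hc : ∀ i k, c i k ∈ maximalIdeal A) :
    IsRegularRing (EisRing d c) ↔
      LinearIndependent (ResidueField A) (fun i => (maximalIdeal A).toCotangent ⟨c i 0, hc i 0⟩) := by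
  classical
  haveI := (isLocalRing_and_maximalIdeal hd hc).1
  have hJ := (isLocalRing_and_maximalIdeal hd hc).2
  have hdim : ringKrullDim (EisRing d c) = ringKrullDim A :=
    EGA4Alg4.ringKrullDim_eq_of_integral A _ (injective_algebraMap hd hc)
  set n := Module.finrank (ResidueField A) (CotangentSpace A)
  have hn : (n : WithBot ℕ∞) = ringKrullDim A := (IsRegularLocalRing.iff_finrank_cotangentSpace A).1 inferInstance
  set v : Fin r → CotangentSpace A := fun i => (maximalIdeal A).toCotangent ⟨c i 0, hc i 0⟩
  have hQ := Submodule.finrank_quotient_add_finrank (Submodule.span (ResidueField A) (Set.range v))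
  constructor
  · intro hreg
    haveI : IsRegularLocalRing (EisRing d c) := IsRegularLocalRing.of_isRegularRing_of_isLocalRing _
    obtain ⟨s, hcard, hspan⟩ :=
      Submodule.FG.exists_span_finset_card_eq_spanFinrank (maximalIdeal (EisRing d c)).fg_of_isNoetherianRing
    have hsn : s.card = n := by
      have h := IsRegularLocalRing.spanFinrank_maximalIdeal (R := EisRing d c)
      rw [hdim, ← hn, ← hcard] at h
      exact_mod_cast h
    set I : Ideal A := Ideal.span (Set.range fun i => c i 0) ⊔ maximalIdeal A ^ 2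
    have h0 : ∀ i, (0 : A ⧸ I) ^ d i + ∑ k ∈ Finset.range (d i),
        algebraMap A (A ⧸ I) (c i k) * (0 : A ⧸ I) ^ k = 0 :=
      zero_point hd fun i => Ideal.Quotient.eq_zero_iff_mem.2 (Submodule.mem_sup_left (Ideal.subset_span ⟨i, rfl⟩))
    let φ₀ := lift d c (fun _ => (0 : A ⧸ I)) h0
    let e : Fin r → TrivSqZeroExt (ResidueField A) (Fin r → ResidueField A) :=
      fun i => TrivSqZeroExt.inr (Pi.single i 1)
    have h1 : ∀ i, e i ^ d i + ∑ k ∈ Finset.range (d i),
        algebraMap A (TrivSqZeroExt (ResidueField A) (Fin r → ResidueField A)) (c i k) * e i ^ k = 0 := by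
      intro i
      obtain ⟨k, hk⟩ : ∃ k, d i = k + 2 := ⟨d i - 2, by have := hd i; omega⟩
      rw [show e i ^ d i = 0 by rw [hk, pow_add, pow_two, TrivSqZeroExt.inr_mul_inr, mul_zero], zero_add]
      refine Finset.sum_eq_zero fun k _ => ?_
      rw [IsScalarTower.algebraMap_apply A (ResidueField A)
        (TrivSqZeroExt (ResidueField A) (Fin r → ResidueField A)),
        show algebraMap A (ResidueField A) (c i k) = 0 from (residue_eq_zero_iff _).2 (hc i k), map_zero, zero_mul]
    let φ₁ := lift d c e h1
    have hcomp : ∀ x : EisRing d c, ∀ a : A, Ideal.Quotient.mk I a = φ₀ x →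
        TrivSqZeroExt.fst (φ₁ x) = residue A a := by
      intro x a hax
      obtain ⟨p, rfl⟩ := Ideal.Quotient.mk_surjective x
      induction p using MvPolynomial.induction_on generalizing a with
      | C b =>
        rw [show (Ideal.Quotient.mk _ (MvPolynomial.C b) : EisRing d c) = algebraMap A _ b from rfl,
          AlgHom.commutes] at hax ⊢
        rw [IsScalarTower.algebraMap_apply A (ResidueField A)
          (TrivSqZeroExt (ResidueField A) (Fin r → ResidueField A))]
        refine (TrivSqZeroExt.fst_inl (Fin r → ResidueField A) (residue A b)).trans (Ideal.Quotient.eq.2 ?_).symm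
        exact (sup_le (Ideal.span_le.2 (by rintro _ ⟨i, rfl⟩; exact hc i 0))
          (Ideal.pow_le_self two_ne_zero) : I ≤ maximalIdeal A) (Ideal.Quotient.eq.1 hax)
      | add p q hp hq =>
        obtain ⟨b, hb⟩ := Ideal.Quotient.mk_surjective (φ₀ (Ideal.Quotient.mk _ p))
        have h2 : Ideal.Quotient.mk I (a - b) = φ₀ (Ideal.Quotient.mk _ q) := by
          rw [map_sub, hax, hb, map_add, map_add, add_sub_cancel_left]
        rw [map_add, map_add, TrivSqZeroExt.fst_add, hp b hb, hq _ h2, map_sub, add_sub_cancel]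
      | mul_X p i hp =>
        rw [map_mul, map_mul, show φ₁ (Ideal.Quotient.mk _ (MvPolynomial.X i)) = e i from lift_gen d c e h1 i,
          TrivSqZeroExt.fst_mul, show TrivSqZeroExt.fst (e i) = 0 from TrivSqZeroExt.fst_inr _ _, mul_zero]
        rw [map_mul, map_mul, show φ₀ (Ideal.Quotient.mk _ (MvPolynomial.X i)) = 0 from lift_gen d c _ h0 i,
          mul_zero, Ideal.Quotient.eq_zero_iff_mem] at hax
        exact ((residue_eq_zero_iff _).2 ((sup_le (Ideal.span_le.2 (by rintro _ ⟨i, rfl⟩; exact hc i 0))
          (Ideal.pow_le_self two_ne_zero) : I ≤ maximalIdeal A) hax)).symm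
    have hsm : ∀ j : s, (j : EisRing d c) ∈ maximalIdeal (EisRing d c) :=
      fun j => hspan ▸ Submodule.subset_span j.2
    have hlift : ∀ y ∈ maximalIdeal (EisRing d c), ∃ a ∈ maximalIdeal A, Ideal.Quotient.mk I a = φ₀ y := by
      intro y hy
      rw [hJ] at hy
      obtain ⟨y₁, hy₁, y₂, hy₂, rfl⟩ := Submodule.mem_sup.1 hy
      have hy₁' : φ₀ y₁ ∈ (maximalIdeal A).map (algebraMap A (A ⧸ I)) := by
        have h3 := Ideal.mem_map_of_mem φ₀ hy₁
        rw [← Ideal.map_coe φ₀, Ideal.map_map] at h3
        rwa [show (φ₀ : EisRing d c →+* A ⧸ I).comp (algebraMap A (EisRing d c)) = algebraMap A (A ⧸ I) from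
          φ₀.comp_algebraMap] at h3
      have hy₂' : φ₀ y₂ = 0 :=
        (Ideal.span_le (I := RingHom.ker φ₀)).2 (by rintro _ ⟨i, rfl⟩; exact lift_gen d c _ h0 i) hy₂
      rw [map_add, hy₂', add_zero]
      exact (Ideal.mem_map_iff_of_surjective _ Ideal.Quotient.mk_surjective).1 hy₁'
    choose av hav hav' using fun j : s => hlift _ (hsm j)
    let W := (CotangentSpace A ⧸ Submodule.span (ResidueField A) (Set.range v)) × (Fin r → ResidueField A)
    let g : s → W := fun j =>
      (Submodule.Quotient.mk ((maximalIdeal A).toCotangent ⟨av j, hav j⟩), TrivSqZeroExt.snd (φ₁ j))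
    have hg : Submodule.span (ResidueField A) (Set.range g) = ⊤ := by
      rw [eq_top_iff]
      rintro ⟨q, w⟩ -
      obtain ⟨z, rfl⟩ := Submodule.Quotient.mk_surjective _ q
      obtain ⟨⟨a, ha⟩, rfl⟩ := (maximalIdeal A).toCotangent_surjective z
      choose wl hwl using fun i => IsLocalRing.residue_surjective (w i)
      have hy : algebraMap A (EisRing d c) a + ∑ i, algebraMap A _ (wl i) * gen d c i ∈
          maximalIdeal (EisRing d c) := by
        rw [hJ]
        exact add_mem (Submodule.mem_sup_left (Ideal.mem_map_of_mem _ ha))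
          (Ideal.sum_mem _ fun i _ => Submodule.mem_sup_right (Ideal.mul_mem_left _ _ (Ideal.subset_span ⟨i, rfl⟩)))
      obtain ⟨x, hx⟩ := Submodule.mem_span_finset'.1 (hspan.symm ▸ hy :
        _ ∈ Submodule.span (EisRing d c) (s : Set (EisRing d c)))
      choose b hb using fun j : s => Ideal.Quotient.mk_surjective (φ₀ (x j))
      suffices h : ((Submodule.Quotient.mk ((maximalIdeal A).toCotangent ⟨a, ha⟩), w) : W) =
          ∑ j, residue A (b j) • g j by
        rw [h]
        exact Submodule.sum_mem _ fun j _ => Submodule.smul_mem _ _ (Submodule.subset_span ⟨j, rfl⟩)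
      refine Prod.ext ?_ ?_
      · have hsum : a - ∑ j, b j * av j ∈ I := by
          rw [← Ideal.Quotient.eq_zero_iff_mem, map_sub, sub_eq_zero, map_sum]
          have h3 := congrArg φ₀ hx
          simp only [map_sum, map_add, map_mul, smul_eq_mul, AlgHom.commutes] at h3
          simp only [φ₀, lift_gen, mul_zero, Finset.sum_const_zero, add_zero] at h3
          refine h3.symm.trans (Finset.sum_congr rfl fun j _ => ?_)
          rw [map_mul, hb, hav']
        obtain ⟨i₁, hi₁, i₂, hi₂, hi⟩ := Submodule.mem_sup.1 hsum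
        obtain ⟨β, hβ⟩ := (Ideal.mem_span_range_iff_exists_fun).1 hi₁
        have hsub : (⟨a, ha⟩ : maximalIdeal A) =
            ∑ j, b j • (⟨av j, hav j⟩ : maximalIdeal A) + ∑ i, β i • (⟨c i 0, hc i 0⟩ : maximalIdeal A) +
              ⟨i₂, Ideal.pow_le_self two_ne_zero hi₂⟩ := by
          apply Subtype.ext
          simp only [Submodule.coe_add, AddSubmonoidClass.coe_finset_sum, Submodule.coe_smul, smul_eq_mul]
          rw [hβ]
          linear_combination -hi
        have h2 : (maximalIdeal A).toCotangent ⟨i₂, Ideal.pow_le_self two_ne_zero hi₂⟩ = 0 :=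
          Ideal.toCotangent_eq_zero _ _ |>.2 hi₂
        rw [Prod.fst_sum]
        change Submodule.Quotient.mk ((maximalIdeal A).toCotangent ⟨a, ha⟩) = _
        rw [hsub, map_add, map_add, map_sum, map_sum, h2, add_zero]
        simp only [map_smul]
        have hzero : (Submodule.Quotient.mk (∑ i, β i • (maximalIdeal A).toCotangent ⟨c i 0, hc i 0⟩) :
            CotangentSpace A ⧸ Submodule.span (ResidueField A) (Set.range v)) = 0 := by
          rw [Submodule.Quotient.mk_eq_zero]
          refine Submodule.sum_mem _ fun i _ => ?_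
          exact Submodule.smul_mem (Submodule.span (ResidueField A) (Set.range v)) (residue A (β i)) (Submodule.subset_span (R := ResidueField A) (Set.mem_range_self (f := v) i))
        rw [Submodule.Quotient.mk_add, hzero, add_zero, ← Submodule.mkQ_apply, map_sum]
        rfl
      · have h3 := congrArg (fun y => TrivSqZeroExt.snd (φ₁ y)) hx
        simp only [map_sum, map_add, map_mul, smul_eq_mul, AlgHom.commutes, TrivSqZeroExt.snd_sum,
          TrivSqZeroExt.snd_add] at h3
        rw [Prod.snd_sum]
        change w = _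
        have h4 : TrivSqZeroExt.snd (algebraMap A (TrivSqZeroExt (ResidueField A) (Fin r → ResidueField A)) a) = 0 := by
          rw [IsScalarTower.algebraMap_apply A (ResidueField A)
            (TrivSqZeroExt (ResidueField A) (Fin r → ResidueField A))]
          exact TrivSqZeroExt.snd_inl _ _
        have h5 : ∀ i, TrivSqZeroExt.snd
            (algebraMap A (TrivSqZeroExt (ResidueField A) (Fin r → ResidueField A)) (wl i) * φ₁ (gen d c i)) =
            w i • (Pi.single i 1 : Fin r → ResidueField A) := by
          intro i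
          rw [IsScalarTower.algebraMap_apply A (ResidueField A)
            (TrivSqZeroExt (ResidueField A) (Fin r → ResidueField A)), show φ₁ (gen d c i) = e i from lift_gen d c e h1 i]
          change TrivSqZeroExt.snd (TrivSqZeroExt.inl (residue A (wl i)) * TrivSqZeroExt.inr (Pi.single i (1 : ResidueField A) : Fin r → ResidueField A)) = _
          rw [TrivSqZeroExt.inl_mul_inr, TrivSqZeroExt.snd_inr, hwl]
        rw [h4, zero_add] at h3
        simp only [h5] at h3
        rw [← pi_eq_sum_univ' w] at h3
        rw [← h3]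
        refine Finset.sum_congr rfl fun j _ => ?_
        rw [TrivSqZeroExt.snd_mul, hcomp _ _ (hb j), hcomp _ _ (hav' j),
          (residue_eq_zero_iff (av j)).2 (hav j)]
        simp [g]
        rfl
    have hW : Module.finrank (ResidueField A) W ≤ n := by
      rw [← finrank_top (ResidueField A) W, ← hg]
      exact (finrank_range_le_card g).trans (by rw [Fintype.card_coe, hsn])
    rw [linearIndependent_iff_card_le_finrank_span, Fintype.card_fin]
    rw [Module.finrank_prod, Module.finrank_fin_fun] at hW
    change r ≤ Module.finrank (ResidueField A) (Submodule.span (ResidueField A) (Set.range v))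
    change _ + _ = n at hQ
    omega
  · intro hli
    have hspv : Module.finrank (ResidueField A) (Submodule.span (ResidueField A) (Set.range v)) = r := by
      rw [finrank_span_eq_card hli, Fintype.card_fin]
    let bQ := Module.finBasis (ResidueField A) (CotangentSpace A ⧸ Submodule.span (ResidueField A) (Set.range v))
    choose z hz using fun j => Submodule.Quotient.mk_surjective _ (bQ j)
    choose y hy using fun j => (maximalIdeal A).toCotangent_surjective (z j)
    let I : Ideal A := Ideal.span (Set.range fun i => c i 0) ⊔ Ideal.span (Set.range fun j => (y j : A))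
    have hmI : maximalIdeal A ≤ I := by
      refine Submodule.le_of_le_smul_of_le_jacobson_bot (maximalIdeal A).fg_of_isNoetherianRing
        (maximalIdeal_le_jacobson _) ?_
      intro a ha
      have hq : (Submodule.Quotient.mk ((maximalIdeal A).toCotangent ⟨a, ha⟩) :
          CotangentSpace A ⧸ Submodule.span (ResidueField A) (Set.range v)) ∈
          Submodule.span (ResidueField A) (Set.range bQ) := by rw [bQ.span_eq]; trivial
      obtain ⟨α, hα⟩ := (Submodule.mem_span_range_iff_exists_fun _).1 hq
      choose αl hαl using fun j => IsLocalRing.residue_surjective (α j)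
      have h1 : (maximalIdeal A).toCotangent (⟨a, ha⟩ - ∑ j, αl j • y j) ∈
          Submodule.span (ResidueField A) (Set.range v) := by
        rw [← Submodule.Quotient.mk_eq_zero, map_sub, Submodule.Quotient.mk_sub, sub_eq_zero, ← hα, map_sum,
          ← Submodule.mkQ_apply, map_sum]
        refine Finset.sum_congr rfl fun j _ => ?_
        rw [map_smul, hy]
        change α j • bQ j = Submodule.Quotient.mk (αl j • z j)
        rw [← hz, ← hαl]
        rfl
      obtain ⟨β, hβ⟩ := (Submodule.mem_span_range_iff_exists_fun _).1 h1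
      choose βl hβl using fun i => IsLocalRing.residue_surjective (β i)
      have h2 : (maximalIdeal A).toCotangent
          (⟨a, ha⟩ - ∑ j, αl j • y j - ∑ i, βl i • (⟨c i 0, hc i 0⟩ : maximalIdeal A)) = 0 := by
        rw [map_sub, sub_eq_zero, ← hβ, map_sum]
        refine Finset.sum_congr rfl fun i _ => ?_
        rw [map_smul, ← hβl]
        rfl
      rw [Ideal.toCotangent_eq_zero] at h2
      simp only [AddSubgroupClass.coe_sub, AddSubmonoidClass.coe_finset_sum, Submodule.coe_smul, smul_eq_mul] at h2
      have h3 : a = (∑ j, αl j * (y j : A) + ∑ i, βl i * c i 0) +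
          (a - ∑ j, αl j * (y j : A) - ∑ i, βl i * c i 0) := by ring
      rw [h3]
      refine Submodule.add_mem_sup (add_mem ?_ ?_) (by rwa [smul_eq_mul, ← pow_two])
      · exact Ideal.sum_mem _ fun j _ => Submodule.mem_sup_right (Ideal.mul_mem_left _ _ (Ideal.subset_span ⟨j, rfl⟩))
      · exact Ideal.sum_mem _ fun i _ => Submodule.mem_sup_left (Ideal.mul_mem_left _ _ (Ideal.subset_span ⟨i, rfl⟩))
    let T : Finset (EisRing d c) := Finset.univ.image (gen d c) ∪
      Finset.univ.image (fun j => algebraMap A (EisRing d c) (y j : A))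
    have hT : maximalIdeal (EisRing d c) = Ideal.span (T : Set (EisRing d c)) := by
      refine le_antisymm ?_ (Ideal.span_le.2 ?_)
      · rw [hJ]
        refine sup_le ?_ (Ideal.span_mono ?_)
        · refine (Ideal.map_mono hmI).trans ?_
          rw [Ideal.map_sup, Ideal.map_span, Ideal.map_span, sup_le_iff]
          refine ⟨Ideal.span_le.2 ?_, Ideal.span_mono ?_⟩
          · rintro _ ⟨_, ⟨i, rfl⟩, rfl⟩
            have hr := rel d c i
            obtain ⟨k, hk⟩ : ∃ k, d i = k + 1 := ⟨d i - 1, by have := hd i; omega⟩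
            rw [hk, Finset.sum_range_succ' (fun k => algebraMap A (EisRing d c) (c i k) * gen d c i ^ k),
              pow_zero, mul_one] at hr
            rw [add_left_comm, ← add_assoc] at hr
            rw [eq_neg_of_add_eq_zero_right hr, SetLike.mem_coe]
            have ht : gen d c i ∈ Ideal.span (T : Set (EisRing d c)) :=
              Ideal.subset_span (Finset.mem_coe.2 (Finset.mem_union_left _ (Finset.mem_image_of_mem _ (Finset.mem_univ _))))
            refine neg_mem (add_mem (Ideal.sum_mem _ fun j _ => ?_) (Ideal.pow_mem_of_mem _ ht _ (Nat.succ_pos _)))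
            exact Ideal.mul_mem_left _ _ (Ideal.pow_mem_of_mem _ ht _ (Nat.succ_pos _))
          · rintro _ ⟨_, ⟨j, rfl⟩, rfl⟩
            simp [T]
        · rintro _ ⟨i, rfl⟩
          simp [T]
      · intro x hx
        rw [hJ]
        rcases Finset.mem_union.1 (Finset.mem_coe.1 hx) with h | h
        · obtain ⟨i, -, rfl⟩ := Finset.mem_image.1 h
          exact Submodule.mem_sup_right (Ideal.subset_span ⟨i, rfl⟩)
        · obtain ⟨j, -, rfl⟩ := Finset.mem_image.1 h
          exact Submodule.mem_sup_left (Ideal.mem_map_of_mem _ (y j).2)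
    have hNo : IsNoetherianRing (EisRing d c) := inferInstance
    haveI : IsRegularLocalRing (EisRing d c) := by
      refine IsRegularLocalRing.of_spanFinrank_maximalIdeal_le _ ?_
      rw [hdim, ← hn]
      have h1 : (maximalIdeal (EisRing d c)).spanFinrank ≤ T.card := by
        rw [hT]
        exact (Submodule.spanFinrank_span_le_ncard_of_finite T.finite_toSet).trans (Set.ncard_coe_finset _).le
      have h2 : T.card ≤ r + Module.finrank (ResidueField A)
          (CotangentSpace A ⧸ Submodule.span (ResidueField A) (Set.range v)) := by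
        refine (Finset.card_union_le _ _).trans (add_le_add ?_ ?_) <;>
          exact Finset.card_image_le.trans (by simp)
      exact_mod_cast h1.trans (h2.trans (by omega))
    exact isRegularRing_iff.mpr fun Q _ => CAlg1.regular_localization (EisRing d c) Q

end Regular

end Groth.Agent.EGA4Alg4.Eis13
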