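import Mathlib
import Groth.Prelude.Def_CAlgX
import Groth.Agent.FSQuot14.Basic

/-!
# Adic formal smoothness over a field: the criterion by absolute differentials

For a local algebra `A` over a field `k` and a subfield (or subring) `P` over which `k` is given, `A` is
formally smooth over `k` as soon as it is so over `P` and derivations of `k` into modules killed by the
maximal ideal extend to `A`; the extension property is equivalent to the injectivity of
`Ω_k ⊗ K → Ω_A ⊗ K`.
-/

set_option autoImplicit false

universe u

open TensorProduct KaehlerDifferential IsLocalRing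

namespace Groth.Agent.EGA4Alg4.KCrit13

section

variable (k A : Type u) [CommRing k] [CommRing A] [IsLocalRing A] [Algebra k A]

/-- Derivations of `k` into modules killed by the maximal ideal extend to `A`. -/
def ExtDer : Prop :=
  ∀ (V : Type u) [AddCommGroup V] [Module A V], (∀ a ∈ maximalIdeal A, ∀ v : V, a • v = 0) →
    ∀ δ : k →+ V, (∀ a b, δ (a * b) = algebraMap k A a • δ b + algebraMap k A b • δ a) →
      ∃ D : Derivation ℤ A V, ∀ c, D (algebraMap k A c) = δ c

variable {k A}

/-- A derivation of `k` given as an additive map. -/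
noncomputable def derivationOfAdd {V : Type u} [AddCommGroup V] [Module k V] (δ : k →+ V)
    (h : ∀ a b, δ (a * b) = a • δ b + b • δ a) : Derivation ℤ k V :=
  Derivation.mk' δ.toIntLinearMap h

theorem extDer_of_injective (h : Function.Injective ((mapBaseChange ℤ k A).lTensor (ResidueField A))) :
    ExtDer k A := by
  intro V _ _ hV δ hδ
  letI : Module (ResidueField A) V := Module.IsTorsionBySet.module (fun v a => hV a a.2 v)
  haveI : IsScalarTower A (ResidueField A) V := Module.IsTorsionBySet.isScalarTower _
  letI : Module k V := Module.compHom V (algebraMap k A)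
  haveI : IsScalarTower k A V := IsScalarTower.of_algebraMap_smul fun _ _ => rfl
  let φ : Ω[k⁄ℤ] →ₗ[k] V := (derivationOfAdd δ hδ).liftKaehlerDifferential
  let Φ : ResidueField A ⊗[A] (A ⊗[k] Ω[k⁄ℤ]) →ₗ[ResidueField A] V :=
    (φ.liftBaseChange A).liftBaseChange (ResidueField A)
  obtain ⟨g, hg⟩ := ((mapBaseChange ℤ k A).baseChange (ResidueField A)).exists_leftInverse_of_injective
    (LinearMap.ker_eq_bot.mpr h)
  let Ψ : Ω[A⁄ℤ] →ₗ[A] V := ((Φ ∘ₗ g).restrictScalars A) ∘ₗ TensorProduct.mk A (ResidueField A) Ω[A⁄ℤ] 1
  refine ⟨Ψ.compDer (D ℤ A), fun c => ?_⟩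
  have hd : D ℤ A (algebraMap k A c) = mapBaseChange ℤ k A ((1 : A) ⊗ₜ D ℤ k c) := by
    rw [mapBaseChange_tmul, one_smul, map_D]
  change Φ (g ((1 : ResidueField A) ⊗ₜ[A] D ℤ A (algebraMap k A c))) = δ c
  rw [hd, show (1 : ResidueField A) ⊗ₜ[A] mapBaseChange ℤ k A ((1 : A) ⊗ₜ D ℤ k c) =
    (mapBaseChange ℤ k A).baseChange (ResidueField A) ((1 : ResidueField A) ⊗ₜ[A] ((1 : A) ⊗ₜ D ℤ k c)) from rfl,
    ← LinearMap.comp_apply g, hg]
  simp [Φ, φ, derivationOfAdd] <;> rfl

theorem injective_of_forall_derivation
    (h : ∀ δ : Derivation ℤ k (ResidueField A), ∀ z : ResidueField A ⊗[A] (A ⊗[k] Ω[k⁄ℤ]),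
      (mapBaseChange ℤ k A).lTensor (ResidueField A) z = 0 →
        (δ.liftKaehlerDifferential.liftBaseChange A).liftBaseChange (ResidueField A) z = 0) :
    Function.Injective ((mapBaseChange ℤ k A).lTensor (ResidueField A)) := by
  rw [injective_iff_map_eq_zero]
  intro z hz
  refine (Module.forall_dual_apply_eq_zero_iff (ResidueField A) z).1 fun φ => ?_
  let φ' : Ω[k⁄ℤ] →ₗ[k] ResidueField A :=
    ((φ.restrictScalars A) ∘ₗ TensorProduct.mk A (ResidueField A) (A ⊗[k] Ω[k⁄ℤ]) 1).restrictScalars k ∘ₗ
      TensorProduct.mk k A Ω[k⁄ℤ] 1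
  have h1 := h (φ'.compDer (D ℤ k)) z hz
  have h2 : (φ'.compDer (D ℤ k)).liftKaehlerDifferential = φ' := by
    apply Derivation.liftKaehlerDifferential_unique
    ext c
    simp
  rw [h2] at h1
  have h3 : (φ'.liftBaseChange A).liftBaseChange (ResidueField A) = φ := by
    apply TensorProduct.AlgebraTensorModule.curry_injective
    apply LinearMap.ext_ring
    apply TensorProduct.AlgebraTensorModule.curry_injective
    apply LinearMap.ext_ring
    ext w
    simp [φ']
  rwa [h3] at h1

theorem injective_of_extDer (h : ExtDer k A) :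
    Function.Injective ((mapBaseChange ℤ k A).lTensor (ResidueField A)) := by
  refine injective_of_forall_derivation fun δ z hz => ?_
  obtain ⟨E, hE⟩ := h (ResidueField A)
    (fun a ha v => by
      rw [Algebra.smul_def, show algebraMap A (ResidueField A) a = 0 from (residue_eq_zero_iff a).2 ha, zero_mul])
    δ.toLinearMap.toAddMonoidHom fun a b => by
      change δ (a * b) = _
      rw [Derivation.leibniz, algebraMap_smul, algebraMap_smul]
      rfl
  have h4 : (δ.liftKaehlerDifferential.liftBaseChange A).liftBaseChange (ResidueField A) =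
      (E.liftKaehlerDifferential.liftBaseChange (ResidueField A)) ∘ₗ
        (mapBaseChange ℤ k A).baseChange (ResidueField A) := by
    apply TensorProduct.AlgebraTensorModule.curry_injective
    apply LinearMap.ext_ring
    apply TensorProduct.AlgebraTensorModule.curry_injective
    apply LinearMap.ext_ring
    apply Derivation.liftKaehlerDifferential_unique
    ext c
    simpa using (hE c).symm
  rw [h4, LinearMap.comp_apply, show (mapBaseChange ℤ k A).baseChange (ResidueField A) z = 0 from hz, map_zero]

theorem extDer_of_isAdicFormallySmooth_residueField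
    (h : CAlgX.IsAdicFormallySmooth k A (maximalIdeal A)) :
    ∀ δ : Derivation ℤ k (ResidueField A), ∃ D : Derivation ℤ A (ResidueField A),
      ∀ c, D (algebraMap k A c) = δ c := by
  intro δ
  let E := TrivSqZeroExt (ResidueField A) (ResidueField A)
  let i : k →+* E :=
    { toFun := fun c => TrivSqZeroExt.inl (algebraMap k (ResidueField A) c) + TrivSqZeroExt.inr (δ c)
      map_one' := by rw [map_one, Derivation.map_one_eq_zero, TrivSqZeroExt.inr_zero, add_zero, TrivSqZeroExt.inl_one]
      map_zero' := by rw [map_zero, map_zero, TrivSqZeroExt.inr_zero, TrivSqZeroExt.inl_zero, add_zero]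
      map_add' := fun a b => by
        rw [map_add, map_add, TrivSqZeroExt.inl_add, TrivSqZeroExt.inr_add, add_add_add_comm]
      map_mul' := fun a b => by
        refine TrivSqZeroExt.ext ?_ ?_
        · change algebraMap k (ResidueField A) (a * b) + 0 =
            (algebraMap k (ResidueField A) a + 0) * (algebraMap k (ResidueField A) b + 0)
          rw [add_zero, add_zero, add_zero, map_mul]
        · change 0 + δ (a * b) = (algebraMap k (ResidueField A) a + 0) • (0 + δ b) +
            MulOpposite.op (algebraMap k (ResidueField A) b + 0) • (0 + δ a)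
          rw [op_smul_eq_smul, Derivation.leibniz, Algebra.smul_def, Algebra.smul_def]
          simp only [add_zero, zero_add, smul_eq_mul] }
  letI : Algebra k E := i.toAlgebra
  let π : E →ₐ[k] ResidueField A :=
    { TrivSqZeroExt.fstHom (ResidueField A) (ResidueField A) (ResidueField A) with
      commutes' := fun c => by
        change TrivSqZeroExt.fst (TrivSqZeroExt.inl (algebraMap k (ResidueField A) c) + TrivSqZeroExt.inr (δ c)) = _
        rw [TrivSqZeroExt.fst_add, TrivSqZeroExt.fst_inl, TrivSqZeroExt.fst_inr, add_zero] }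
  let J : Ideal E := RingHom.ker π
  have hJ : J ^ 2 = ⊥ := by
    rw [pow_two, eq_bot_iff, Ideal.mul_le]
    intro x hx y hy
    rw [Ideal.mem_bot]
    have hx' : x.fst = 0 := hx
    have hy' : y.fst = 0 := hy
    refine TrivSqZeroExt.ext ?_ ?_
    · rw [TrivSqZeroExt.fst_mul, hx', zero_mul]; rfl
    · rw [TrivSqZeroExt.snd_mul, hx', hy', zero_smul, MulOpposite.op_zero, zero_smul, add_zero]; rfl
  have hsurj : Function.Surjective π := fun x => ⟨TrivSqZeroExt.inl x, rfl⟩
  let e := Ideal.quotientKerAlgEquivOfSurjective (f := π) hsurj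
  let ψ : A →ₐ[k] E ⧸ J := e.symm.toAlgHom.comp (IsScalarTower.toAlgHom k A (ResidueField A))
  obtain ⟨χ, hχ⟩ := h E J hJ ψ ⟨1, fun x hx => by
    rw [pow_one] at hx
    change e.symm (algebraMap A (ResidueField A) x) = 0
    rw [show algebraMap A (ResidueField A) x = 0 from (residue_eq_zero_iff x).2 hx, map_zero]⟩
  have hfst : ∀ a, (χ a).fst = residue A a := by
    intro a
    have h1 := congrArg e (AlgHom.congr_fun hχ a)
    rw [show ψ a = e.symm (residue A a) from rfl, e.apply_symm_apply] at h1
    exact h1
  refine ⟨Derivation.mk' (AddMonoidHom.toIntLinearMap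
    { toFun := fun a => (χ a).snd, map_zero' := by rw [map_zero]; rfl,
      map_add' := fun a b => by rw [map_add, TrivSqZeroExt.snd_add] }) (fun a b => ?_), fun c => ?_⟩
  · change (χ (a * b)).snd = a • (χ b).snd + b • (χ a).snd
    rw [map_mul, TrivSqZeroExt.snd_mul, hfst, hfst, op_smul_eq_smul]
    rfl
  · change (χ (algebraMap k A c)).snd = δ c
    rw [AlgHom.commutes]
    change (TrivSqZeroExt.inl (algebraMap k (ResidueField A) c) + TrivSqZeroExt.inr (δ c)).snd = δ c
    rw [TrivSqZeroExt.snd_add, TrivSqZeroExt.snd_inl, TrivSqZeroExt.snd_inr, zero_add]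

theorem injective_of_isAdicFormallySmooth (h : CAlgX.IsAdicFormallySmooth k A (maximalIdeal A)) :
    Function.Injective ((mapBaseChange ℤ k A).lTensor (ResidueField A)) := by
  refine injective_of_forall_derivation fun δ z hz => ?_
  obtain ⟨E, hE⟩ := extDer_of_isAdicFormallySmooth_residueField h δ
  have h4 : (δ.liftKaehlerDifferential.liftBaseChange A).liftBaseChange (ResidueField A) =
      (E.liftKaehlerDifferential.liftBaseChange (ResidueField A)) ∘ₗ
        (mapBaseChange ℤ k A).baseChange (ResidueField A) := by
    apply TensorProduct.AlgebraTensorModule.curry_injective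
    apply LinearMap.ext_ring
    apply TensorProduct.AlgebraTensorModule.curry_injective
    apply LinearMap.ext_ring
    apply Derivation.liftKaehlerDifferential_unique
    ext c
    simpa using (hE c).symm
  rw [h4, LinearMap.comp_apply, show (mapBaseChange ℤ k A).baseChange (ResidueField A) z = 0 from hz, map_zero]

end

section Devissage

variable {P k A : Type u} [CommRing P] [CommRing k] [CommRing A] [IsLocalRing A] [Algebra P k] [Algebra P A]
  [Algebra k A] [IsScalarTower P k A]

theorem exists_extension (hB : CAlgX.IsAdicFormallySmooth P A (maximalIdeal A)) (hext : ExtDer k A) (n : ℕ) :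
    ∀ (N : Type u) [AddCommGroup N] [Module A N] [Module P N] [IsScalarTower P A N],
      (∀ a ∈ maximalIdeal A ^ n, ∀ v : N, a • v = 0) →
      ∀ δ : k →+ N, (∀ a b, δ (a * b) = algebraMap k A a • δ b + algebraMap k A b • δ a) →
        (∀ r : P, δ (algebraMap P k r) = 0) →
        ∃ D : Derivation P A N, ∀ c, D (algebraMap k A c) = δ c := by
  induction n with
  | zero =>
    intro N _ _ _ _ hN δ _ _
    refine ⟨0, fun c => ?_⟩
    have := hN 1 (by simp) (δ c)
    rw [one_smul] at this
    simp [this]
  | succ n ih =>
    intro N _ _ _ _ hN δ hδ hP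
    let S : Submodule A N := maximalIdeal A • ⊤
    have hS : ∀ a ∈ maximalIdeal A, ∀ v : N ⧸ S, a • v = 0 := fun a ha v => by
      obtain ⟨v, rfl⟩ := S.mkQ_surjective v
      rw [← map_smul, Submodule.mkQ_apply, Submodule.Quotient.mk_eq_zero]
      exact Submodule.smul_mem_smul ha trivial
    obtain ⟨E, hE⟩ := hext (N ⧸ S) hS (S.mkQ.toAddMonoidHom.comp δ) fun a b => by
      change S.mkQ (δ (a * b)) = _
      rw [hδ, map_add, map_smul, map_smul]
      rfl
    have hEP : ∀ r : P, E (algebraMap P A r) = 0 := fun r => by
      rw [IsScalarTower.algebraMap_apply P k A, hE]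
      change S.mkQ (δ (algebraMap P k r)) = 0
      rw [hP, map_zero]
    let d' : Derivation P A (N ⧸ S) := Derivation.mk'
      { toFun := E
        map_add' := map_add E
        map_smul' := fun r a => by
          rw [RingHom.id_apply, Algebra.smul_def r a, Derivation.leibniz, hEP, smul_zero, add_zero,
            algebraMap_smul] }
      (fun a b => E.leibniz a b)
    obtain ⟨d, hd⟩ := FSQuot14.lift_derivation hB _ hN S.mkQ S.mkQ_surjective d'
    have hmem : ∀ c, δ c - d (algebraMap k A c) ∈ S := fun c => by
      rw [← Submodule.Quotient.mk_eq_zero, ← Submodule.mkQ_apply, map_sub, hd]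
      change S.mkQ (δ c) - E (algebraMap k A c) = 0
      rw [hE]
      exact sub_self _
    let δ' : k →+ S :=
      { toFun := fun c => ⟨δ c - d (algebraMap k A c), hmem c⟩
        map_zero' := Subtype.ext (by simp)
        map_add' := fun a b => Subtype.ext (by simp only [map_add, Submodule.coe_add]; abel) }
    obtain ⟨e, he⟩ := ih S (fun a ha v => by
        refine Subtype.ext ?_
        rw [SetLike.val_smul, ZeroMemClass.coe_zero]
        refine Submodule.smul_induction_on (p := fun z => a • z = 0) v.2 (fun b hb z _ => ?_)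
          fun z z' hz hz' => by rw [smul_add, hz, hz', add_zero]
        rw [smul_smul]
        exact hN _ (pow_succ (maximalIdeal A) n ▸ Ideal.mul_mem_mul ha hb) z)
      δ' (fun a b => Subtype.ext <| by
        simp only [δ', AddMonoidHom.coe_mk, ZeroHom.coe_mk, Submodule.coe_add, SetLike.val_smul, hδ, map_mul,
          Derivation.leibniz, smul_sub]
        abel)
      (fun r => Subtype.ext <| by
        simp [δ', hP, ← IsScalarTower.algebraMap_apply])
    refine ⟨d + S.subtype.compDer e, fun c => ?_⟩
    change d (algebraMap k A c) + ((e (algebraMap k A c) : S) : N) = δ c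
    rw [he c]
    exact add_sub_cancel _ _

theorem isAdicFormallySmooth_of_extDer (hB : CAlgX.IsAdicFormallySmooth P A (maximalIdeal A))
    (hext : ExtDer k A) : CAlgX.IsAdicFormallySmooth k A (maximalIdeal A) := by
  intro E _ _ J hJ ψ hψ
  obtain ⟨n, hn⟩ := hψ
  letI : Algebra P E := ((algebraMap k E).comp (algebraMap P k)).toAlgebra
  haveI : IsScalarTower P k E := IsScalarTower.of_algebraMap_eq fun _ => rfl
  obtain ⟨χ, hχ⟩ := hB E J hJ (ψ.restrictScalars P) ⟨n, hn⟩
  letI : Algebra A E := χ.toRingHom.toAlgebra
  haveI : IsScalarTower P A E := IsScalarTower.of_algebraMap_eq fun r => (χ.commutes r).symm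
  have hmk : ∀ a, Ideal.Quotient.mk J (χ a) = ψ a := AlgHom.congr_fun hχ
  have hJJ : ∀ x ∈ J, ∀ y ∈ J, x * y = 0 := fun x hx y hy => (Submodule.mem_bot E).mp (by
    rw [← hJ, pow_two]; exact Ideal.mul_mem_mul hx hy)
  have hmem : ∀ c, algebraMap k E c - χ (algebraMap k A c) ∈ J := fun c => by
    rw [← Ideal.Quotient.eq_zero_iff_mem, map_sub, hmk, AlgHom.commutes]
    exact sub_self _
  let δ : k →+ J :=
    { toFun := fun c => ⟨algebraMap k E c - χ (algebraMap k A c), hmem c⟩
      map_zero' := Subtype.ext (by simp)
      map_add' := fun a b => Subtype.ext (by simp only [map_add, Submodule.coe_add]; abel) }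
  obtain ⟨D, hD⟩ := exists_extension hB hext n J
    (fun a ha v => Subtype.ext <| hJJ (χ a) (by rw [← Ideal.Quotient.eq_zero_iff_mem, hmk]; exact hn a ha) _ v.2)
    δ (fun a b => Subtype.ext <| by
      change algebraMap k E (a * b) - χ (algebraMap k A (a * b)) =
        χ (algebraMap k A a) * (algebraMap k E b - χ (algebraMap k A b)) +
        χ (algebraMap k A b) * (algebraMap k E a - χ (algebraMap k A a))
      rw [map_mul, map_mul, map_mul]
      linear_combination hJJ _ (hmem a) _ (hmem b))
    (fun r => Subtype.ext <| by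
      change algebraMap k E (algebraMap P k r) - χ (algebraMap k A (algebraMap P k r)) = 0
      rw [← IsScalarTower.algebraMap_apply P k A, AlgHom.commutes, ← IsScalarTower.algebraMap_apply, sub_self])
  refine ⟨{ toFun := fun a => χ a + (D a : J)
            map_one' := by rw [map_one, D.map_one_eq_zero, ZeroMemClass.coe_zero, add_zero]
            map_zero' := by rw [map_zero, map_zero, ZeroMemClass.coe_zero, add_zero]
            map_add' := fun a b => by rw [map_add, map_add, Submodule.coe_add]; abel
            map_mul' := fun a b => by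
              rw [map_mul, D.leibniz, Submodule.coe_add]
              change χ a * χ b + (χ a * (D b : J) + χ b * (D a : J)) = _
              linear_combination -(hJJ _ (D a).2 _ (D b).2)
            commutes' := fun c => by
              rw [hD]
              change χ (algebraMap k A c) + (algebraMap k E c - χ (algebraMap k A c)) = _
              exact add_sub_cancel _ _ }, AlgHom.ext fun a => ?_⟩
  change Ideal.Quotient.mk J (χ a + (D a : J)) = ψ a
  rw [map_add, hmk, Ideal.Quotient.eq_zero_iff_mem.2 (D a).2, add_zero]

end Devissage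

end Groth.Agent.EGA4Alg4.KCrit13
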