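import Mathlib
import Groth.Agent.EGA4Alg4.KaehlerCrit
import Groth.Agent.EGA4Alg4.EisPoly
import Groth.Agent.PBasis12.Field
import Groth.Agent.Sep12.Basic

/-!
# Derivations and regularity after adjoining `p`-th roots

If a local algebra `A` over a field `k` of characteristic `p` stays regular after base change to the finite
extensions of `k` of height one, then derivations of `k` with values in the residue field extend to `A`.
-/

set_option autoImplicit false

universe u

open TensorProduct IsLocalRing Polynomial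

namespace Groth.Agent.EGA4Alg4.GeomDer13

theorem exists_derivation_field {K : Type u} [Field K] (p : ℕ) [Fact p.Prime] [CharP K p] (x : K)
    (hx : ∀ y, y ^ p ≠ x) : ∃ D : Derivation ℤ K K, D x = 1 := by
  let P := Sep12.prime K
  have hF : ∀ y ∈ EGA41.pPowerSubalgebra p P K, ∃ z, z ^ p = y := by
    intro y hy
    induction hy using Algebra.adjoin_induction with
    | mem y hy => obtain ⟨z, rfl⟩ := hy; exact ⟨z, rfl⟩
    | algebraMap r =>
      obtain ⟨z, hz⟩ := Sep12.pow_surjective_prime p r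
      exact ⟨(z : K), hz⟩
    | add a b _ _ ha hb => obtain ⟨z, rfl⟩ := ha; obtain ⟨w, rfl⟩ := hb; exact ⟨z + w, add_pow_char z w p⟩
    | mul a b _ _ ha hb => obtain ⟨z, rfl⟩ := ha; obtain ⟨w, rfl⟩ := hb; exact ⟨z * w, mul_pow z w p⟩
  have hind : EGA41.IsPIndependent p P (fun _ : PUnit.{u + 1} => x) := by
    rw [PBasis12.isPIndependent_iff]
    intro a ha
    rw [show {b : PUnit.{u + 1} | b ≠ a} = ∅ from Set.eq_empty_of_forall_notMem fun b hb => hb (Subsingleton.elim b a),
      Set.image_empty, Algebra.adjoin_empty, Algebra.mem_bot] at ha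
    obtain ⟨⟨y, hy⟩, hyx⟩ := ha
    obtain ⟨z, hz⟩ := hF y hy
    exact hx z (hz.trans hyx)
  have hne := ((PBasis12.isPIndependent_iff_D _).1 hind).ne_zero PUnit.unit
  obtain ⟨φ, hφ⟩ := not_forall.1 fun h => hne ((Module.forall_dual_apply_eq_zero_iff K _).1 h)
  refine ⟨((φ (KaehlerDifferential.D P K x))⁻¹ • φ.compDer (KaehlerDifferential.D P K)).restrictScalars ℤ, ?_⟩
  simp [inv_mul_cancel₀ hφ]

theorem exists_derivation_of_notMem_sq {A : Type u} [CommRing A] [IsLocalRing A] {k : Type u} [Field k]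
    [Algebra k A] {b : A} (hb : b ∈ maximalIdeal A) (hb2 : b ∉ maximalIdeal A ^ 2) :
    ∃ D : Derivation ℤ A (ResidueField A), D b = 1 := by
  classical
  let P := Sep12.prime k
  haveI : Algebra.FormallySmooth P (ResidueField A) := Sep12.formallySmooth_of_perfectField P _
  let π : (A ⧸ maximalIdeal A ^ 2) →ₐ[P] ResidueField A :=
    Ideal.Quotient.liftₐ _ (IsScalarTower.toAlgHom P A (ResidueField A)) fun x hx =>
      (residue_eq_zero_iff x).2 (Ideal.pow_le_self two_ne_zero hx)
  have hπ : Function.Surjective π := fun y => by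
    obtain ⟨x, rfl⟩ := IsLocalRing.residue_surjective y
    exact ⟨Ideal.Quotient.mk _ x, rfl⟩
  have hnil : IsNilpotent (RingHom.ker π.toRingHom) := by
    refine ⟨2, eq_bot_iff.2 ?_⟩
    have hker : RingHom.ker π.toRingHom ≤ (maximalIdeal A).map (Ideal.Quotient.mk _) := by
      intro y hy
      obtain ⟨x, rfl⟩ := Ideal.Quotient.mk_surjective y
      exact Ideal.mem_map_of_mem _ ((residue_eq_zero_iff x).1 hy)
    refine (Ideal.pow_right_mono hker 2).trans ?_
    rw [← Ideal.map_pow, Ideal.map_quotient_self]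
  let s : ResidueField A →ₐ[P] A ⧸ maximalIdeal A ^ 2 :=
    Algebra.FormallySmooth.liftOfSurjective (AlgHom.id P (ResidueField A)) π hπ hnil
  have hs : ∀ y, π (s y) = y := fun y =>
    Algebra.FormallySmooth.liftOfSurjective_apply (AlgHom.id P (ResidueField A)) π hπ hnil y
  choose σ hσ using fun y : ResidueField A => Ideal.Quotient.mk_surjective (s y)
  have hmem : ∀ x : A, x - σ (residue A x) ∈ maximalIdeal A := fun x => by
    rw [← residue_eq_zero_iff, map_sub]
    have := hs (residue A x)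
    rw [← hσ] at this
    exact sub_eq_zero.2 this.symm
  let d : A → CotangentSpace A := fun x => (maximalIdeal A).toCotangent ⟨x - σ (residue A x), hmem x⟩
  have hmk : ∀ x y : A, ∀ hx : x ∈ maximalIdeal A, ∀ hy : y ∈ maximalIdeal A,
      Ideal.Quotient.mk (maximalIdeal A ^ 2) x = Ideal.Quotient.mk (maximalIdeal A ^ 2) y →
        (maximalIdeal A).toCotangent ⟨x, hx⟩ = (maximalIdeal A).toCotangent ⟨y, hy⟩ := fun x y hx hy h =>
    Ideal.toCotangent_eq _ |>.2 (Ideal.Quotient.eq.1 h)
  have hadd : ∀ x y, d (x + y) = d x + d y := fun x y => by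
    simp only [d, ← map_add]
    refine hmk _ _ _ _ ?_
    simp only [map_sub, map_add, hσ]
    ring
  have hmul : ∀ x y, d (x * y) = x • d y + y • d x := fun x y => by
    simp only [d, ← map_smul, ← map_add]
    refine hmk _ _ _ _ ?_
    have h0 : Ideal.Quotient.mk (maximalIdeal A ^ 2) ((x - σ (residue A x)) * (y - σ (residue A y))) = 0 := by
      rw [Ideal.Quotient.eq_zero_iff_mem, pow_two]
      exact Ideal.mul_mem_mul (hmem x) (hmem y)
    simp only [map_sub, map_add, map_mul, smul_eq_mul, hσ, Submodule.coe_add, SetLike.val_smul] at h0 ⊢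
    linear_combination -h0
  have hd0 : d 0 = 0 := by
    have := hadd 0 0
    rwa [add_zero, eq_comm, add_eq_left] at this
  let dDer : Derivation ℤ A (CotangentSpace A) :=
    Derivation.mk' (AddMonoidHom.toIntLinearMap { toFun := d, map_zero' := hd0, map_add' := hadd }) hmul
  have hbne : d b ≠ 0 := by
    intro h
    refine hb2 ?_
    have h' := h
    simp only [d, Ideal.toCotangent_eq_zero] at h'
    have h1 : σ (residue A b) ∈ maximalIdeal A ^ 2 := by
      rw [← Ideal.Quotient.eq_zero_iff_mem, hσ, (residue_eq_zero_iff b).2 hb, map_zero]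
    have := add_mem h' h1
    rwa [sub_add_cancel] at this
  obtain ⟨φ, hφ⟩ := not_forall.1 fun h => hbne ((Module.forall_dual_apply_eq_zero_iff (ResidueField A) _).1 h)
  refine ⟨(((φ (d b))⁻¹ • φ).restrictScalars A).compDer dDer, ?_⟩
  change (φ (d b))⁻¹ • φ (d b) = 1
  rw [smul_eq_mul, inv_mul_cancel₀ hφ]

section Step

variable {k A : Type u} [Field k] [CommRing A] [IsLocalRing A] [Algebra k A] (p : ℕ) [Fact p.Prime]
  [CharP k p]

theorem exists_derivation_eq_one [IsRegularLocalRing A] (a : k) (ha : ∀ y : k, y ^ p ≠ a)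
    (hreg : IsRegularRing (AdjoinRoot (X ^ p - C a : k[X]) ⊗[k] A)) :
    ∃ D : Derivation ℤ A (ResidueField A), D (algebraMap k A a) = 1 := by
  classical
  haveI : CharP (ResidueField A) p := charP_of_injective_algebraMap (algebraMap k (ResidueField A)).injective p
  haveI : CharP A p := charP_of_injective_algebraMap (algebraMap k A).injective p
  by_cases hx : ∀ y : ResidueField A, y ^ p ≠ residue A (algebraMap k A a)
  · obtain ⟨D, hD⟩ := exists_derivation_field p _ hx
    refine ⟨Derivation.compAlgebraMap A D, ?_⟩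
    exact hD
  push Not at hx
  obtain ⟨y, hy⟩ := hx
  obtain ⟨c₀, rfl⟩ := IsLocalRing.residue_surjective y
  set b := algebraMap k A a - c₀ ^ p with hbdef
  have hb : b ∈ maximalIdeal A := by rw [← residue_eq_zero_iff, map_sub, map_pow, hy, sub_self]
  suffices hb2 : b ∉ maximalIdeal A ^ 2 by
    obtain ⟨D, hD⟩ := exists_derivation_of_notMem_sq (k := k) hb hb2
    refine ⟨D, ?_⟩
    have h1 : D (c₀ ^ p) = 0 := by
      rw [Derivation.leibniz_pow, ← Nat.cast_smul_eq_nsmul A, CharP.cast_eq_zero, zero_smul]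
    rw [hbdef, map_sub, h1, sub_zero] at hD
    exact hD
  let L := AdjoinRoot (X ^ p - C a : k[X])
  letI : Algebra A (L ⊗[k] A) := Algebra.TensorProduct.rightAlgebra
  have hp : p.Prime := Fact.out
  haveI : Fact (Irreducible (X ^ p - C a : k[X])) := ⟨X_pow_sub_C_irreducible_of_prime hp ha⟩
  haveI : Nontrivial (L ⊗[k] A) :=
    (Algebra.TensorProduct.includeRight_injective (A := L) (B := A) (algebraMap k L).injective).nontrivial
  haveI : CharP (L ⊗[k] A) p := charP_of_injective_algebraMap (algebraMap k (L ⊗[k] A)).injective p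
  let d : Fin 1 → ℕ := fun _ => p
  let c : Fin 1 → ℕ → A := fun _ j => if j = 0 then -b else 0
  have hd : ∀ i, 2 ≤ d i := fun _ => hp.two_le
  have hc : ∀ i j, c i j ∈ maximalIdeal A := fun _ j => by
    by_cases hj : j = 0 <;> simp [c, hj, hb]
  have hsum : ∀ {B : Type u} [CommRing B] (g : A →+* B) (t : B) (i : Fin 1),
      t ^ d i + ∑ j ∈ Finset.range (d i), g (c i j) * t ^ j = t ^ p - g b := by
    intro B _ g t i
    rw [Finset.sum_eq_single 0 (fun j _ hj => by simp [c, hj]) (fun h => absurd (Finset.mem_range.2 hp.pos) h)]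
    simp [c, d, sub_eq_add_neg]
  let f : A →+* L ⊗[k] A := algebraMap A (L ⊗[k] A)
  let α : L ⊗[k] A := AdjoinRoot.root _ ⊗ₜ[k] (1 : A)
  have htmul : ∀ x : k, (algebraMap k L x) ⊗ₜ[k] (1 : A) = (1 : L) ⊗ₜ[k] algebraMap k A x := fun x => by
    rw [Algebra.algebraMap_eq_smul_one, smul_tmul, ← Algebra.algebraMap_eq_smul_one]
  have hα : α ^ p = f (algebraMap k A a) := by
    have h1 : (AdjoinRoot.root (X ^ p - C a : k[X])) ^ p = algebraMap k L a := by
      have := AdjoinRoot.eval₂_root (X ^ p - C a : k[X])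
      rwa [eval₂_sub, eval₂_pow, eval₂_X, eval₂_C, sub_eq_zero] at this
    rw [Algebra.TensorProduct.tmul_pow, one_pow, h1]
    exact htmul a
  let t₀ : L ⊗[k] A := α - f c₀
  have ht₀ : ∀ i, t₀ ^ d i + ∑ j ∈ Finset.range (d i), algebraMap A (L ⊗[k] A) (c i j) * t₀ ^ j = 0 := by
    intro i
    rw [hsum (algebraMap A (L ⊗[k] A)) t₀ i, sub_pow_char, hα, hbdef, map_sub, map_pow]
    exact sub_self _
  let φ : Eis13.EisRing d c →ₐ[A] L ⊗[k] A := Eis13.lift d c (fun _ => t₀) ht₀
  haveI := (Eis13.isLocalRing_and_maximalIdeal hd hc).1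
  haveI : CharP (Eis13.EisRing d c) p :=
    charP_of_injective_algebraMap (algebraMap k (Eis13.EisRing d c)).injective p
  let u₀ : Eis13.EisRing d c := Eis13.gen d c 0 + algebraMap A _ c₀
  have hu₀ : (X ^ p - C a : k[X]).eval₂ (Algebra.ofId k (Eis13.EisRing d c) : k →+* Eis13.EisRing d c) u₀ = 0 := by
    have hr := Eis13.rel d c 0
    rw [hsum (algebraMap A (Eis13.EisRing d c)) (Eis13.gen d c 0) 0, sub_eq_zero] at hr
    rw [eval₂_sub, eval₂_pow, eval₂_X, eval₂_C, add_pow_char, hr, ← map_pow, ← map_add, hbdef, sub_add_cancel,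
      ← IsScalarTower.algebraMap_apply]
    exact sub_self _
  let ψ : L ⊗[k] A →ₐ[k] Eis13.EisRing d c :=
    Algebra.TensorProduct.lift (AdjoinRoot.liftAlgHom _ (Algebra.ofId k _) u₀ hu₀)
      (IsScalarTower.toAlgHom k A _) fun _ _ => Commute.all _ _
  have hψf : ∀ x, ψ (f x) = algebraMap A _ x := fun x => by
    change ψ ((1 : L) ⊗ₜ[k] x) = _
    rw [Algebra.TensorProduct.lift_tmul, map_one, one_mul]
    rfl
  have hψα : ψ α = u₀ := by
    rw [Algebra.TensorProduct.lift_tmul, map_one, mul_one, AdjoinRoot.liftAlgHom_root]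
  have h1 : ψ.toRingHom.comp φ.toRingHom = RingHom.id _ := by
    refine Ideal.Quotient.ringHom_ext (MvPolynomial.ringHom_ext (fun x => ?_) (fun i => ?_))
    · change ψ (φ (algebraMap A _ x)) = algebraMap A _ x
      rw [AlgHom.commutes]
      exact hψf x
    · change ψ (φ (Eis13.gen d c i)) = Eis13.gen d c i
      rw [Eis13.lift_gen, map_sub, hψα, hψf, add_sub_cancel_right, Subsingleton.elim i 0]
  have h2 : φ.toRingHom.comp ψ.toRingHom = RingHom.id _ := by
    have hk : ∀ x : k, φ.toRingHom (ψ (algebraMap k _ x)) = algebraMap k (L ⊗[k] A) x := fun x => by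
      rw [AlgHom.commutes, IsScalarTower.algebraMap_apply k A (Eis13.EisRing d c)]
      change φ (algebraMap A _ _) = _
      rw [AlgHom.commutes]
      exact (htmul x).symm
    let comp : L ⊗[k] A →ₐ[k] L ⊗[k] A := { φ.toRingHom.comp ψ.toRingHom with commutes' := hk }
    suffices comp = AlgHom.id k _ from RingHom.ext fun z => AlgHom.congr_fun this z
    refine Algebra.TensorProduct.ext (AdjoinRoot.algHom_ext ?_) (AlgHom.ext fun x => ?_)
    · change φ (ψ α) = α
      rw [hψα, map_add, Eis13.lift_gen, AlgHom.commutes]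
      exact sub_add_cancel α (f c₀)
    · change φ (ψ (f x)) = f x
      rw [hψf, AlgHom.commutes]
  let e : Eis13.EisRing d c ≃+* L ⊗[k] A := RingEquiv.ofRingHom φ.toRingHom ψ.toRingHom h2 h1
  haveI := hreg
  have hR : IsRegularRing (Eis13.EisRing d c) := IsRegularRing.of_ringEquiv (R := L ⊗[k] A) e.symm
  have hli := (Eis13.isRegular_iff hd hc).1 hR
  have hne := hli.ne_zero 0
  intro hcon
  exact hne ((Ideal.toCotangent_eq_zero _ _).2 (by simpa [c] using hcon))

end Step

end Groth.Agent.EGA4Alg4.GeomDer13
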