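import Mathlib
import Groth.Agent.EGA4Alg4.IntegralDim
import Groth.Agent.EGA4Alg4.DepthChange
import Groth.Agent.EGA4H10.RegAway
import Groth.Agent.CAlg1.Serre
import Groth.Agent.S0605

/-! Rows S5764, S5781, S5783, S5807. -/

set_option autoImplicit false

universe u

open IsLocalRing
open scoped Pointwise

namespace Groth.Agent.EGA4Alg4.Misc13

theorem ringKrullDim_localization_maximal (A B : Type u) [CommRing A]
    [CommRing B] [IsDomain B] [Algebra A B] (hinj : Function.Injective (algebraMap A B)) [IsDomain A]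
    [IsLocalRing A] [IsIntegrallyClosed A] [Algebra.IsIntegral A B] (n : Ideal B) [n.IsMaximal] :
    ringKrullDim (Localization.AtPrime n) = ringKrullDim A := by
  have : FaithfulSMul A B := (faithfulSMul_iff_algebraMap_injective A B).2 hinj
  rw [IsLocalization.AtPrime.ringKrullDim_eq_height n]
  refine le_antisymm ?_ ?_
  · exact (Ideal.height_le_ringKrullDim_of_isPrime).trans (EGA4Alg4.ringKrullDim_le_of_integral A B)
  · refine iSup_le fun l => ?_
    have hn : n.comap (algebraMap A B) = maximalIdeal A :=
      IsLocalRing.eq_maximalIdeal (Ideal.isMaximal_comap_of_isIntegral_of_isMaximal n)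
    have : n.LiesOver (maximalIdeal A) := ⟨hn.symm⟩
    obtain ⟨P, hPn, hP, hPl⟩ := Ideal.exists_ideal_le_liesOver_of_le (p := l.last.asIdeal)
      (q := maximalIdeal A) n (le_maximalIdeal_of_isPrime _)
    obtain ⟨L, hlen, hlast, -⟩ := Ideal.exists_ltSeries_of_hasGoingDown l P
    have h1 : (L.length : ℕ∞) ≤ n.height := by
      refine le_trans ?_ (Ideal.height_mono hPn)
      have := PrimeSpectrum.height_eq_orderHeight ⟨P, hP⟩
      rw [this, ← hlast]
      exact Order.length_le_height_last
    rw [← hlen]
    exact WithBot.coe_le_coe.2 h1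

theorem exists_splitting (A : Type u) [CommRing A] [IsLocalRing A]
    (a : A) (ha : a ∈ maximalIdeal A) (ha2 : a ∉ maximalIdeal A ^ 2) :
    ∃ (f : (↥(maximalIdeal A) ⧸ Submodule.span A {(⟨a, ha⟩ : ↥(maximalIdeal A))}) →ₗ[A]
          QuotSMulTop a ↥(maximalIdeal A))
      (g : QuotSMulTop a ↥(maximalIdeal A) →ₗ[A]
          (↥(maximalIdeal A) ⧸ Submodule.span A {(⟨a, ha⟩ : ↥(maximalIdeal A))})),
      g.comp f = LinearMap.id := by
  set m := maximalIdeal A with hm
  let a' : m := ⟨a, ha⟩
  have hne : m.toCotangent a' ≠ 0 := by rwa [Ne, Ideal.toCotangent_eq_zero]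
  obtain ⟨φ, hφ⟩ : ∃ φ : CotangentSpace A →ₗ[ResidueField A] ResidueField A, φ (m.toCotangent a') = 1 :=
    Module.Projective.exists_dual_eq_one (ResidueField A) hne
  let ψ : m →ₗ[A] ResidueField A := (φ.restrictScalars A).comp m.toCotangent
  let L : Submodule A m := LinearMap.ker ψ
  let pr : ↥m →ₗ[A] ↥m ⧸ Submodule.span A {a'} := Submodule.mkQ _
  let q : L →ₗ[A] ↥m ⧸ Submodule.span A {a'} := pr.comp L.subtype
  have hq : Function.Surjective q := by
    intro y
    obtain ⟨x, rfl⟩ := Submodule.mkQ_surjective _ y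
    obtain ⟨c, hc⟩ := Ideal.Quotient.mk_surjective (ψ x)
    refine ⟨⟨x - c • a', ?_⟩, ?_⟩
    · change ψ (x - c • a') = 0
      rw [map_sub, map_smul, show ψ a' = 1 from hφ, ← hc, Algebra.smul_def, mul_one]
      exact sub_self _
    · refine (Submodule.Quotient.eq _).2 ?_
      rw [Submodule.subtype_apply, sub_sub_cancel_left]
      exact neg_mem (Submodule.smul_mem _ _ (Submodule.subset_span rfl))
  let r : L →ₗ[A] QuotSMulTop a m := (a • ⊤ : Submodule A m).mkQ.comp L.subtype
  have hker : LinearMap.ker q ≤ LinearMap.ker r := by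
    rintro ⟨x, hxL⟩ hx
    rw [LinearMap.mem_ker] at hx ⊢
    obtain ⟨e, rfl⟩ := Submodule.mem_span_singleton.1 ((Submodule.Quotient.mk_eq_zero _).1 hx)
    have he : e ∈ m := by
      have h1 : ψ (e • a') = 0 := hxL
      rw [map_smul, show ψ a' = 1 from hφ, Algebra.smul_def, mul_one] at h1
      exact Ideal.Quotient.eq_zero_iff_mem.1 h1
    refine (Submodule.Quotient.mk_eq_zero _).2 ?_
    rw [Submodule.mem_smul_pointwise_iff_exists]
    exact ⟨⟨e, he⟩, trivial, Subtype.ext (mul_comm a e)⟩
  let eq := q.quotKerEquivOfSurjective hq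
  refine ⟨((LinearMap.ker q).liftQ r hker).comp eq.symm.toLinearMap,
    Submodule.liftQ _ pr ?_, LinearMap.ext fun y => ?_⟩
  · intro x hx
    obtain ⟨z, -, rfl⟩ := Submodule.mem_smul_pointwise_iff_exists _ _ _ |>.1 hx
    refine (Submodule.Quotient.mk_eq_zero _).2 (Submodule.mem_span_singleton.2 ⟨(z : A), ?_⟩)
    exact Subtype.ext (mul_comm (z : A) a)
  · obtain ⟨z, rfl⟩ := eq.surjective y
    obtain ⟨z, rfl⟩ := Submodule.Quotient.mk_surjective _ z
    simp only [LinearMap.comp_apply, LinearEquiv.coe_coe, LinearEquiv.symm_apply_apply,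
      LinearMap.id_apply]
    change pr (z : m) = eq (Submodule.Quotient.mk z)
    exact (LinearMap.quotKerEquivOfSurjective_apply_mk q hq z).symm

theorem free_iff (A B : Type u) [CommRing A] [CommRing B]
    [IsRegularLocalRing A] [IsLocalRing B] [Algebra A B] [IsLocalHom (algebraMap A B)] [Module.Finite A B] :
    Module.Free A B ↔ LocCoh.IsCohenMacaulayLocalRing B ∧ Function.Injective (algebraMap A B) := by
  have : IsNoetherianRing B := IsNoetherianRing.of_finite A B
  obtain ⟨d, hd⟩ : ∃ d : ℕ, ringKrullDim A = d :=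
    ⟨_, (IsRegularLocalRing.spanFinrank_maximalIdeal (R := A)).symm⟩
  have hdep : LocCoh.depth A B = LocCoh.depth B B := EGA4Alg4.depth_eq_of_finite B
  constructor
  · intro hfree
    have hinj : Function.Injective (algebraMap A B) := FaithfulSMul.algebraMap_injective A B
    refine ⟨⟨?_⟩, hinj⟩
    rw [Module.supportDim_self_eq_ringKrullDim, EGA4Alg4.ringKrullDim_eq_of_integral A B hinj, ← hdep,
      CAlg1.depth_eq_of_free, CAlg1.depth_regular A hd, hd]
    rfl
  · rintro ⟨hCM, hinj⟩
    refine Groth.Agent.S0605.result A B ?_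
    rw [hdep, ← hCM.supportDim_eq_depth, Module.supportDim_self_eq_ringKrullDim,
      EGA4Alg4.ringKrullDim_eq_of_integral A B hinj]

theorem isRegularRing_localization {R : Type u} [CommRing R] [IsRegularRing R] (S : Submonoid R) :
    IsRegularRing (Localization S) := by
  have : IsNoetherianRing (Localization S) := IsLocalization.isNoetherianRing S _ inferInstance
  refine isRegularRing_iff.mpr fun P _ => ?_
  exact IsRegularLocalRing.of_ringEquiv
    (IsLocalization.localizationLocalizationAtPrimeIsoLocalization S P).toRingEquiv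

theorem exists_isRegularRing_surjective (B A C : Type u) [CommRing B]
    [IsRegularRing B] [CommRing A] (π : B →+* A) (hπ : Function.Surjective π) [CommRing C] [Algebra A C]
    [Algebra.FiniteType A C] (S : Submonoid C) :
    ∃ (R : Type u) (_ : CommRing R) (_ : IsRegularRing R) (f : R →+* Localization S),
      Function.Surjective f := by
  obtain ⟨k, φ, hφ⟩ := Algebra.FiniteType.iff_quotient_mvPolynomial''.1 ‹Algebra.FiniteType A C›
  let g : MvPolynomial (Fin k) B →+* C := φ.toRingHom.comp (MvPolynomial.map π)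
  have hg : Function.Surjective g := hφ.comp (MvPolynomial.map_surjective π hπ)
  let T : Submonoid (MvPolynomial (Fin k) B) := S.comap g
  have hT : Submonoid.map g T = S := by
    apply le_antisymm
    · rintro _ ⟨x, hx, rfl⟩; exact hx
    · intro x hx
      obtain ⟨y, rfl⟩ := hg x
      exact ⟨y, hx, rfl⟩
  have : IsLocalization (Submonoid.map g T) (Localization S) := by rw [hT]; infer_instance
  refine ⟨Localization T, inferInstance, isRegularRing_localization T,
    IsLocalization.map (M := T) (T := S) (Localization S) g (fun x hx => hx), ?_⟩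
  exact IsLocalization.map_surjective_of_surjective T (Localization T) (Localization S) hg

end Groth.Agent.EGA4Alg4.Misc13
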