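import Mathlib
import Groth.Prelude.Def_Found
import Groth.Agent.EGA4Alg4.GeomRegDer
import Groth.Agent.EGA4Alg4.Misc1
import Groth.Agent.Cohen12.RegularFS
import Groth.Agent.FBase64.TensorField

/-!
# Geometric regularity and adic formal smoothness over a field

For a Noetherian local algebra over a field, adic formal smoothness, geometric regularity and regularity
after finite base changes of height one agree.
-/

set_option autoImplicit false

universe u

open TensorProduct IsLocalRing Polynomial

namespace Groth.Agent.EGA4Alg4.GeomFS13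

theorem exists_retraction {K K' : Type u} [Field K] [Field K'] (ι : K →+* K') :
    ∃ r : K' →+ K, (∀ x, r (ι x) = x) ∧ ∀ x y, r (ι x * y) = x * r y := by
  letI : Algebra K K' := ι.toAlgebra
  obtain ⟨r, hr⟩ := (Algebra.linearMap K K').exists_leftInverse_of_injective
    (LinearMap.ker_eq_bot.mpr ι.injective)
  refine ⟨r.toAddMonoidHom, LinearMap.congr_fun hr, fun x y => ?_⟩
  change r (ι x * y) = x * r y
  rw [← smul_eq_mul x, ← map_smul]
  rfl

section Prime

variable (p : ℕ) [Fact p.Prime] {k₀ : Type u} [Field k₀]

/-- Regularity after finite extensions with `p`-th powers in the base field. -/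
def HReg (k A : Type u) [Field k] [Algebra k₀ k] [CommRing A] [Algebra k A] : Prop :=
  ∀ (L : Type u) [Field L] [Algebra k L] [Algebra k₀ L] [IsScalarTower k₀ k L], Module.Finite k L →
    (∀ x : L, x ^ p ∈ Set.range (algebraMap k₀ L)) → IsRegularRing (L ⊗[k] A)

omit [Fact p.Prime] in
theorem isRegularLocalRing_self {k A : Type u} [Field k] [Algebra k₀ k] [CommRing A] [IsLocalRing A]
    [Algebra k A] (hk : ∀ x : k, x ^ p ∈ Set.range (algebraMap k₀ k)) (H : HReg p (k₀ := k₀) k A) :
    IsRegularLocalRing A := by
  haveI := H k inferInstance hk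
  haveI : IsRegularRing A := IsRegularRing.of_ringEquiv (R := k ⊗[k] A) (Algebra.TensorProduct.lid k A).toRingEquiv
  exact IsRegularLocalRing.of_isRegularRing_of_isLocalRing _

set_option maxHeartbeats 1000000 in
theorem exists_derivation_fin (n : ℕ) : ∀ {k A : Type u} [Field k] [Algebra k₀ k] [CommRing A]
    [IsLocalRing A] [Algebra k A] [CharP k p] (_ : ∀ x : k, x ^ p ∈ Set.range (algebraMap k₀ k))
    (_ : HReg p (k₀ := k₀) k A) (c : Fin n → k₀) (δ : Derivation ℤ k (ResidueField A)),
    ∃ D : Derivation ℤ A (ResidueField A),
      ∀ i, D (algebraMap k A (algebraMap k₀ k (c i))) = δ (algebraMap k₀ k (c i)) := by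
  classical
  induction n with
  | zero => exact fun _ _ _ _ => ⟨0, fun i => i.elim0⟩
  | succ n ih =>
    intro k A _ _ _ _ _ _ hk H c δ
    haveI := isRegularLocalRing_self p hk H
    haveI : CharP (ResidueField A) p := charP_of_injective_algebraMap (algebraMap k (ResidueField A)).injective p
    set a := algebraMap k₀ k (c 0) with hadef
    by_cases hpow : ∃ y, y ^ p = a
    · obtain ⟨D, hD⟩ := ih hk H (fun i => c i.succ) δ
      obtain ⟨y, hy⟩ := hpow
      refine ⟨D, fun i => Fin.cases ?_ hD i⟩
      change D (algebraMap k A a) = δ a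
      rw [← hy, map_pow, Derivation.leibniz_pow, Derivation.leibniz_pow, ← Nat.cast_smul_eq_nsmul (ResidueField A) p,
        ← Nat.cast_smul_eq_nsmul (ResidueField A) p, CharP.cast_eq_zero, zero_smul, zero_smul]
    push Not at hpow
    haveI : Fact (Irreducible (X ^ p - C a : k[X])) := ⟨X_pow_sub_C_irreducible_of_prime Fact.out hpow⟩
    let L := AdjoinRoot (X ^ p - C a : k[X])
    have hmonic : (X ^ p - C a : k[X]).Monic := monic_X_pow_sub_C a (Fact.out : p.Prime).ne_zero
    haveI : Module.Finite k L := hmonic.finite_adjoinRoot
    haveI : CharP L p := charP_of_injective_algebraMap (algebraMap k L).injective p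
    have hroot : (AdjoinRoot.root (X ^ p - C a : k[X])) ^ p = algebraMap k L a := by
      have := AdjoinRoot.eval₂_root (X ^ p - C a : k[X])
      rwa [eval₂_sub, eval₂_pow, eval₂_X, eval₂_C, sub_eq_zero] at this
    have hkL : ∀ x : L, x ^ p ∈ Set.range (algebraMap k₀ L) := by
      intro x
      let S : Subring L := (algebraMap k₀ L).range.comap (frobenius L p)
      suffices x ∈ S from this
      induction x using AdjoinRoot.induction_on with
      | _ f =>
        induction f using Polynomial.induction_on with
        | C r =>
          obtain ⟨r', hr'⟩ := hk r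
          refine ⟨r', ?_⟩
          rw [IsScalarTower.algebraMap_apply k₀ k L, hr', map_pow]
          rfl
        | add f g hf hg => rw [map_add]; exact add_mem hf hg
        | monomial m r hm =>
          rw [pow_succ, ← mul_assoc, map_mul]
          refine mul_mem hm ⟨c 0, ?_⟩
          rw [IsScalarTower.algebraMap_apply k₀ k L]
          exact hroot.symm
    obtain ⟨D₁, hD₁⟩ := GeomDer13.exists_derivation_eq_one p a hpow (H L inferInstance hkL)
    let δ' : Derivation ℤ k (ResidueField A) := δ - δ a • D₁.compAlgebraMap k
    have hδ'a : δ' a = 0 := by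
      change δ a - δ a • D₁ (algebraMap k A a) = 0
      rw [hD₁, smul_eq_mul, mul_one, sub_self]
    let A' := L ⊗[k] A
    letI : Algebra A A' := Algebra.TensorProduct.rightAlgebra
    let f : A →+* A' := algebraMap A A'
    haveI : Nontrivial A' :=
      (Algebra.TensorProduct.includeRight_injective (A := L) (B := A) (algebraMap k L).injective).nontrivial
    haveI : CharP A' p := charP_of_injective_algebraMap (algebraMap k A').injective p
    have hkf : ∀ x : k, algebraMap k A' x = f (algebraMap k A x) := fun x =>
      (IsScalarTower.algebraMap_apply k A A' x)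
    have hf : ∀ x : A', x ^ p ∈ Set.range f := by
      intro x
      let S : Subring A' := f.range.comap (frobenius A' p)
      suffices x ∈ S from this
      induction x using TensorProduct.induction_on with
      | zero => exact zero_mem _
      | add x y hx hy => exact add_mem hx hy
      | tmul l x =>
        rw [show l ⊗ₜ[k] x = (l ⊗ₜ[k] (1 : A)) * ((1 : L) ⊗ₜ[k] x) by
          rw [Algebra.TensorProduct.tmul_mul_tmul, mul_one, one_mul]]
        refine mul_mem ?_ ⟨x ^ p, map_pow f x p⟩
        obtain ⟨r, hr⟩ := hkL l
        refine ⟨algebraMap k A (algebraMap k₀ k r), ?_⟩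
        change _ = (l ⊗ₜ[k] (1 : A)) ^ p
        rw [← hkf, Algebra.TensorProduct.tmul_pow, one_pow, ← hr, IsScalarTower.algebraMap_apply k₀ k L]
        rfl
    haveI : Algebra.IsIntegral A A' := ⟨fun x => by
      obtain ⟨y, hy⟩ := hf x
      exact IsIntegral.of_pow (Fact.out : p.Prime).pos (hy ▸ isIntegral_algebraMap)⟩
    have hmax : ∀ M N : Ideal A', M.IsMaximal → N.IsMaximal → M ≤ N := by
      intro M N hM hN x hx
      obtain ⟨y, hy⟩ := hf x
      have h1 : y ∈ maximalIdeal A := by
        rw [← IsLocalRing.eq_maximalIdeal (Ideal.IsMaximal.under A M)]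
        exact Ideal.mem_comap.2 (hy ▸ Ideal.pow_mem_of_mem M hx p (Fact.out : p.Prime).pos)
      have h2 : f y ∈ N := by
        rw [← IsLocalRing.eq_maximalIdeal (Ideal.IsMaximal.under A N)] at h1
        exact h1
      exact hN.isPrime.mem_of_pow_mem p (hy ▸ h2)
    haveI : IsLocalRing A' := by
      obtain ⟨M, hM⟩ := Ideal.exists_maximal A'
      exact IsLocalRing.of_unique_max_ideal ⟨M, hM, fun N hN => le_antisymm (hmax N M hN hM) (hmax M N hM hN)⟩
    haveI : IsLocalHom f := by
      refine ⟨fun x hx => ?_⟩
      by_contra hxu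
      obtain ⟨M, hM⟩ := Ideal.exists_maximal A'
      have h1 : x ∈ maximalIdeal A := (mem_maximalIdeal x).2 hxu
      rw [← IsLocalRing.eq_maximalIdeal (Ideal.IsMaximal.under A M)] at h1
      exact hM.ne_top (Ideal.eq_top_of_isUnit_mem _ h1 hx)
    let ι : ResidueField A →+* ResidueField A' := ResidueField.map f
    have hι : ∀ x : k, ι (algebraMap k (ResidueField A) x) = algebraMap k (ResidueField A') x := fun x => by
      change residue A' (f (algebraMap k A x)) = residue A' (algebraMap k A' x)
      rw [hkf]
    let K' := ResidueField A'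
    let i : k →+* TrivSqZeroExt K' K' :=
      { toFun := fun x => TrivSqZeroExt.inl (algebraMap k K' x) + TrivSqZeroExt.inr (ι (δ' x))
        map_one' := by
          rw [map_one, Derivation.map_one_eq_zero, map_zero, TrivSqZeroExt.inr_zero, add_zero, TrivSqZeroExt.inl_one]
        map_zero' := by
          rw [map_zero, map_zero, map_zero, TrivSqZeroExt.inr_zero, TrivSqZeroExt.inl_zero, add_zero]
        map_add' := fun x y => by
          rw [map_add, map_add, map_add, TrivSqZeroExt.inl_add, TrivSqZeroExt.inr_add, add_add_add_comm]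
        map_mul' := fun x y => by
          refine TrivSqZeroExt.ext ?_ ?_
          · change algebraMap k K' (x * y) + 0 = (algebraMap k K' x + 0) * (algebraMap k K' y + 0)
            rw [add_zero, add_zero, add_zero, map_mul]
          · change 0 + ι (δ' (x * y)) = (algebraMap k K' x + 0) • (0 + ι (δ' y)) +
              MulOpposite.op (algebraMap k K' y + 0) • (0 + ι (δ' x))
            rw [op_smul_eq_smul, Derivation.leibniz, Algebra.smul_def, Algebra.smul_def, map_add, map_mul, map_mul,
              hι, hι]
            simp only [add_zero, zero_add, smul_eq_mul]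
            rfl }
    have hi : (X ^ p - C a : k[X]).eval₂ i (TrivSqZeroExt.inl (algebraMap L K' (AdjoinRoot.root _))) = 0 := by
      rw [eval₂_sub, eval₂_pow, eval₂_X, eval₂_C, TrivSqZeroExt.inl_pow, ← map_pow, hroot,
        ← IsScalarTower.algebraMap_apply]
      change TrivSqZeroExt.inl (algebraMap k K' a) -
        (TrivSqZeroExt.inl (algebraMap k K' a) + TrivSqZeroExt.inr (ι (δ' a))) = 0
      rw [hδ'a, map_zero, TrivSqZeroExt.inr_zero, add_zero, sub_self]
    let h := AdjoinRoot.lift i _ hi
    have hfst : ∀ x : L, (h x).fst = algebraMap L K' x := by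
      intro x
      let F := (TrivSqZeroExt.fstHom K' K' K').toRingHom
      suffices F.comp h = algebraMap L K' from RingHom.congr_fun this x
      refine AdjoinRoot.ringHom_ext (RingHom.ext fun y => ?_) ?_
      · change TrivSqZeroExt.fst (h (AdjoinRoot.of _ y)) = algebraMap L K' (algebraMap k L y)
        rw [AdjoinRoot.lift_of, ← IsScalarTower.algebraMap_apply]
        change algebraMap k K' y + 0 = _
        rw [add_zero]
      · change TrivSqZeroExt.fst (h (AdjoinRoot.root _)) = _
        rw [AdjoinRoot.lift_root, TrivSqZeroExt.fst_inl]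
    let δL : Derivation ℤ L K' := Derivation.mk' (AddMonoidHom.toIntLinearMap
      { toFun := fun x => (h x).snd
        map_zero' := by rw [map_zero]; rfl
        map_add' := fun x y => by rw [map_add, TrivSqZeroExt.snd_add] }) (fun x y => by
      change (h (x * y)).snd = x • (h y).snd + y • (h x).snd
      rw [map_mul, TrivSqZeroExt.snd_mul, hfst, hfst, op_smul_eq_smul, algebraMap_smul, algebraMap_smul])
    have H' : HReg p (k₀ := k₀) L A' := by
      intro M _ _ _ _ hMfin hM
      letI : Algebra k M := ((algebraMap L M).comp (algebraMap k L)).toAlgebra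
      haveI : IsScalarTower k L M := IsScalarTower.of_algebraMap_eq fun _ => rfl
      haveI : IsScalarTower k₀ k M := IsScalarTower.of_algebraMap_eq fun x => by
        rw [IsScalarTower.algebraMap_apply k₀ L M, IsScalarTower.algebraMap_apply k₀ k L]
        rfl
      haveI := H M (Module.Finite.trans L M) hM
      exact IsRegularRing.of_ringEquiv (R := M ⊗[k] A)
        (Algebra.TensorProduct.cancelBaseChange k L L M A).symm.toRingEquiv
    obtain ⟨D', hD'⟩ := @ih L A' _ _ _ _ _ _ hkL H' (fun j => c j.succ) δL
    obtain ⟨r, hr', hrι⟩ := exists_retraction ι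
    have hrmul : ∀ (x : A) (y : K'), r (f x • y) = x • r y := fun x y => by
      rw [Algebra.smul_def x (r y)]
      have : (f x • y : K') = ι (residue A x) * y := by
        rw [Algebra.smul_def]
        rfl
      rw [this, hrι]
      rfl
    let D₂ : Derivation ℤ A (ResidueField A) := Derivation.mk' (AddMonoidHom.toIntLinearMap
      { toFun := fun x => r (D' (f x))
        map_zero' := by rw [map_zero, map_zero, map_zero]
        map_add' := fun x y => by rw [map_add, map_add, map_add] }) (fun x y => by
      change r (D' (f (x * y))) = x • r (D' (f y)) + y • r (D' (f x))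
      rw [map_mul, Derivation.leibniz, map_add, hrmul, hrmul])
    refine ⟨δ a • D₁ + D₂, fun j => Fin.cases ?_ (fun j => ?_) j⟩
    · change δ a • D₁ (algebraMap k A a) + r (D' (f (algebraMap k A a))) = δ a
      rw [← hkf, IsScalarTower.algebraMap_apply k L A', ← hroot, map_pow, Derivation.leibniz_pow,
        ← Nat.cast_smul_eq_nsmul A', CharP.cast_eq_zero, zero_smul, map_zero, add_zero, hD₁, smul_eq_mul, mul_one]
    · set b := algebraMap k₀ k (c j.succ)
      change δ a • D₁ (algebraMap k A b) + r (D' (f (algebraMap k A b))) = δ b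
      rw [← hkf, IsScalarTower.algebraMap_apply k L A', show algebraMap k L b = algebraMap k₀ L (c j.succ) from
        (IsScalarTower.algebraMap_apply k₀ k L _).symm, hD']
      change δ a • D₁ (algebraMap k A b) + r (h (algebraMap k₀ L (c j.succ))).snd = δ b
      rw [IsScalarTower.algebraMap_apply k₀ k L]
      change δ a • D₁ (algebraMap k A b) + r (h (AdjoinRoot.of _ b)).snd = δ b
      rw [AdjoinRoot.lift_of]
      change δ a • D₁ (algebraMap k A b) + r (0 + ι (δ b - δ a • D₁ (algebraMap k A b))) = δ b
      rw [zero_add, hr', add_sub_cancel]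

theorem injective_of_height_one {A : Type u} [CommRing A] [IsLocalRing A] [Algebra k₀ A] [CharP k₀ p]
    (H : HReg p (k₀ := k₀) k₀ A) :
    Function.Injective ((KaehlerDifferential.mapBaseChange ℤ k₀ A).lTensor (ResidueField A)) := by
  classical
  let K := ResidueField A
  refine KCrit13.injective_of_forall_derivation fun δ z hz => ?_
  let e : k₀ → K ⊗[A] (A ⊗[k₀] Ω[k₀⁄ℤ]) := fun x => (1 : K) ⊗ₜ[A] ((1 : A) ⊗ₜ KaehlerDifferential.D ℤ k₀ x)
  have hspan : z ∈ Submodule.span K (Set.range e) := by
    clear hz
    induction z using TensorProduct.induction_on with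
    | zero => exact zero_mem _
    | add x y hx hy => exact add_mem hx hy
    | tmul x y =>
      have hx : x ⊗ₜ[A] y = x • ((1 : K) ⊗ₜ[A] y) := by rw [smul_tmul', smul_eq_mul, mul_one]
      rw [hx]
      clear hx
      refine Submodule.smul_mem _ _ ?_
      induction y using TensorProduct.induction_on with
      | zero => rw [tmul_zero]; exact zero_mem _
      | add x y hx hy => rw [tmul_add]; exact add_mem hx hy
      | tmul r w =>
        have hr : (1 : K) ⊗ₜ[A] (r ⊗ₜ[k₀] w) = residue A r • ((1 : K) ⊗ₜ[A] ((1 : A) ⊗ₜ[k₀] w)) := by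
          rw [show r ⊗ₜ[k₀] w = r • ((1 : A) ⊗ₜ[k₀] w) by rw [smul_tmul', smul_eq_mul, mul_one], tmul_smul]
          exact (algebraMap_smul K r _).symm
        rw [hr]
        clear hr
        refine Submodule.smul_mem _ _ ?_
        have hw : w ∈ Submodule.span k₀ (Set.range (KaehlerDifferential.D ℤ k₀)) := by
          rw [KaehlerDifferential.span_range_derivation]; trivial
        induction hw using Submodule.span_induction with
        | mem w hw => obtain ⟨x, rfl⟩ := hw; exact Submodule.subset_span ⟨x, rfl⟩
        | zero => rw [tmul_zero, tmul_zero]; exact zero_mem _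
        | add x y _ _ hx hy => rw [tmul_add, tmul_add]; exact add_mem hx hy
        | smul s y _ hy =>
          rw [tmul_smul, ← algebraMap_smul A s ((1 : A) ⊗ₜ[k₀] y), tmul_smul, ← algebraMap_smul K (algebraMap k₀ A s)]
          exact Submodule.smul_mem _ _ hy
  obtain ⟨l, rfl⟩ := Finsupp.mem_span_range_iff_exists_finsupp.1 hspan
  let c : Fin l.support.card → k₀ := fun i => ((l.support.equivFin.symm i : l.support) : k₀)
  obtain ⟨E, hE⟩ := exists_derivation_fin p l.support.card (k := k₀) (A := A)
    (fun x => ⟨x ^ p, rfl⟩) H c δ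
  have key : ∀ x : k₀, x ∈ l.support → E (algebraMap k₀ A x) = δ x := by
    intro x hx
    have := hE (l.support.equivFin ⟨x, hx⟩)
    simpa [c] using this
  have h1 := congrArg (fun w => E.liftKaehlerDifferential.liftBaseChange K w) hz
  simp only [map_zero] at h1
  rw [Finsupp.sum, map_sum] at h1 ⊢
  rw [map_sum] at h1
  refine Eq.trans (Finset.sum_congr rfl fun x hx => ?_) h1
  rw [show ((KaehlerDifferential.mapBaseChange ℤ k₀ A).lTensor K) (l x • e x) =
      ((KaehlerDifferential.mapBaseChange ℤ k₀ A).baseChange K) (l x • e x) from rfl, map_smul, map_smul, map_smul]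
  congr 1
  simpa [e] using (key x hx).symm

end Prime

variable {k A : Type u} [Field k] [CommRing A] [IsLocalRing A] [Algebra k A]

theorem isAdicFormallySmooth_prime_of_regular [IsRegularLocalRing A] :
    CAlgX.IsAdicFormallySmooth (Sep12.prime k) A (maximalIdeal A) :=
  haveI := FBase64.isGeometricallyReduced_of_perfectField (Sep12.prime k) (ResidueField A)
  Cohen12.isAdicFormallySmooth_of_regular

/-- Regularity and injectivity on differentials give adic formal smoothness. -/
theorem isAdicFormallySmooth_of_regular_of_injective [IsRegularLocalRing A]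
    (h : Function.Injective ((KaehlerDifferential.mapBaseChange ℤ k A).lTensor (ResidueField A))) :
    CAlgX.IsAdicFormallySmooth k A (maximalIdeal A) :=
  KCrit13.isAdicFormallySmooth_of_extDer (P := Sep12.prime k) isAdicFormallySmooth_prime_of_regular
    (KCrit13.extDer_of_injective h)

theorem isAdicFormallySmooth_iff_regular_and_injective [IsNoetherianRing A] :
    CAlgX.IsAdicFormallySmooth k A (maximalIdeal A) ↔
      (IsRegularLocalRing A ∧
        Function.Injective ((KaehlerDifferential.mapBaseChange ℤ k A).lTensor (ResidueField A))) :=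
  ⟨fun h => ⟨(Cohen12.regular_of_formallySmooth_field h).1, KCrit13.injective_of_isAdicFormallySmooth h⟩,
    fun h => haveI := h.1; isAdicFormallySmooth_of_regular_of_injective h.2⟩

theorem isAdicFormallySmooth_of_charZero [CharZero k] [IsRegularLocalRing A] :
    CAlgX.IsAdicFormallySmooth k A (maximalIdeal A) :=
  haveI := FBase64.isGeometricallyReduced_of_perfectField k (ResidueField A)
  Cohen12.isAdicFormallySmooth_of_regular

theorem isAdicFormallySmooth_of_height_one (p : ℕ) [Fact p.Prime] [CharP k p]
    (H : ∀ (k' : Type u) [Field k'] [Algebra k k'], Module.Finite k k' →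
      (∀ x : k', x ^ p ∈ Set.range (algebraMap k k')) → IsRegularRing (k' ⊗[k] A)) :
    CAlgX.IsAdicFormallySmooth k A (maximalIdeal A) := by
  have H' : HReg p (k₀ := k) k A := by
    intro L _ aL aL₀ hT hfin hx
    have haa : aL₀ = aL := Algebra.algebra_ext _ _ fun x =>
      @IsScalarTower.algebraMap_apply k k L _ _ _ (Algebra.id k) aL aL₀ hT x
    subst haa
    exact H L hfin hx
  haveI := isRegularLocalRing_self p (k₀ := k) (fun x => ⟨x ^ p, rfl⟩) H'
  exact isAdicFormallySmooth_of_regular_of_injective (injective_of_height_one p H')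

theorem isAdicFormallySmooth_iff_isGeometricallyRegular [IsNoetherianRing A] :
    CAlgX.IsAdicFormallySmooth k A (maximalIdeal A) ↔ CAlg.IsGeometricallyRegular k A := by
  refine ⟨Cohen12.isGeometricallyRegular_of_formallySmooth, fun H => ?_⟩
  obtain _ | ⟨p, hp, hpk⟩ := CharP.exists' k
  · haveI := H k inferInstance
    haveI : IsRegularRing A := IsRegularRing.of_ringEquiv (R := k ⊗[k] A) (Algebra.TensorProduct.lid k A).toRingEquiv
    haveI := IsRegularLocalRing.of_isRegularRing_of_isLocalRing A
    exact isAdicFormallySmooth_of_charZero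
  · exact isAdicFormallySmooth_of_height_one p fun k' _ _ hfin _ => H k' hfin

omit [IsLocalRing A] in
/-- Geometric regularity passes to localizations. -/
theorem isGeometricallyRegular_localization (S : Submonoid A) (H : CAlg.IsGeometricallyRegular k A) :
    CAlg.IsGeometricallyRegular k (Localization S) := by
  intro k' _ _ hfin
  haveI := H k' hfin
  letI M' : Submonoid (k' ⊗[k] A) := S.map (Algebra.TensorProduct.includeRight (R := k) (A := k'))
  haveI := Misc13.isRegularRing_localization M'
  exact IsRegularRing.of_ringEquiv (R := Localization M')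
    (IsLocalization.tensorProductEquivOfMapIncludeRight k k' S (Localization S) (Localization M')).symm.toRingEquiv

theorem isAdicFormallySmooth_atPrime [IsNoetherianRing A]
    (h : CAlgX.IsAdicFormallySmooth k A (maximalIdeal A)) (p : Ideal A) [p.IsPrime] :
    CAlgX.IsAdicFormallySmooth k (Localization.AtPrime p) (maximalIdeal (Localization.AtPrime p)) :=
  haveI : IsNoetherianRing (Localization.AtPrime p) := IsLocalization.isNoetherianRing p.primeCompl _ inferInstance
  isAdicFormallySmooth_iff_isGeometricallyRegular.2
    (isGeometricallyRegular_localization p.primeCompl (isAdicFormallySmooth_iff_isGeometricallyRegular.1 h))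

theorem isAdicFormallySmooth_iff_expChar [IsNoetherianRing A] (p : ℕ) [ExpChar k p] :
    CAlgX.IsAdicFormallySmooth k A (maximalIdeal A) ↔
      ∀ (k' : Type u) [Field k'] [Algebra k k'], Module.Finite k k' →
        (∀ x : k', x ^ p ∈ (algebraMap k k').range) → IsRegularRing (k' ⊗[k] A) := by
  refine ⟨fun h k' _ _ hfin _ => Cohen12.isGeometricallyRegular_of_formallySmooth h k' hfin, fun H => ?_⟩
  cases ‹ExpChar k p› with
  | zero =>
    haveI := H k inferInstance (fun x => ⟨x ^ 1, rfl⟩)
    haveI : IsRegularRing A := IsRegularRing.of_ringEquiv (R := k ⊗[k] A) (Algebra.TensorProduct.lid k A).toRingEquiv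
    haveI := IsRegularLocalRing.of_isRegularRing_of_isLocalRing A
    exact isAdicFormallySmooth_of_charZero
  | prime hp =>
    haveI := Fact.mk hp
    exact isAdicFormallySmooth_of_height_one p H

end Groth.Agent.EGA4Alg4.GeomFS13
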