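import Mathlib
import Groth.Agent.FlatCrit65.Injective
import Groth.Agent.FlatCrit65.Fibre

/-! Regular sequences and flatness (rows S5773, S5774, S5775, S5777, S5806). -/

set_option autoImplicit false

universe u

open TensorProduct RingTheory.Sequence IsLocalRing
open scoped Pointwise

namespace Groth.Agent.EGA4Alg4.FlatReg13

section Quot

variable {B : Type u} [CommRing B] {M : Type u} [AddCommGroup M] [Module B M]

/-- `(M/S)/I(M/S) ≅ M/(S + IM)`. -/
noncomputable def quotQuotSMul (S : Submodule B M) (I : Ideal B) :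
    ((M ⧸ S) ⧸ (I • ⊤ : Submodule B (M ⧸ S))) ≃ₗ[B] M ⧸ (S ⊔ I • (⊤ : Submodule B M)) :=
  (Submodule.quotEquivOfEq _ ((I • (⊤ : Submodule B M)).map S.mkQ)
      (by rw [Submodule.map_smul'', Submodule.map_top, Submodule.range_mkQ])) ≪≫ₗ
    Submodule.quotientQuotientEquivQuotientSup S (I • ⊤)

theorem smul_top_eq (f : B) : (f • ⊤ : Submodule B M) = Ideal.span {f} • (⊤ : Submodule B M) :=
  (Submodule.ideal_span_singleton_smul f ⊤).symm

/-- Reduction modulo `I` commutes with reduction modulo `f`. -/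
noncomputable def quotSMulTopComm (I : Ideal B) (f : B) :
    QuotSMulTop f (M ⧸ (I • ⊤ : Submodule B M)) ≃ₗ[B]
      QuotSMulTop f M ⧸ (I • ⊤ : Submodule B (QuotSMulTop f M)) :=
  Submodule.quotEquivOfEq _ _ (smul_top_eq f) ≪≫ₗ quotQuotSMul _ _ ≪≫ₗ
    Submodule.quotEquivOfEq _ _ (by rw [smul_top_eq, sup_comm]) ≪≫ₗ (quotQuotSMul _ I).symm

theorem take_zero_smul_top (fs : List B) : (Ideal.ofList (fs.take 0) • ⊤ : Submodule B M) = ⊥ := by
  rw [List.take_zero, Ideal.ofList_nil, Submodule.bot_smul]

end Quot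

section

variable {A B : Type u} [CommRing A] [CommRing B] [Algebra A B]

theorem flat_of_linearEquiv {P Q : Type u} [AddCommGroup P] [Module B P] [Module A P] [IsScalarTower A B P]
    [AddCommGroup Q] [Module B Q] [Module A Q] [IsScalarTower A B Q] (e : P ≃ₗ[B] Q) [Module.Flat A Q] :
    Module.Flat A P :=
  Module.Flat.of_linearEquiv (e.restrictScalars A)

theorem map_maximalIdeal_le_jacobson [IsLocalRing A] [IsLocalRing B] [IsLocalHom (algebraMap A B)] :
    (maximalIdeal A).map (algebraMap A B) ≤ Ideal.jacobson ⊥ := by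
  rw [IsLocalRing.jacobson_eq_maximalIdeal ⊥ bot_ne_top, Ideal.map_le_iff_le_comap]
  intro x hx
  exact fun hu => hx (isUnit_of_map_unit (algebraMap A B) x hu)

variable (M : Type u) [AddCommGroup M] [Module B M] [Module A M] [IsScalarTower A B M]

theorem mem_smul_top_iff (I : Ideal A) (x : M) :
    x ∈ I.map (algebraMap A B) • (⊤ : Submodule B M) ↔ x ∈ I • (⊤ : Submodule A M) :=
  ⟨FlatCrit65.mem_smul_restrictScalars I, FlatCrit65.smul_top_restrictScalars_le I⟩

/-- An element which is regular on the fibre is regular, with flat quotient. -/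
theorem regular_and_flat_of_fibre [IsLocalRing A] [IsLocalRing B] [IsNoetherianRing B]
    [IsLocalHom (algebraMap A B)] [Module.Finite B M] [Module.Flat A M] (f : B)
    (hf : IsSMulRegular (M ⧸ ((maximalIdeal A).map (algebraMap A B) • (⊤ : Submodule B M))) f) :
    IsSMulRegular M f ∧ Module.Flat A (QuotSMulTop f M) := by
  let φ : M →ₗ[A] M := (LinearMap.lsmul B M f).restrictScalars A
  have hinj : Function.Injective (φ.lTensor (A ⧸ maximalIdeal A)) :=
    FlatCrit65.lTensor_quot_injective φ _ fun n hn => by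
      rw [← mem_smul_top_iff (B := B)] at hn ⊢
      rw [← Submodule.Quotient.mk_eq_zero] at hn ⊢
      exact hf.right_eq_zero_of_smul hn
  obtain ⟨h1, h2⟩ := FlatCrit65.injective_and_flat_quotient (S := B) (maximalIdeal A)
    map_maximalIdeal_le_jacobson φ hinj
  refine ⟨h1, ?_⟩
  have hr : LinearMap.range φ = (f • ⊤ : Submodule B M).restrictScalars A := by
    ext x
    simp [φ, Submodule.mem_smul_pointwise_iff_exists]
  haveI : Module.Flat A (M ⧸ (f • ⊤ : Submodule B M).restrictScalars A) :=
    Module.Flat.of_linearEquiv (Submodule.quotEquivOfEq _ _ hr).symm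
  exact Module.Flat.of_linearEquiv
    ((Submodule.Quotient.restrictScalarsEquiv A (f • ⊤ : Submodule B M)).restrictScalars A).symm

end

theorem regular_and_flat {A B : Type u} [CommRing A] [CommRing B] [Algebra A B] [IsLocalRing A] [IsLocalRing B]
    [IsNoetherianRing B] [IsLocalHom (algebraMap A B)] (fs : List B) :
    ∀ (M : Type u) [AddCommGroup M] [Module B M] [Module A M] [IsScalarTower A B M] [Module.Finite B M]
      [Module.Flat A M],
      IsWeaklyRegular (M ⧸ ((maximalIdeal A).map (algebraMap A B) • (⊤ : Submodule B M))) fs →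
      IsWeaklyRegular M fs ∧
        ∀ i ≤ fs.length, Module.Flat A (M ⧸ (Ideal.ofList (fs.take i) • (⊤ : Submodule B M))) := by
  induction fs with
  | nil =>
    intro M _ _ _ _ _ _ _
    refine ⟨IsWeaklyRegular.nil B M, fun i _ => ?_⟩
    exact flat_of_linearEquiv (Submodule.quotEquivOfEqBot _ (by
      rw [List.take_nil, Ideal.ofList_nil, Submodule.bot_smul]))
  | cons f fs ih =>
    intro M _ _ _ _ _ _ h
    obtain ⟨hf, hfs⟩ := (isWeaklyRegular_cons_iff _ f fs).1 h
    obtain ⟨h1, h2⟩ := regular_and_flat_of_fibre M f hf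
    obtain ⟨h3, h4⟩ := ih (QuotSMulTop f M) (((quotSMulTopComm _ f).isWeaklyRegular_congr fs).1 hfs)
    refine ⟨h3.cons h1, fun i hi => ?_⟩
    cases i with
    | zero => exact flat_of_linearEquiv (Submodule.quotEquivOfEqBot _ (take_zero_smul_top _))
    | succ i =>
      haveI := h4 i (by simpa using hi)
      rw [List.take_succ_cons]
      exact flat_of_linearEquiv (Submodule.quotOfListConsSMulTopEquivQuotSMulTopInner M f (fs.take i))

section

variable {A B : Type u} [CommRing A] [CommRing B] [Algebra A B] (M : Type u) [AddCommGroup M] [Module B M]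
  [Module A M] [IsScalarTower A B M]

theorem flat_of_flat_quotSMulTop [IsLocalRing B] [IsNoetherianRing A] [IsNoetherianRing B] [Module.Finite B M]
    (f : B) (hf : f ∈ maximalIdeal B) (hreg : IsSMulRegular M f) [Module.Flat A (QuotSMulTop f M)] :
    Module.Flat A M := by
  rw [Module.Flat.iff_lTensor_injective']
  intro I
  haveI : Module.Finite B (M ⊗[A] I) := FlatCrit65.finite_tensor B (M := M) (R := A) I
  haveI : IsNoetherian B (M ⊗[A] I) := isNoetherian_of_isNoetherianRing_of_finite B _
  let φ : M ⊗[A] I →ₗ[B] M ⊗[A] A := AlgebraTensorModule.lTensor B M I.subtype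
  have hφ : ∀ x, φ x = I.subtype.lTensor M x := fun _ => rfl
  rw [injective_iff_map_eq_zero]
  intro x hx
  suffices hK : LinearMap.ker φ = ⊥ by
    have : x ∈ LinearMap.ker φ := hx
    rw [hK] at this
    exact this
  refine Submodule.eq_bot_of_le_smul_of_le_jacobson_bot (Ideal.span {f}) _ (IsNoetherian.noetherian _) ?_
    ((Ideal.span_singleton_le_iff_mem _).2 (by rwa [IsLocalRing.jacobson_eq_maximalIdeal ⊥ bot_ne_top]))
  intro x hx
  let mul : M →ₗ[A] M := (LinearMap.lsmul B M f).restrictScalars A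
  let g : M →ₗ[A] QuotSMulTop f M := (f • ⊤ : Submodule B M).mkQ.restrictScalars A
  have hex : Function.Exact mul g := fun m => by
    change Submodule.Quotient.mk m = 0 ↔ _
    rw [Submodule.Quotient.mk_eq_zero, Submodule.mem_smul_pointwise_iff_exists]
    simp [mul]
  have hgx : g.rTensor I x = 0 := by
    apply Module.Flat.lTensor_preserves_injective_linearMap (M := QuotSMulTop f M) I.subtype Subtype.val_injective
    rw [← LinearMap.comp_apply, LinearMap.lTensor_comp_rTensor, ← LinearMap.rTensor_comp_lTensor,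
      LinearMap.comp_apply, ← hφ, LinearMap.mem_ker.1 hx, map_zero, map_zero]
  have hgs : Function.Surjective g := fun q => by
    obtain ⟨m, rfl⟩ := Submodule.Quotient.mk_surjective _ q
    exact ⟨m, rfl⟩
  have hex' : Function.Exact (mul.rTensor I) (g.rTensor I) := rTensor_exact (f := mul) (g := g) I hex hgs
  obtain ⟨y, rfl⟩ : ∃ y, mul.rTensor I y = x := (hex' x).1 hgx
  have hmul : ∀ y : M ⊗[A] I, mul.rTensor I y = f • y := by
    intro y
    clear hx
    induction y with
    | zero => simp
    | tmul m a => simp [mul, smul_tmul']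
    | add a b ha hb => rw [map_add, ha, hb, smul_add]
  rw [hmul] at hx ⊢
  refine Submodule.smul_mem_smul (Ideal.mem_span_singleton_self f) ?_
  rw [LinearMap.mem_ker, map_smul] at hx
  have h0 := congrArg (AlgebraTensorModule.rid A B M) hx
  rw [map_smul, map_zero] at h0
  rw [LinearMap.mem_ker]
  apply (AlgebraTensorModule.rid A B M).injective
  rw [map_zero]
  exact hreg.right_eq_zero_of_smul h0

end

theorem flat_take {A B : Type u} [CommRing A] [CommRing B] [Algebra A B] [IsLocalRing B] [IsNoetherianRing A]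
    [IsNoetherianRing B] (fs : List B) :
    ∀ (M : Type u) [AddCommGroup M] [Module B M] [Module A M] [IsScalarTower A B M] [Module.Finite B M],
      (∀ f ∈ fs, f ∈ maximalIdeal B) → IsWeaklyRegular M fs →
      Module.Flat A (M ⧸ (Ideal.ofList fs • (⊤ : Submodule B M))) →
      ∀ i ≤ fs.length, Module.Flat A (M ⧸ (Ideal.ofList (fs.take i) • (⊤ : Submodule B M))) := by
  induction fs with
  | nil =>
    intro M _ _ _ _ _ _ _ h i _
    rw [List.take_nil]
    exact h
  | cons f fs ih =>
    intro M _ _ _ _ _ hm hreg hflat i hi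
    obtain ⟨h1, h2⟩ := (isWeaklyRegular_cons_iff _ f fs).1 hreg
    have hm' : ∀ g ∈ fs, g ∈ maximalIdeal B := fun g hg => hm g (List.mem_cons_of_mem _ hg)
    have hflat' : Module.Flat A (QuotSMulTop f M ⧸ (Ideal.ofList fs • ⊤ : Submodule B (QuotSMulTop f M))) :=
      flat_of_linearEquiv (Submodule.quotOfListConsSMulTopEquivQuotSMulTopInner M f fs).symm
    cases i with
    | zero =>
      haveI := ih (QuotSMulTop f M) hm' h2 hflat' 0 (Nat.zero_le _)
      haveI : Module.Flat A (QuotSMulTop f M) :=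
        flat_of_linearEquiv (Submodule.quotEquivOfEqBot
          (Ideal.ofList (fs.take 0) • ⊤ : Submodule B (QuotSMulTop f M)) (take_zero_smul_top _)).symm
      haveI : Module.Flat A M := flat_of_flat_quotSMulTop M f (hm f List.mem_cons_self) h1
      exact flat_of_linearEquiv (Submodule.quotEquivOfEqBot _ (take_zero_smul_top _))
    | succ i =>
      haveI := ih (QuotSMulTop f M) hm' h2 hflat' i (by simpa using hi)
      rw [List.take_succ_cons]
      exact flat_of_linearEquiv (Submodule.quotOfListConsSMulTopEquivQuotSMulTopInner M f (fs.take i))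

section

variable {A B : Type u} [CommRing A] [CommRing B] [Algebra A B]

theorem eq_ofList_smul [IsLocalRing A] [IsLocalRing B] [IsNoetherianRing B] [IsLocalHom (algebraMap A B)]
    (M : Type u) [AddCommGroup M] [Module B M] [Module A M] [IsScalarTower A B M] [Module.Finite B M]
    [Module.Flat A M] (R : Submodule B M) (hR : Module.Flat A (M ⧸ R)) (fs : List B)
    (h1 : Ideal.ofList fs • (⊤ : Submodule B M) ≤ R)
    (h2 : IsWeaklyRegular (M ⧸ ((maximalIdeal A).map (algebraMap A B) • (⊤ : Submodule B M))) fs)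
    (h3 : Ideal.ofList fs • (⊤ : Submodule B
        (M ⧸ ((maximalIdeal A).map (algebraMap A B) • (⊤ : Submodule B M)))) =
      R.map ((maximalIdeal A).map (algebraMap A B) • (⊤ : Submodule B M)).mkQ) :
    IsWeaklyRegular M fs ∧ R = Ideal.ofList fs • (⊤ : Submodule B M) := by
  obtain ⟨hreg, hflat⟩ := regular_and_flat fs M h2
  refine ⟨hreg, ?_⟩
  set m := (maximalIdeal A).map (algebraMap A B) with hm
  set P : Submodule B M := Ideal.ofList fs • ⊤ with hP
  haveI : Module.Flat A (M ⧸ P) := by
    have := hflat fs.length le_rfl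
    rwa [List.take_length] at this
  have hsub : R ≤ P ⊔ m • ⊤ := by
    intro x hx
    have : Submodule.Quotient.mk x ∈ R.map (m • (⊤ : Submodule B M)).mkQ := ⟨x, hx, rfl⟩
    rw [← h3, ← Submodule.range_mkQ (m • (⊤ : Submodule B M)), ← Submodule.map_top, ← Submodule.map_smul''] at this
    have h5 : x ∈ Submodule.comap (m • (⊤ : Submodule B M)).mkQ (P.map (m • (⊤ : Submodule B M)).mkQ) := this
    rw [Submodule.comap_map_eq, Submodule.ker_mkQ] at h5
    exact h5
  let Q : Submodule B (M ⧸ P) := R.map P.mkQ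
  haveI : Module.Flat A ((M ⧸ P) ⧸ Q) :=
    flat_of_linearEquiv (Submodule.quotientQuotientEquivQuotient P R h1)
  have hQ : Q ≤ m • ⊤ := by
    refine (Submodule.map_mono hsub).trans ?_
    rw [Submodule.map_sup, show P.map P.mkQ = ⊥ from Submodule.mkQ_map_self P, bot_sup_eq, Submodule.map_smul'']
    exact Submodule.smul_mono le_rfl le_top
  have hinj : Function.Injective ((Q.subtype.restrictScalars A).lTensor (A ⧸ maximalIdeal A)) :=
    LinearMap.lTensor_injective_of_exact_of_flat (Q.mkQ.restrictScalars A) (Submodule.mkQ_surjective Q)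
      (Q.subtype.restrictScalars A) Subtype.val_injective (fun y => by
        change Submodule.Quotient.mk y = 0 ↔ _
        rw [Submodule.Quotient.mk_eq_zero]
        exact ⟨fun hy => ⟨⟨y, hy⟩, rfl⟩, fun ⟨z, hz⟩ => hz ▸ z.2⟩) _
  have hQ0 : Q = ⊥ := by
    refine Submodule.eq_bot_of_le_smul_of_le_jacobson_bot m Q (IsNoetherian.noetherian _) (fun y hy => ?_)
      map_maximalIdeal_le_jacobson
    have h0 : (1 : A ⧸ maximalIdeal A) ⊗ₜ[A] (⟨y, hy⟩ : Q) = 0 := hinj (by
      rw [LinearMap.lTensor_tmul, map_zero, FlatCrit65.one_tmul_eq_zero_iff, ← mem_smul_top_iff (B := B)]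
      exact hQ hy)
    rw [FlatCrit65.one_tmul_eq_zero_iff, ← mem_smul_top_iff (B := B)] at h0
    have h4 := Submodule.mem_map_of_mem (f := Q.subtype) h0
    rwa [Submodule.map_smul'', Submodule.map_top, Submodule.range_subtype] at h4
  refine le_antisymm (fun x hx => ?_) h1
  have : P.mkQ x ∈ Q := ⟨x, hx, rfl⟩
  rw [hQ0] at this
  exact (Submodule.Quotient.mk_eq_zero P).1 this

theorem lTensor_smul_injective (M : Type u) [AddCommGroup M] [Module B M] [Module A M] [IsScalarTower A B M]
    (fs : List B) (hreg : IsWeaklyRegular M fs)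
    (hflat : ∀ i : ℕ, i ≤ fs.length → Module.Flat A (M ⧸ (Ideal.ofList (fs.take i) • (⊤ : Submodule B M))))
    (A' : Type u) [CommRing A'] [Algebra A A'] (i : Fin fs.length) :
    Function.Injective (LinearMap.lTensor A'
        (((LinearMap.lsmul B (M ⧸ (Ideal.ofList (fs.take i) • (⊤ : Submodule B M)))) (fs.get i)).restrictScalars A)) ∧
      Module.Flat A' (A' ⊗[A] (M ⧸ (Ideal.ofList (fs.take i) • (⊤ : Submodule B M)))) := by
  haveI := hflat i i.2.le
  refine ⟨?_, inferInstance⟩
  set f := fs.get i with hf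
  haveI : Module.Flat A (M ⧸ (Ideal.ofList (fs.take (i + 1)) • (⊤ : Submodule B M))) := hflat _ i.2
  haveI : Module.Flat A (QuotSMulTop f (M ⧸ (Ideal.ofList (fs.take i) • (⊤ : Submodule B M)))) :=
    flat_of_linearEquiv (Q := M ⧸ (Ideal.ofList (fs.take (i + 1)) • (⊤ : Submodule B M)))
      (Submodule.quotEquivOfEq _ _ (smul_top_eq f) ≪≫ₗ quotQuotSMul _ _ ≪≫ₗ
        Submodule.quotEquivOfEq _ _ (by
          rw [← Submodule.sup_smul, ← Ideal.ofList_singleton, ← Ideal.ofList_append, hf, List.get_eq_getElem,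
            List.take_concat_get' fs i i.2]))
  let Qi := M ⧸ (Ideal.ofList (fs.take i) • (⊤ : Submodule B M))
  let g : Qi →ₗ[A] QuotSMulTop f Qi := (f • ⊤ : Submodule B Qi).mkQ.restrictScalars A
  let mul : Qi →ₗ[A] Qi := (LinearMap.lsmul B Qi f).restrictScalars A
  have hgs : Function.Surjective g := fun q => by
    obtain ⟨m, rfl⟩ := Submodule.Quotient.mk_surjective _ q
    exact ⟨m, rfl⟩
  have hinj : Function.Injective mul := fun x y hxy => (isWeaklyRegular_iff_Fin _ _).1 hreg i hxy
  have hex : Function.Exact mul g := fun y => by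
    change Submodule.Quotient.mk y = 0 ↔ _
    rw [Submodule.Quotient.mk_eq_zero, Submodule.mem_smul_pointwise_iff_exists]
    simp [mul, Qi]
  exact LinearMap.lTensor_injective_of_exact_of_flat g hgs mul hinj hex A'

end

section Criterion

variable {A : Type u} [CommRing A] {M : Type u} [AddCommGroup M] [Module A M]

/-- For an `M`-weakly regular sequence generating `J`, the map `M ⊗ J → M` is injective. -/
theorem lTensor_ofList_injective (fs : List A) (h : IsWeaklyRegular M fs) :
    Function.Injective ((Ideal.ofList fs).subtype.lTensor M) := by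
  induction fs using List.reverseRecOn with
  | nil =>
    have h0 : ∀ x : M ⊗[A] ↥(Ideal.ofList ([] : List A)), x = 0 := by
     intro x
     induction x with
     | zero => rfl
     | tmul m a =>
       have ha : a = 0 := Subtype.ext (Ideal.mem_bot.1 (Ideal.ofList_nil (R := A) ▸ a.2))
       rw [ha, tmul_zero]
     | add a b ha hb => rw [ha, hb, add_zero]
    exact fun a b _ => (h0 a).trans (h0 b).symm
  | append_singleton fs f ih =>
    obtain ⟨hfs, hf⟩ := (isWeaklyRegular_append_iff M fs [f]).1 h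
    rw [isWeaklyRegular_singleton_iff] at hf
    set J := Ideal.ofList fs with hJdef
    set J' := Ideal.ofList (fs ++ [f]) with hJ'def
    have hJ' : J' = J ⊔ Ideal.span {f} := by rw [hJ'def, Ideal.ofList_append, Ideal.ofList_singleton]
    have hle : J ≤ J' := hJ' ▸ le_sup_left
    let ι : J →ₗ[A] J' := Submodule.inclusion hle
    let f' : J' := ⟨f, hJ' ▸ Submodule.mem_sup_right (Ideal.mem_span_singleton_self f)⟩
    let μ : M ⊗[A] J' →ₗ[A] M := (TensorProduct.rid A M).toLinearMap ∘ₗ J'.subtype.lTensor M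
    let μ0 : M ⊗[A] J →ₗ[A] M := (TensorProduct.rid A M).toLinearMap ∘ₗ J.subtype.lTensor M
    have hμι : ∀ z, μ (ι.lTensor M z) = μ0 z := fun z => by
      change TensorProduct.rid A M (J'.subtype.lTensor M (ι.lTensor M z)) = _
      rw [← LinearMap.lTensor_comp_apply, show J'.subtype ∘ₗ ι = J.subtype from rfl]
      rfl
    have hdec : ∀ x : M ⊗[A] J', ∃ (z : M ⊗[A] J) (m : M), x = ι.lTensor M z + m ⊗ₜ f' := by
      intro x
      induction x with
      | zero => exact ⟨0, 0, by simp⟩
      | tmul m a =>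
        obtain ⟨b, hb, c, hc, hbc⟩ := Submodule.mem_sup.1 (hJ' ▸ a.2 : (a : A) ∈ J ⊔ Ideal.span {f})
        obtain ⟨d, rfl⟩ := Ideal.mem_span_singleton'.1 hc
        refine ⟨m ⊗ₜ ⟨b, hb⟩, d • m, ?_⟩
        rw [LinearMap.lTensor_tmul, smul_tmul, ← tmul_add]
        congr 1
        exact Subtype.ext hbc.symm
      | add x y hx hy =>
        obtain ⟨z, m, rfl⟩ := hx
        obtain ⟨z', m', rfl⟩ := hy
        exact ⟨z + z', m + m', by rw [map_add, add_tmul]; abel⟩
    have hsmul : ∀ m ∈ J • (⊤ : Submodule A M), ∃ z, ι.lTensor M z = m ⊗ₜ f' := by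
      intro m hm
      refine Submodule.smul_induction_on hm (fun c hc w _ => ⟨(f • w) ⊗ₜ ⟨c, hc⟩, ?_⟩)
        (fun a b ⟨za, ha⟩ ⟨zb, hb⟩ => ⟨za + zb, by rw [map_add, ha, hb, add_tmul]⟩)
      rw [LinearMap.lTensor_tmul, smul_tmul, smul_tmul]
      congr 1
      exact Subtype.ext (mul_comm f c)
    have hμ0 : ∀ z, μ0 z ∈ J • (⊤ : Submodule A M) := by
      intro z
      induction z with
      | zero => simp
      | tmul m a => simpa [μ0] using Submodule.smul_mem_smul a.2 (Submodule.mem_top : m ∈ ⊤)
      | add a b ha hb => rw [map_add]; exact add_mem ha hb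
    rw [injective_iff_map_eq_zero]
    intro x hx
    have hx' : μ x = 0 := by simp [μ, hx]
    obtain ⟨z, m, rfl⟩ := hdec x
    rw [map_add, hμι, show μ (m ⊗ₜ f') = f • m by simp [μ, f']] at hx'
    have hm : m ∈ J • (⊤ : Submodule A M) := by
      refine (Submodule.Quotient.mk_eq_zero _).1 (hf.right_eq_zero_of_smul ?_)
      rw [← Submodule.Quotient.mk_smul, Submodule.Quotient.mk_eq_zero, eq_neg_of_add_eq_zero_right hx']
      exact neg_mem (hμ0 z)
    obtain ⟨z', hz'⟩ := hsmul m hm
    rw [← hz', ← map_add]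
    have h0 : μ0 (z + z') = 0 := by
      rw [map_add, ← hμι z', hz', show μ (m ⊗ₜ f') = f • m by simp [μ, f'], hx']
    have : z + z' = 0 := ih hfs (by
      rw [map_zero]
      exact (TensorProduct.rid A M).map_eq_zero_iff.1 h0)
    rw [this, map_zero]

/-- `(A/J) ⊗ M ≅ M/JM` over `A/J`. -/
noncomputable def quotTensorEquiv (J : Ideal A) :
    (A ⧸ J) ⊗[A] M ≃ₗ[A ⧸ J] M ⧸ (J • ⊤ : Submodule A M) :=
  LinearEquiv.extendScalarsOfSurjective Ideal.Quotient.mk_surjective
    (TensorProduct.quotTensorEquivQuotSMul M J)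

theorem flat_iff {B : Type u} [CommRing B] [IsLocalRing A] [IsLocalRing B] [IsNoetherianRing A] [IsNoetherianRing B]
    [Algebra A B] [IsLocalHom (algebraMap A B)] [Module B M] [IsScalarTower A B M] [Module.Finite B M]
    (fs : List A) (hfs : ∀ f ∈ fs, f ∈ maximalIdeal A) (hA : IsWeaklyRegular A fs) :
    Module.Flat A M ↔
      Module.Flat (A ⧸ Ideal.ofList fs) (M ⧸ (Ideal.ofList fs • (⊤ : Submodule A M))) ∧
        IsWeaklyRegular M fs := by
  constructor
  · intro hM
    exact ⟨Module.Flat.of_linearEquiv (quotTensorEquiv (Ideal.ofList fs)).symm,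
      ((TensorProduct.rid A M).isWeaklyRegular_congr fs).1 hA.isWeaklyRegular_lTensor⟩
  · rintro ⟨h1, h2⟩
    have hne : Ideal.ofList fs ≠ ⊤ := fun htop => (maximalIdeal.isMaximal A).ne_top
      (top_le_iff.1 (htop ▸ Ideal.span_le.2 fun f hf => hfs f hf))
    exact FlatCrit65.flat_of_lexQuot_of_isLocalRing (S := B) (I := Ideal.ofList fs) hne
      (FlatCrit65.torTriv_of_injective (lTensor_ofList_injective fs h2)
        (Module.Flat.of_linearEquiv (quotTensorEquiv (Ideal.ofList fs)))).lexQuot

end Criterion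

end Groth.Agent.EGA4Alg4.FlatReg13
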