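import Mathlib

/-! Weakly regular sequences: extensions and powers. -/

set_option autoImplicit false
universe u v

open scoped Pointwise
open RingTheory.Sequence Function

namespace Groth.Agent.EGA4Alg4

variable {A : Type u} [CommRing A]

theorem isWeaklyRegular_of_exact (rs : List A) :
    ∀ {M' M M'' : Type v} [AddCommGroup M'] [AddCommGroup M] [AddCommGroup M'']
      [Module A M'] [Module A M] [Module A M''] (f : M' →ₗ[A] M) (g : M →ₗ[A] M''),
      Injective f → Exact f g → Surjective g → IsWeaklyRegular M' rs → IsWeaklyRegular M'' rs →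
      IsWeaklyRegular M rs := by
  induction rs with
  | nil => intros; exact IsWeaklyRegular.nil A _
  | cons r rs ih =>
    intro M' M M'' _ _ _ _ _ _ f g hf hfg hg h' h''
    rw [isWeaklyRegular_cons_iff] at h' h'' ⊢
    refine ⟨isSMulRegular_of_range_eq_ker hf hfg.linearMap_ker_eq.symm h'.1 h''.1, ?_⟩
    refine ih (QuotSMulTop.map r f) (QuotSMulTop.map r g) ?_ (QuotSMulTop.map_exact r hfg hg)
      (QuotSMulTop.map_surjective r hg) h'.2 h''.2
    rw [injective_iff_map_eq_zero]
    intro x hx
    induction x using Submodule.Quotient.induction_on with | _ x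
    rw [QuotSMulTop.map_apply_mk, Submodule.Quotient.mk_eq_zero,
      Submodule.mem_smul_pointwise_iff_exists] at hx
    obtain ⟨y, -, hy⟩ := hx
    have : g y = 0 := h''.1 (by
      change r • g y = r • (0 : M'')
      rw [← map_smul, hy, hfg.apply_apply_eq_zero, smul_zero])
    obtain ⟨x', rfl⟩ := (hfg y).mp this
    rw [← map_smul] at hy
    rw [Submodule.Quotient.mk_eq_zero, ← hf hy]
    exact Submodule.smul_mem_pointwise_smul _ _ _ trivial

variable {M : Type v} [AddCommGroup M] [Module A M]

theorem isWeaklyRegular_quotSMulTop_pow {f : A} (hf : IsSMulRegular M f) (rs : List A)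
    (h : IsWeaklyRegular (QuotSMulTop f M) rs) (v : ℕ) :
    IsWeaklyRegular (QuotSMulTop (f ^ (v + 1)) M) rs := by
  induction v with
  | zero =>
    rw [Nat.zero_add, pow_one]; exact h
  | succ v ih =>
    let α : QuotSMulTop (f ^ (v + 1)) M →ₗ[A] QuotSMulTop (f ^ (v + 1 + 1)) M :=
      Submodule.mapQ _ _ (LinearMap.lsmul A M f) (by
        intro x hx
        obtain ⟨y, -, rfl⟩ := (Submodule.mem_smul_pointwise_iff_exists _ _ _).mp hx
        exact (Submodule.mem_smul_pointwise_iff_exists _ _ _).mpr
          ⟨y, trivial, by rw [LinearMap.lsmul_apply, ← mul_smul, ← pow_succ']⟩)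
    let β : QuotSMulTop (f ^ (v + 1 + 1)) M →ₗ[A] QuotSMulTop f M :=
      Submodule.mapQ _ _ LinearMap.id (by
        intro x hx
        obtain ⟨y, -, rfl⟩ := (Submodule.mem_smul_pointwise_iff_exists _ _ _).mp hx
        exact (Submodule.mem_smul_pointwise_iff_exists _ _ _).mpr
          ⟨f ^ (v + 1) • y, trivial, by simp [pow_succ', mul_smul]⟩)
    refine isWeaklyRegular_of_exact rs α β ?_ ?_ ?_ ih h
    · rw [injective_iff_map_eq_zero]
      intro x hx
      induction x using Submodule.Quotient.induction_on with | _ x
      simp only [α, Submodule.mapQ_apply, LinearMap.lsmul_apply, Submodule.Quotient.mk_eq_zero,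
        Submodule.mem_smul_pointwise_iff_exists] at hx
      obtain ⟨y, -, hy⟩ := hx
      rw [pow_succ', mul_smul] at hy
      rw [Submodule.Quotient.mk_eq_zero, ← hf hy]
      exact Submodule.smul_mem_pointwise_smul _ _ _ trivial
    · intro x
      induction x using Submodule.Quotient.induction_on with | _ x
      simp only [β, Submodule.mapQ_apply, LinearMap.id_apply, Submodule.Quotient.mk_eq_zero]
      constructor
      · intro hx
        obtain ⟨y, -, rfl⟩ := (Submodule.mem_smul_pointwise_iff_exists _ _ _).mp hx
        exact ⟨Submodule.Quotient.mk y, rfl⟩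
      · rintro ⟨y, hy⟩
        induction y using Submodule.Quotient.induction_on with | _ y
        simp only [α, Submodule.mapQ_apply, LinearMap.lsmul_apply, Submodule.Quotient.eq,
          Submodule.mem_smul_pointwise_iff_exists] at hy
        obtain ⟨z, -, hz⟩ := hy
        refine (Submodule.mem_smul_pointwise_iff_exists _ _ _).mpr ⟨y - f ^ (v + 1) • z, trivial, ?_⟩
        rw [smul_sub, ← mul_smul, ← pow_succ', hz]
        abel
    · intro x
      induction x using Submodule.Quotient.induction_on with | _ x
      exact ⟨Submodule.Quotient.mk x, rfl⟩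

theorem isWeaklyRegular_pow (fs : List A) :
    ∀ {M : Type v} [AddCommGroup M] [Module A M] (v : List ℕ), v.length = fs.length →
      (∀ n ∈ v, 1 ≤ n) → IsWeaklyRegular M fs → IsWeaklyRegular M (List.zipWith (· ^ ·) fs v) := by
  induction fs with
  | nil => intros; simp
  | cons f fs ih =>
    intro M _ _ v hlen hv h
    match v, hlen with
    | k :: v, hlen =>
      rw [isWeaklyRegular_cons_iff] at h
      rw [List.zipWith_cons_cons, isWeaklyRegular_cons_iff]
      have hk := hv k (List.mem_cons_self ..)
      replace hv : ∀ n ∈ v, 1 ≤ n := fun n hn => hv n (List.mem_cons_of_mem _ hn)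
      refine ⟨h.1.pow k, ?_⟩
      obtain ⟨k, rfl⟩ := Nat.exists_eq_succ_of_ne_zero (by omega : k ≠ 0)
      exact isWeaklyRegular_quotSMulTop_pow h.1 _ (ih v (by simpa using hlen) hv h.2) k

end Groth.Agent.EGA4Alg4
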