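import Mathlib

/-! Rows S4585, S4592, S4593, S4607: images of spectra. -/

set_option autoImplicit false
set_option linter.style.haveILetI false

universe u

open CategoryTheory CategoryTheory.Limits AlgebraicGeometry TensorProduct

namespace Groth.Agent.EGA4Alg4.Range13

theorem range_tensorProduct {A A' A'' : Type u} [CommRing A] [CommRing A'] [CommRing A'']
    [Algebra A A'] [Algebra A A''] :
    Set.range (PrimeSpectrum.comap (algebraMap A (A' ⊗[A] A''))) =
      Set.range (PrimeSpectrum.comap (algebraMap A A')) ∩ Set.range (PrimeSpectrum.comap (algebraMap A A'')) := by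
  ext p
  simp only [Set.mem_inter_iff, ← PrimeSpectrum.nontrivial_iff_mem_rangeComap]
  let k := p.asIdeal.ResidueField
  let e : (k ⊗[A] A') ⊗[k] (k ⊗[A] A'') ≃ₗ[A] k ⊗[A] (A' ⊗[A] A'') :=
    ((AlgebraTensorModule.cancelBaseChange A k k (k ⊗[A] A') A'').restrictScalars A) ≪≫ₗ
      TensorProduct.assoc A k A' A''
  constructor
  · intro h
    have h' : Nontrivial ((k ⊗[A] A') ⊗[k] (k ⊗[A] A'')) := e.toEquiv.nontrivial
    constructor
    · by_contra hc
      rw [not_nontrivial_iff_subsingleton] at hc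
      exact not_subsingleton ((k ⊗[A] A') ⊗[k] (k ⊗[A] A'')) inferInstance
    · by_contra hc
      rw [not_nontrivial_iff_subsingleton] at hc
      exact not_subsingleton ((k ⊗[A] A') ⊗[k] (k ⊗[A] A'')) inferInstance
  · rintro ⟨h1, h2⟩
    have : Nontrivial ((k ⊗[A] A') ⊗[k] (k ⊗[A] A'')) :=
      Algebra.TensorProduct.nontrivial_of_algebraMap_injective_of_flat_left (R := k) (A := k ⊗[A] A') (B := k ⊗[A] A'')
        (algebraMap k (k ⊗[A] A'')).injective
    exact e.symm.toEquiv.nontrivial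

theorem subsingleton_iff {I : Type u} [SmallCategory I] [IsFiltered I]
    (D : I ⥤ CommRingCat.{u}) (c : Cocone D) (hc : IsColimit c) :
    Subsingleton c.pt ↔ ∃ i : I, Subsingleton (D.obj i) := by
  constructor
  · intro h
    obtain ⟨i⟩ : Nonempty I := IsFiltered.nonempty
    obtain ⟨j, φ, hφ⟩ := (IsColimit.eq_iff' hc (1 : D.obj i) (0 : D.obj i)).1 (@Subsingleton.elim c.pt h _ _)
    rw [map_one, map_zero] at hφ
    exact ⟨j, subsingleton_of_zero_eq_one hφ.symm⟩
  · rintro ⟨i, h⟩
    have e : (c.ι.app i).hom (0 : D.obj i) = (c.ι.app i).hom (1 : D.obj i) :=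
      congrArg _ (@Subsingleton.elim (D.obj i) h _ _)
    rw [map_zero, map_one] at e
    exact subsingleton_of_zero_eq_one (M₀ := c.pt) e

theorem range_spec_colimit {I : Type u} [SmallCategory I] [IsFiltered I]
    (B : CommRingCat.{u}) (D : I ⥤ CommRingCat.{u}) (s : (Functor.const I).obj B ⟶ D) (c : Cocone D)
    (hc : IsColimit c) (i₀ : I) :
    Set.range (Spec.map (s.app i₀ ≫ c.ι.app i₀)).base = ⋂ i : I, Set.range (Spec.map (s.app i)).base := by
  let φ : ∀ i, B →+* D.obj i := fun i => (s.app i).hom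
  let g : ∀ i, D.obj i →+* c.pt := fun i => (c.ι.app i).hom
  have hnat : ∀ {i j : I} (t : i ⟶ j) (x : B), D.map t (φ i x) = φ j x := fun {i j} t x => by
    have := congrArg (fun f => f.hom x) (s.naturality t)
    exact this.symm
  have hg : ∀ {i j : I} (t : i ⟶ j) (y : D.obj i), g j (D.map t y) = g i y := fun {i j} t y =>
    ConcreteCategory.congr_hom (c.w t) y
  let f : B →+* c.pt := (g i₀).comp (φ i₀)
  have hf : ∀ i x, g i (φ i x) = f x := fun i x => by
    change _ = g i₀ (φ i₀ x)
    rw [← hg (IsFiltered.leftToMax i i₀), hnat, ← hg (IsFiltered.rightToMax i i₀) (φ i₀ x), hnat]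
  ext p
  let q : PrimeSpectrum B := p
  change q ∈ Set.range (PrimeSpectrum.comap f) ↔ p ∈ _
  rw [Set.mem_iInter]
  have hmem : ∀ i, p ∈ Set.range (Spec.map (s.app i)).base ↔ q ∈ Set.range (PrimeSpectrum.comap (φ i)) :=
    fun i => Iff.rfl
  simp only [hmem, PrimeSpectrum.mem_range_comap_iff]
  constructor
  · intro h i
    refine le_antisymm (fun x hx => ?_) Ideal.le_comap_map
    rw [← h, Ideal.mem_comap, ← hf i x]
    have h2 := Ideal.mem_map_of_mem (g i) (Ideal.mem_comap.1 hx)
    rw [Ideal.map_map] at h2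
    have h3 : (g i).comp (φ i) = f := RingHom.ext (hf i)
    rwa [h3] at h2
  · intro h
    refine le_antisymm (fun x hx => ?_) Ideal.le_comap_map
    have key : ∀ a ∈ q.asIdeal.map f, ∃ i, ∃ b ∈ q.asIdeal.map (φ i), g i b = a := by
      intro a ha
      refine Submodule.span_induction ?_ ?_ ?_ ?_ (show a ∈ Submodule.span c.pt (f '' q.asIdeal) from ha)
      · rintro _ ⟨y, hy, rfl⟩
        exact ⟨i₀, φ i₀ y, Ideal.mem_map_of_mem _ hy, rfl⟩
      · exact ⟨i₀, 0, zero_mem _, map_zero _⟩
      · rintro _ _ _ _ ⟨i, b, hb, rfl⟩ ⟨j, b', hb', rfl⟩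
        refine ⟨IsFiltered.max i j, D.map (IsFiltered.leftToMax i j) b + D.map (IsFiltered.rightToMax i j) b',
          add_mem ?_ ?_, by rw [map_add, hg, hg]⟩
        · have := Ideal.mem_map_of_mem (D.map (IsFiltered.leftToMax i j)).hom hb
          rw [Ideal.map_map] at this
          rwa [show (D.map (IsFiltered.leftToMax i j)).hom.comp (φ i) = φ _ from RingHom.ext (hnat _)] at this
        · have := Ideal.mem_map_of_mem (D.map (IsFiltered.rightToMax i j)).hom hb'
          rw [Ideal.map_map] at this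
          rwa [show (D.map (IsFiltered.rightToMax i j)).hom.comp (φ j) = φ _ from RingHom.ext (hnat _)] at this
      · rintro r _ _ ⟨i, b, hb, rfl⟩
        obtain ⟨j, r', hr⟩ := Concrete.isColimit_exists_rep D hc r
        refine ⟨IsFiltered.max i j, D.map (IsFiltered.rightToMax i j) r' * D.map (IsFiltered.leftToMax i j) b,
          Ideal.mul_mem_left _ _ ?_, ?_⟩
        · have := Ideal.mem_map_of_mem (D.map (IsFiltered.leftToMax i j)).hom hb
          rw [Ideal.map_map] at this
          rwa [show (D.map (IsFiltered.leftToMax i j)).hom.comp (φ i) = φ _ from RingHom.ext (hnat _)] at this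
        · rw [map_mul, hg, hg, smul_eq_mul]
          exact congrArg (· * g i b) hr
    obtain ⟨i, b, hb, hbx⟩ := key _ (Ideal.mem_comap.1 hx)
    obtain ⟨j, t, ht⟩ := (IsColimit.eq_iff' hc b (φ i x)).1 (hbx.trans (hf i x).symm)
    rw [← h j, Ideal.mem_comap, ← hnat t x, ← ht]
    have := Ideal.mem_map_of_mem (D.map t).hom hb
    rw [Ideal.map_map] at this
    rwa [show (D.map t).hom.comp (φ i) = φ j from RingHom.ext (hnat t)] at this

theorem exists_integral_multiple_residueField {A : Type u} [CommRing A] (P : Ideal A) [P.IsPrime]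
    {L : Type u} [CommRing L] [Algebra A L] [Algebra P.ResidueField L] [IsScalarTower A P.ResidueField L]
    [Module.Finite P.ResidueField L] (x : L) : ∃ m : A, m ∉ P ∧ IsIntegral A (m • x) := by
  letI : Algebra (A ⧸ P) L := ((algebraMap P.ResidueField L).comp (algebraMap (A ⧸ P) P.ResidueField)).toAlgebra
  haveI : IsScalarTower (A ⧸ P) P.ResidueField L := IsScalarTower.of_algebraMap_eq fun _ => rfl
  haveI : IsScalarTower A (A ⧸ P) L := IsScalarTower.of_algebraMap_eq fun a => by
    change algebraMap A L a = algebraMap P.ResidueField L (algebraMap (A ⧸ P) P.ResidueField (algebraMap A (A ⧸ P) a))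
    rw [← IsScalarTower.algebraMap_apply A (A ⧸ P) P.ResidueField, ← IsScalarTower.algebraMap_apply A P.ResidueField L]
  obtain ⟨m, hm⟩ := IsIntegral.exists_multiple_integral_of_isLocalization
    (M := nonZeroDivisors (A ⧸ P)) (R := A ⧸ P) (Rₘ := P.ResidueField) x (IsIntegral.of_finite P.ResidueField x)
  obtain ⟨a, ha⟩ := Ideal.Quotient.mk_surjective (m : A ⧸ P)
  refine ⟨a, fun haP => ?_, ?_⟩
  · have : (m : A ⧸ P) = 0 := by rw [← ha, Ideal.Quotient.eq_zero_iff_mem]; exact haP
    exact nonZeroDivisors.coe_ne_zero m this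
  · rw [Submonoid.smul_def] at hm
    have h2 : IsIntegral A ((m : A ⧸ P) • x) := isIntegral_trans (R := A) (A := A ⧸ P) _ hm
    rw [← ha, ← Ideal.Quotient.algebraMap_eq, algebraMap_smul] at h2
    exact h2

theorem exists_basicOpen_subset_range {A B : Type u} [CommRing A] [CommRing B] [Algebra A B]
    [Algebra.FiniteType A B] (P : Ideal A) [P.IsPrime] (hmin : ∀ q : Ideal A, q.IsPrime → P ≤ q)
    (Q : Ideal B) [Q.IsPrime] (hQ : Q.comap (algebraMap A B) = P) :
    ∃ s : A, s ∉ P ∧ ∀ q : Ideal A, q.IsPrime → s ∉ q →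
      ∃ Q' : Ideal B, Q'.IsPrime ∧ Q'.comap (algebraMap A B) = q := by
  let K := P.ResidueField
  let T := K ⊗[A] B
  have : Nontrivial T :=
    (PrimeSpectrum.nontrivial_iff_mem_rangeComap (S := B) ⟨P, inferInstance⟩).2
      ⟨⟨Q, inferInstance⟩, PrimeSpectrum.ext hQ⟩
  obtain ⟨M, hM⟩ := Ideal.exists_maximal T
  let L := T ⧸ M
  letI : Field L := Ideal.Quotient.field M
  have : Module.Finite K L := finite_of_finite_type_of_isJacobsonRing K L
  let φ : B →ₐ[A] L := ((Ideal.Quotient.mkₐ K M).restrictScalars A).comp Algebra.TensorProduct.includeRight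
  have hint : ∀ x : L, ∃ m : A, m ∉ P ∧ IsIntegral A (m • x) :=
    fun x => exists_integral_multiple_residueField P x
  obtain ⟨S, hS⟩ := Algebra.FiniteType.out (R := A) (A := B)
  choose m hm hmint using fun b : B => hint (φ b)
  classical
  let s : A := ∏ b ∈ S, m b
  have hs : s ∉ P := fun h => by
    obtain ⟨b, -, hb⟩ := (Ideal.IsPrime.prod_mem_iff).1 h
    exact hm b hb
  refine ⟨s, hs, fun q hq hsq => ?_⟩
  have hsL : IsUnit (algebraMap A L s) := by
    rw [IsScalarTower.algebraMap_apply A K L]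
    refine IsUnit.map _ (isUnit_iff_ne_zero.2 ?_)
    rw [Ne, Ideal.algebraMap_residueField_eq_zero]
    exact hs
  let R := Localization.Away s
  let ψ : R →ₐ[A] L := IsLocalization.Away.liftAlgHom s (f := Algebra.ofId A L) hsL
  letI : Algebra R L := ψ.toRingHom.toAlgebra
  haveI : IsScalarTower A R L := IsScalarTower.of_algebraMap_eq fun a => (ψ.commutes a).symm
  let C : Subalgebra R L := integralClosure R L
  have hφC : ∀ b : B, φ b ∈ C := by
    intro b
    have hb : b ∈ Algebra.adjoin A (S : Set B) := by rw [hS]; trivial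
    have hle : Algebra.adjoin A (S : Set B) ≤ (C.restrictScalars A).comap φ := by
      rw [Algebra.adjoin_le_iff]
      intro b hb
      change IsIntegral R (φ b)
      have h1 : IsIntegral R (m b • φ b) := (hmint b).tower_top
      have hu : IsUnit (algebraMap A R (m b)) :=
        isUnit_of_dvd_unit (map_dvd _ (Finset.dvd_prod_of_mem _ hb))
          (IsLocalization.Away.algebraMap_isUnit s)
      have : φ b = (↑hu.unit⁻¹ : R) • (m b • φ b) := by
        rw [← algebraMap_smul R (m b) (φ b), smul_smul, IsUnit.val_inv_mul, one_smul]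
      rw [this]
      exact h1.smul _
    exact hle hb
  let φ' : B →+* C := φ.toRingHom.codRestrict C.toSubring hφC
  have hdisj : Disjoint (Submonoid.powers s : Set A) q := by
    rw [Set.disjoint_left]
    rintro _ ⟨n, rfl⟩ hn
    exact hsq (hq.mem_of_pow_mem n hn)
  have hq' : (q.map (algebraMap A R)).IsPrime :=
    IsLocalization.isPrime_of_isPrime_disjoint (Submonoid.powers s) R q hq hdisj
  have hqq : (q.map (algebraMap A R)).comap (algebraMap A R) = q :=
    IsLocalization.under_map_of_isPrime_disjoint (Submonoid.powers s) R hq hdisj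
  have hker : (⊥ : Ideal C).comap (algebraMap R C) ≤ q.map (algebraMap A R) := by
    intro r hr
    rw [Ideal.mem_comap, Ideal.mem_bot] at hr
    have hr0 : ψ r = 0 := congrArg Subtype.val hr
    obtain ⟨a, n, rfl⟩ := IsLocalization.exists_mk'_eq (Submonoid.powers s) r
    have h1 : algebraMap A L a = 0 := by
      rw [← ψ.commutes, ← IsLocalization.mk'_spec R a n, map_mul, hr0, zero_mul]
    rw [IsScalarTower.algebraMap_apply A K L, map_eq_zero_iff _ (algebraMap K L).injective,
      Ideal.algebraMap_residueField_eq_zero] at h1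
    exact (IsLocalization.mk'_mem_iff).2 (Ideal.mem_map_of_mem _ (hmin q hq h1))
  obtain ⟨QC, -, hQC, hQCq⟩ := Ideal.exists_ideal_over_prime_of_isIntegral (q.map (algebraMap A R))
    (⊥ : Ideal C) hker
  refine ⟨QC.comap φ', inferInstance, ?_⟩
  rw [Ideal.comap_comap, show φ'.comp (algebraMap A B) = (algebraMap R C).comp (algebraMap A R) from ?_,
    ← Ideal.comap_comap, hQCq, hqq]
  exact RingHom.ext fun a => Subtype.ext ((φ.commutes a).trans (ψ.commutes a).symm)

theorem genericPoint_mem_interior {X Y : Scheme.{u}} (f : X ⟶ Y)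
    [LocallyOfFiniteType f] [IrreducibleSpace Y] (h : genericPoint Y ∈ Set.range f.base) :
    genericPoint Y ∈ interior (Set.range f.base) := by
  obtain ⟨x, hx⟩ := h
  set η := genericPoint Y with hη
  obtain ⟨_, ⟨U, hU, rfl⟩, hηU, -⟩ :=
    Y.isBasis_affineOpens.exists_subset_of_mem_open (Set.mem_univ η) isOpen_univ
  obtain ⟨_, ⟨V, hV, rfl⟩, hxV, hVU⟩ :=
    X.isBasis_affineOpens.exists_subset_of_mem_open (show x ∈ f ⁻¹ᵁ U by change f.base x ∈ U; rw [hx]; exact hηU)
      (f ⁻¹ᵁ U).isOpen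
  replace hU : IsAffineOpen U := hU
  replace hV : IsAffineOpen V := hV
  let φ := f.appLE U V hVU
  algebraize [φ.hom]
  haveI : Algebra.FiniteType Γ(Y, U) Γ(X, V) := f.finiteType_appLE hU hV hVU
  have hcomp : ∀ y : Spec Γ(X, V), hU.fromSpec (Spec.map φ y) = f (hV.fromSpec y) := fun y => by
    rw [← Scheme.Hom.comp_apply, ← Scheme.Hom.comp_apply, hU.SpecMap_appLE_fromSpec f hV hVU]
  let P : Spec Γ(Y, U) := hU.primeIdealOf ⟨η, hηU⟩
  let Q : Spec Γ(X, V) := hV.primeIdealOf ⟨x, hxV⟩
  have hP : hU.fromSpec P = η := hU.fromSpec_primeIdealOf _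
  have hQ : Spec.map φ Q = P := hU.fromSpec.isOpenEmbedding.injective (by
    rw [hcomp, hP]
    change f (hV.fromSpec (hV.primeIdealOf ⟨x, hxV⟩)) = η
    rw [hV.fromSpec_primeIdealOf]; exact hx)
  have hPprime : P.asIdeal.IsPrime := P.2
  have hQprime : Q.asIdeal.IsPrime := Q.2
  have hmin : ∀ q : Ideal Γ(Y, U), q.IsPrime → P.asIdeal ≤ q := fun q hq => by
    have h1 : η ⤳ hU.fromSpec (⟨q, hq⟩ : PrimeSpectrum Γ(Y, U)) := genericPoint_specializes _
    rw [← hP] at h1
    exact (PrimeSpectrum.le_iff_specializes P (⟨q, hq⟩ : PrimeSpectrum Γ(Y, U))).2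
      (hU.fromSpec.isOpenEmbedding.isInducing.specializes_iff.1 h1)
  obtain ⟨s, hs, hrange⟩ := exists_basicOpen_subset_range (B := Γ(X, V)) P.asIdeal hmin Q.asIdeal
    (congrArg PrimeSpectrum.asIdeal hQ)
  rw [mem_interior]
  refine ⟨hU.fromSpec '' (PrimeSpectrum.basicOpen s : Set (PrimeSpectrum Γ(Y, U))), ?_,
    hU.fromSpec.isOpenEmbedding.isOpenMap _ (PrimeSpectrum.basicOpen s).isOpen, ⟨P, hs, hP⟩⟩
  rintro _ ⟨q, hq, rfl⟩
  obtain ⟨Q', hQ', hQ'q⟩ := hrange q.asIdeal q.2 hq
  refine ⟨hV.fromSpec (⟨Q', hQ'⟩ : PrimeSpectrum Γ(X, V)), ?_⟩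
  refine (hcomp (⟨Q', hQ'⟩ : PrimeSpectrum Γ(X, V))).symm.trans ?_
  exact congrArg (fun z => hU.fromSpec z) (PrimeSpectrum.ext hQ'q)

end Groth.Agent.EGA4Alg4.Range13
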