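import Mathlib

/-! Dimension theory of finite modules over semi-local Noetherian rings. -/

set_option autoImplicit false
set_option linter.unusedSectionVars false
universe u

open scoped Pointwise
open Module

namespace Groth.Agent.EGA4Alg4.Semilocal

variable {A : Type u} [CommRing A]

theorem mem_jacobson_annihilator {M : Type u} [AddCommGroup M] [Module A M] {x : A}
    (hx : x ∈ Ring.jacobson A) : x ∈ (Module.annihilator A M).jacobson :=
  (Module.annihilator A M).ringJacobson_le_jacobson hx

theorem length_le_dim_quotient {M : Type u} [AddCommGroup M] [Module A M]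
    (l : LTSeries (support A M)) {p : Ideal A} (h : p ≤ l.head.1.asIdeal) :
    (l.length : WithBot ℕ∞) ≤ ringKrullDim (A ⧸ p) := by
  rw [ringKrullDim_quotient]
  let l' : LTSeries (PrimeSpectrum.zeroLocus (p : Set A)) :=
    ⟨l.length, fun i => ⟨(l i).1, h.trans (LTSeries.monotone l (Fin.zero_le i))⟩, l.step⟩
  exact le_iSup (fun s : LTSeries (PrimeSpectrum.zeroLocus (p : Set A)) => (s.length : WithBot ℕ∞)) l'

variable [IsNoetherianRing A] [Finite (MaximalSpectrum A)]

omit [IsNoetherianRing A] in
theorem exists_maximal_le {p : Ideal A} [p.IsPrime] (h : Ring.jacobson A ≤ p) :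
    p.IsMaximal := by
  classical
  have : Fintype (MaximalSpectrum A) := Fintype.ofFinite _
  have hle : (Finset.univ : Finset (MaximalSpectrum A)).inf (·.asIdeal) ≤ p := by
    refine le_trans ?_ h
    rw [Ring.jacobson_eq_sInf_isMaximal]
    exact le_sInf fun I hI => Finset.inf_le (f := fun m : MaximalSpectrum A => m.asIdeal) (b := ⟨I, hI⟩) (Finset.mem_univ _)
  obtain ⟨m, -, hm⟩ := (Ideal.IsPrime.inf_le' ‹p.IsPrime›).mp hle
  rw [← m.isMaximal.eq_of_le (Ideal.IsPrime.ne_top ‹_›) hm]
  exact m.isMaximal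

theorem exists_bound : ∃ n : ℕ, ringKrullDim A ≤ n := by
  classical
  have : Fintype (MaximalSpectrum A) := Fintype.ofFinite _
  refine ⟨(Finset.univ : Finset (MaximalSpectrum A)).sup fun m => m.asIdeal.height.toNat, ?_⟩
  rw [ringKrullDim_le_iff_isMaximal_height_le]
  intro m hm
  have hne := Ideal.height_ne_top hm.ne_top
  rw [← ENat.natCast_toNat hne]
  exact_mod_cast Finset.le_sup (f := fun m : MaximalSpectrum A => m.asIdeal.height.toNat)
    (b := ⟨m, hm⟩) (Finset.mem_univ _)

variable {M : Type u} [AddCommGroup M] [Module A M] [Module.Finite A M]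

theorem exists_supportDim_eq [Nontrivial M] : ∃ n : ℕ, supportDim A M = n := by
  obtain ⟨b, hb⟩ := exists_bound (A := A)
  obtain ⟨d, hd⟩ := WithBot.ne_bot_iff_exists.mp (supportDim_ne_bot_of_nontrivial A M)
  have := (supportDim_le_ringKrullDim A M).trans hb
  rw [← hd] at this ⊢
  obtain ⟨n, rfl⟩ := ENat.ne_top_iff_exists.mp
    (ne_top_of_le_ne_top (ENat.natCast_ne_top b) (WithBot.coe_le_coe.mp this))
  exact ⟨n, rfl⟩

theorem exists_dim_quotient_eq [Nontrivial M] :
    ∃ p : PrimeSpectrum A, p ∈ support A M ∧ ringKrullDim (A ⧸ p.asIdeal) = supportDim A M := by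
  obtain ⟨n, hn⟩ := exists_supportDim_eq (A := A) (M := M)
  obtain ⟨l, hl⟩ := Order.le_krullDim_iff.mp (le_of_eq (show (n : WithBot ℕ∞) = supportDim A M from hn.symm))
  refine ⟨l.head.1, l.head.2, le_antisymm ?_ ?_⟩
  · rw [ringKrullDim_quotient, supportDim]
    exact Order.krullDim_le_of_strictMono (fun q => ⟨q.1, mem_support_mono q.2 l.head.2⟩) (fun _ _ h => h)
  · rw [hn, ← hl]
    exact length_le_dim_quotient l le_rfl

omit [IsNoetherianRing A] [Finite (MaximalSpectrum A)] [Module.Finite A M] in
theorem dim_quotient_le {p : PrimeSpectrum A} (hp : p ∈ support A M) :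
    ringKrullDim (A ⧸ p.asIdeal) ≤ supportDim A M := by
  rw [ringKrullDim_quotient, supportDim]
  exact Order.krullDim_le_of_strictMono (fun q => ⟨q.1, mem_support_mono q.2 hp⟩) (fun _ _ h => h)

theorem supportDim_quotSMulTop_add_one_eq_iff {x : A} (hx : x ∈ Ring.jacobson A) :
    supportDim A (QuotSMulTop x M) + 1 = supportDim A M ↔
      ∀ p : PrimeSpectrum A, p ∈ support A M →
        ringKrullDim (A ⧸ p.asIdeal) = supportDim A M → x ∉ p.asIdeal := by
  rcases subsingleton_or_nontrivial M with hM | hM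
  · refine iff_of_true ?_ fun p hp => absurd hp (by simp [Module.support_eq_empty])
    simp [supportDim_eq_bot_of_subsingleton]
  have : Nontrivial (QuotSMulTop x M) := Submodule.Quotient.nontrivial_iff.mpr
    (Submodule.top_ne_pointwise_smul_of_mem_jacobson_annihilator (mem_jacobson_annihilator hx)).symm
  obtain ⟨d, hd⟩ := exists_supportDim_eq (A := A) (M := M)
  obtain ⟨e, he⟩ := exists_supportDim_eq (A := A) (M := QuotSMulTop x M)
  have h1 := supportDim_le_supportDim_quotSMulTop_succ_of_mem_jacobson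
    (mem_jacobson_annihilator (M := M) hx)
  rw [hd, he] at h1
  have k1 : d ≤ e + 1 := by exact_mod_cast h1
  constructor
  · intro h p hp hpd hxp
    have hpQ : p ∈ support A (QuotSMulTop x M) := by
      rw [support_quotSMulTop]
      exact ⟨hp, Set.singleton_subset_iff.mpr hxp⟩
    have h2 := dim_quotient_le hpQ
    rw [hd, he] at h
    rw [hpd, hd, he] at h2
    have k2 : e + 1 = d := by exact_mod_cast h
    have k3 : d ≤ e := by exact_mod_cast h2
    omega
  · intro h
    obtain ⟨p, hp, hpe⟩ := exists_dim_quotient_eq (A := A) (M := QuotSMulTop x M)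
    rw [support_quotSMulTop] at hp
    have h2 := dim_quotient_le hp.1
    rw [hpe, he, hd] at h2
    have k2 : e ≤ d := by exact_mod_cast h2
    have k3 : e ≠ d := fun hc => h p hp.1 (by rw [hpe, he, hd, hc]) (Set.singleton_subset_iff.mp hp.2)
    rw [hd, he]
    exact_mod_cast (by omega : e + 1 = d)

theorem mem_minimalPrimes_of_dim_quotient_eq [Nontrivial M] {p : Ideal A} (hp : p.IsPrime)
    (hps : (⟨p, hp⟩ : PrimeSpectrum A) ∈ support A M) (hpd : ringKrullDim (A ⧸ p) = supportDim A M) :
    p ∈ (Module.annihilator A M).minimalPrimes := by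
  obtain ⟨n, hn⟩ := exists_supportDim_eq (A := A) (M := M)
  refine ⟨⟨hp, mem_support_iff_of_finite.mp hps⟩, fun q hq hle => ?_⟩
  by_contra hc
  obtain ⟨a, hap, haq⟩ := Set.not_subset.mp hc
  have := hq.1
  have : Nontrivial (A ⧸ p) := Ideal.Quotient.nontrivial_iff.mpr hp.ne_top
  have h1 := ringKrullDim_succ_le_of_surjective (Ideal.Quotient.factor hle)
    (Ideal.Quotient.factor_surjective hle) (r := Ideal.Quotient.mk q a)
    (mem_nonZeroDivisors_of_ne_zero fun h0 => haq (Ideal.Quotient.eq_zero_iff_mem.mp h0))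
    (by rw [Ideal.Quotient.factor_mk]; exact Ideal.Quotient.eq_zero_iff_mem.mpr hap)
  have h2 := dim_quotient_le (M := M) (p := ⟨q, hq.1⟩) (mem_support_iff_of_finite.mpr hq.2)
  rw [hpd, hn] at h1
  rw [hn] at h2
  exact absurd (h1.trans h2) (by norm_cast; omega)

theorem exists_mem_jacobson_drop [Nontrivial M] {n : ℕ} (hn : supportDim A M = (n + 1 : ℕ)) :
    ∃ y ∈ Ring.jacobson A, supportDim A (QuotSMulTop y M) + 1 = supportDim A M := by
  classical
  let T := {p : Ideal A | ∃ hp : p.IsPrime, (⟨p, hp⟩ : PrimeSpectrum A) ∈ support A M ∧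
    ringKrullDim (A ⧸ p) = supportDim A M}
  have hT : T ⊆ (Module.annihilator A M).minimalPrimes := fun p ⟨hp, hps, hpd⟩ =>
    mem_minimalPrimes_of_dim_quotient_eq hp hps hpd
  have hfin : T.Finite := (Ideal.finite_minimalPrimes_of_isNoetherianRing A _).subset hT
  obtain ⟨y, hy, hy'⟩ : ∃ y ∈ Ring.jacobson A, ∀ p ∈ T, y ∉ p := by
    by_contra! hc
    obtain ⟨q, hq, hle⟩ := (Ideal.subset_union_prime_finite hfin (f := id) ⊤ ⊤ fun p hp _ _ => hp.1).mp
      (fun y hy => by simpa using hc y hy)
    obtain ⟨hqp, -, hqd⟩ := hq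
    have hle : Ring.jacobson A ≤ q := hle
    have := exists_maximal_le hle
    rw [hn, ringKrullDim_eq_zero_of_isField
      ((Ideal.Quotient.maximal_ideal_iff_isField_quotient q).mp this)] at hqd
    exact absurd hqd (by exact_mod_cast (Nat.succ_ne_zero n).symm)
  exact ⟨y, hy, (supportDim_quotSMulTop_add_one_eq_iff hy).mpr fun p hp hpd hyp =>
    hy' p.asIdeal ⟨p.2, hp, hpd⟩ hyp⟩

theorem supportDim_cons (x : A) (xs : List A) :
    supportDim A (M ⧸ (Ideal.ofList (x :: xs) • (⊤ : Submodule A M))) =
      supportDim A (QuotSMulTop x M ⧸ (Ideal.ofList xs • (⊤ : Submodule A (QuotSMulTop x M)))) :=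
  supportDim_eq_of_equiv (Submodule.quotOfListConsSMulTopEquivQuotSMulTopInner M x xs)

omit [Finite (MaximalSpectrum A)] in
theorem supportDim_le_quotient_add_length : ∀ {xs : List A} {M : Type u} [AddCommGroup M] [Module A M]
    [Module.Finite A M], (∀ x ∈ xs, x ∈ Ring.jacobson A) →
    supportDim A M ≤ supportDim A (M ⧸ (Ideal.ofList xs • (⊤ : Submodule A M))) + xs.length := by
  intro xs
  induction xs with
  | nil =>
    intro M _ _ _ _
    rw [Ideal.ofList_nil, Submodule.bot_smul, List.length_nil, Nat.cast_zero, add_zero,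
      supportDim_eq_of_equiv (Submodule.quotEquivOfEqBot (⊥ : Submodule A M) rfl)]
  | cons x xs ih =>
    intro M _ _ _ h
    rw [supportDim_eq_of_equiv (Submodule.quotOfListConsSMulTopEquivQuotSMulTopInner M x xs),
      List.length_cons, Nat.cast_add, Nat.cast_one, ← add_assoc]
    exact (supportDim_le_supportDim_quotSMulTop_succ_of_mem_jacobson
      (mem_jacobson_annihilator (h x List.mem_cons_self))).trans
      (add_le_add (ih fun y hy => h y (List.mem_cons_of_mem _ hy)) le_rfl)

omit [Finite (MaximalSpectrum A)] in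
theorem isFiniteLength_of_supportDim_nonpos (h : supportDim A M ≤ 0) : IsFiniteLength A M := by
  rw [supportDim_eq_ringKrullDim_quotient_annihilator] at h
  have : Ring.KrullDimLE 0 (A ⧸ Module.annihilator A M) := Ring.krullDimLE_iff.mpr (by exact_mod_cast h)
  have : IsArtinianRing (A ⧸ Module.annihilator A M) := isArtinianRing_iff_krullDimLE_zero.mpr inferInstance
  let : Module (A ⧸ Module.annihilator A M) M :=
    (Module.isTorsionBySet_annihilator A M).module
  have : IsScalarTower A (A ⧸ Module.annihilator A M) M :=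
    (Module.isTorsionBySet_annihilator A M).isScalarTower
  have : Module.Finite (A ⧸ Module.annihilator A M) M := Module.Finite.of_restrictScalars_finite A _ M
  have : IsArtinian A M := isArtinian_of_surjective_algebraMap
    (R := A ⧸ Module.annihilator A M) Ideal.Quotient.mk_surjective
  exact isFiniteLength_iff_isNoetherian_isArtinian.mpr ⟨inferInstance, this⟩

omit [Finite (MaximalSpectrum A)] in
theorem supportDim_nonpos_of_isFiniteLength (h : IsFiniteLength A M) : supportDim A M ≤ 0 := by
  obtain ⟨-, hart⟩ := isFiniteLength_iff_isNoetherian_isArtinian.mp h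
  rw [supportDim]
  apply Order.krullDim_nonpos_iff_forall_isMin.mpr
  intro p q hqp
  have hann : ∀ r : support A M, Module.annihilator A M ≤ r.1.asIdeal := fun r =>
    mem_support_iff_of_finite.mp r.2
  have : IsArtinianRing (A ⧸ Module.annihilator A M) := by
    obtain ⟨s, hs⟩ := Module.Finite.fg_top (R := A) (M := M)
    let φ : A →ₗ[A] (s → M) := LinearMap.pi fun m => LinearMap.toSpanSingleton A M m.1
    have hker : LinearMap.ker φ = Module.annihilator A M := by
      ext a
      rw [← Submodule.annihilator_top, ← hs, Submodule.mem_annihilator_span]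
      simp [φ, funext_iff]
    have : IsArtinian A (A ⧸ Module.annihilator A M) := by
      rw [← hker]
      exact isArtinian_of_linearEquiv φ.quotKerEquivRange.symm
    exact isArtinian_of_tower A inferInstance
  have hmax : (Ideal.map (Ideal.Quotient.mk (Module.annihilator A M)) q.1.asIdeal).IsMaximal := by
    have := Ideal.isPrime_map_quotientMk_of_isPrime (hann q)
    exact IsArtinianRing.isMaximal_of_isPrime _
  have : q.1.asIdeal.IsMaximal := by
    have h2 := Ideal.comap_isMaximal_of_surjective (Ideal.Quotient.mk (Module.annihilator A M))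
      Ideal.Quotient.mk_surjective (K := Ideal.map (Ideal.Quotient.mk _) q.1.asIdeal)
    rwa [Ideal.comap_map_of_surjective _ Ideal.Quotient.mk_surjective, ← RingHom.ker_eq_comap_bot,
      Ideal.mk_ker, sup_eq_left.mpr (hann q)] at h2
  exact le_of_eq (Subtype.ext (PrimeSpectrum.ext (this.eq_of_le p.1.2.ne_top hqp).symm))

theorem exists_parameters (e : ℕ) : ∀ {M : Type u} [AddCommGroup M] [Module A M] [Module.Finite A M]
    [Nontrivial M], supportDim A M = e →
    ∃ ys : List A, ys.length = e ∧ (∀ y ∈ ys, y ∈ Ring.jacobson A) ∧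
      IsFiniteLength A (M ⧸ (Ideal.ofList ys • (⊤ : Submodule A M))) := by
  induction e with
  | zero =>
    intro M _ _ _ _ h
    refine ⟨[], rfl, by simp, isFiniteLength_of_supportDim_nonpos ?_⟩
    rw [supportDim_eq_of_equiv (Submodule.quotEquivOfEqBot
      (Ideal.ofList ([] : List A) • (⊤ : Submodule A M)) (by simp)), h, Nat.cast_zero]
  | succ n ih =>
    intro M _ _ _ _ h
    obtain ⟨y, hy, hdrop⟩ := exists_mem_jacobson_drop (M := M) h
    have : Nontrivial (QuotSMulTop y M) := Submodule.Quotient.nontrivial_iff.mpr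
      (Submodule.top_ne_pointwise_smul_of_mem_jacobson_annihilator (mem_jacobson_annihilator hy)).symm
    obtain ⟨k, hk⟩ := exists_supportDim_eq (A := A) (M := QuotSMulTop y M)
    rw [hk, h] at hdrop
    have : k + 1 = n + 1 := by exact_mod_cast hdrop
    obtain ⟨ys, h1, h2, h3⟩ := ih (M := QuotSMulTop y M) (by rw [hk, show k = n by omega])
    exact ⟨y :: ys, by simp [h1], List.forall_mem_cons.mpr ⟨hy, h2⟩,
      (Submodule.quotOfListConsSMulTopEquivQuotSMulTopInner M y ys).symm.isFiniteLength h3⟩

theorem ofList_le_jacobson_annihilator {xs : List A} (h : ∀ x ∈ xs, x ∈ Ring.jacobson A) :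
    Ideal.ofList xs ≤ (Module.annihilator A M).jacobson :=
  Ideal.span_le.mpr fun x hx => mem_jacobson_annihilator (h x hx)

theorem supportDim_quotient_add_length_eq_iff [Nontrivial M] {xs : List A}
    (hxs : ∀ x ∈ xs, x ∈ Ring.jacobson A) :
    supportDim A (M ⧸ (Ideal.ofList xs • (⊤ : Submodule A M))) + xs.length = supportDim A M ↔
      ∃ ys : List A, (∀ y ∈ ys, y ∈ Ring.jacobson A) ∧
        ((xs ++ ys).length : WithBot ℕ∞) = supportDim A M ∧
        IsFiniteLength A (M ⧸ (Ideal.ofList (xs ++ ys) • (⊤ : Submodule A M))) := by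
  have : Nontrivial (M ⧸ (Ideal.ofList xs • (⊤ : Submodule A M))) :=
    Submodule.Quotient.nontrivial_iff.mpr
      (Submodule.top_ne_ideal_smul_of_le_jacobson_annihilator (ofList_le_jacobson_annihilator hxs)).symm
  obtain ⟨e, he⟩ := exists_supportDim_eq (A := A) (M := M ⧸ (Ideal.ofList xs • (⊤ : Submodule A M)))
  obtain ⟨d, hd⟩ := exists_supportDim_eq (A := A) (M := M)
  have app : ∀ ys : List A, Nonempty ((M ⧸ (Ideal.ofList (xs ++ ys) • (⊤ : Submodule A M))) ≃ₗ[A]
      (M ⧸ (Ideal.ofList xs • (⊤ : Submodule A M))) ⧸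
        (Ideal.ofList ys • (⊤ : Submodule A (M ⧸ (Ideal.ofList xs • (⊤ : Submodule A M)))))) := fun ys =>
    ⟨Submodule.quotEquivOfEq _ _ (by rw [Ideal.ofList_append, Submodule.sup_smul]) ≪≫ₗ
      (Submodule.quotientQuotientEquivQuotientSup _ _).symm ≪≫ₗ
      Submodule.quotEquivOfEq _ _ (by rw [Submodule.map_smul'', Submodule.map_top, Submodule.range_mkQ])⟩
  constructor
  · intro h
    obtain ⟨ys, h1, h2, h3⟩ := exists_parameters (A := A) e he
    obtain ⟨f⟩ := app ys
    refine ⟨ys, h2, ?_, f.symm.isFiniteLength h3⟩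
    rw [← h, he, List.length_append, h1]
    exact_mod_cast add_comm xs.length e
  · rintro ⟨ys, h1, h2, h3⟩
    obtain ⟨f⟩ := app ys
    have k := (supportDim_le_quotient_add_length h1).trans
      (add_le_add (supportDim_nonpos_of_isFiniteLength (f.isFiniteLength h3)) le_rfl)
    have k' := supportDim_le_quotient_add_length (M := M) hxs
    rw [he, zero_add] at k
    rw [he, hd] at k'
    rw [hd, List.length_append] at h2
    rw [he, hd]
    have a1 : e ≤ ys.length := by exact_mod_cast k
    have a2 : d ≤ e + xs.length := by exact_mod_cast k'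
    have a3 : xs.length + ys.length = d := by exact_mod_cast h2
    exact_mod_cast (by omega : e + xs.length = d)

end Groth.Agent.EGA4Alg4.Semilocal
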