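import Mathlib
import Groth.Prelude.Def_Exal2
import Groth.Prelude.Def_Exal3
import Groth.Prelude.Def_FSRel

/-! Extensions of a commutative algebra by a module: basic lemmas for the rows S5813–S5824. -/

set_option autoImplicit false

universe u v w

open TensorProduct

namespace Groth.Agent.EGA4Alg4.Exal13

attribute [local instance] Exal.opModule Exal.isCentralScalar_opModule

open Exal

section Basic

variable {A : Type u} {B L : Type v} [CommRing A] [CommRing B] [Algebra A B] [AddCommGroup L] [Module B L]

theorem proj_incl (X : Ext A B L) (z : L) : X.proj (X.incl z) = 0 :=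
  (X.isExtension.exact _).2 ⟨z, rfl⟩

theorem incl_mul_incl (X : Ext A B L) (z z' : L) : X.incl z * X.incl z' = 0 := by
  rw [X.isExtension.mul_incl, proj_incl, zero_smul, map_zero]

theorem ker_proj_sq (X : Ext A B L) : (RingHom.ker (X.proj : X.E →+* B)) ^ 2 = ⊥ := by
  rw [pow_two, eq_bot_iff, Ideal.mul_le]
  intro a ha b hb
  rw [RingHom.mem_ker] at ha hb
  obtain ⟨z, rfl⟩ := (X.isExtension.exact a).1 ha
  obtain ⟨z', rfl⟩ := (X.isExtension.exact b).1 hb
  exact incl_mul_incl X z z'

/-- The five lemma: a map of extensions is an equivalence. -/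
noncomputable def equivOfHom {X Y : Ext A B L} (f : X.E →ₐ[A] Y.E) (hp : ∀ x, Y.proj (f x) = X.proj x)
    (hi : ∀ z, f (X.incl z) = Y.incl z) : X.Equiv Y where
  toAlgEquiv := AlgEquiv.ofBijective f (by
    refine ⟨(injective_iff_map_eq_zero f).2 fun x hx => ?_, fun y => ?_⟩
    · obtain ⟨z, rfl⟩ := (X.isExtension.exact x).1 (by rw [← hp, hx, map_zero])
      rw [hi, ← map_zero Y.incl] at hx
      rw [Y.isExtension.incl_injective hx, map_zero]
    · obtain ⟨x, hx⟩ := X.isExtension.proj_surjective (Y.proj y)
      obtain ⟨z, hz⟩ := (Y.isExtension.exact (y - f x)).1 (by rw [map_sub, hp, hx, sub_self])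
      exact ⟨x + X.incl z, by rw [map_add, hi, hz]; ring⟩)
  proj_apply := hp
  apply_incl := hi

theorem isTrivial_of_equiv {X Y : Ext A B L} (e : X.Equiv Y) (h : X.IsTrivial) : Y.IsTrivial := by
  obtain ⟨s, hs⟩ := h
  exact ⟨e.toAlgEquiv.toAlgHom.comp s, fun b => (e.proj_apply _).trans (hs b)⟩

theorem isTrivialOver_of_equiv {A' : Type w} [CommRing A'] [Algebra A' A] [Algebra A' B] [IsScalarTower A' A B]
    {X Y : Ext A B L} (e : X.Equiv Y) (h : X.IsTrivialOver A') : Y.IsTrivialOver A' := by
  let f : (X.restrictBase A').E →ₐ[A'] (Y.restrictBase A').E :=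
    { toFun := fun x => e.toAlgEquiv x
      map_one' := map_one e.toAlgEquiv
      map_zero' := map_zero e.toAlgEquiv
      map_add' := map_add e.toAlgEquiv
      map_mul' := map_mul e.toAlgEquiv
      commutes' := fun a => e.toAlgEquiv.commutes (algebraMap A' A a) }
  exact isTrivial_of_equiv (equivOfHom f e.proj_apply e.apply_incl) h

/-- A section of an extension trivial over `A'`, as a ring map. -/
theorem exists_section {A' : Type w} [CommRing A'] [Algebra A' A] [Algebra A' B] [IsScalarTower A' A B]
    {X : Ext A B L} (h : X.IsTrivialOver A') :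
    ∃ s : B →+* X.E, (∀ b, X.proj (s b) = b) ∧
      ∀ a : A', s (algebraMap A' B a) = algebraMap A X.E (algebraMap A' A a) := by
  obtain ⟨s, hs⟩ := h
  exact ⟨s.toRingHom, hs, s.commutes⟩

theorem isTrivialOver_mk {A' : Type w} [CommRing A'] [Algebra A' A] [Algebra A' B] [IsScalarTower A' A B]
    {X : Ext A B L} (s : B →+* X.E) (hs : ∀ b, X.proj (s b) = b)
    (hA : ∀ a : A', s (algebraMap A' B a) = algebraMap A X.E (algebraMap A' A a)) :
    X.IsTrivialOver A' :=
  ⟨{ toFun := s
     map_one' := map_one s
     map_zero' := map_zero s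
     map_add' := map_add s
     map_mul' := map_mul s
     commutes' := hA }, hs⟩

theorem isTrivial_of_formallySmooth [Algebra.FormallySmooth A B] (X : Ext A B L) : X.IsTrivial :=
  ⟨Algebra.FormallySmooth.liftOfSurjective (AlgHom.id A B) X.proj X.isExtension.proj_surjective
      ⟨2, ker_proj_sq X⟩,
    fun b => Algebra.FormallySmooth.liftOfSurjective_apply (AlgHom.id A B) X.proj X.isExtension.proj_surjective
      ⟨2, ker_proj_sq X⟩ b⟩

end Basic

section Conormal

variable {B : Type u} [CommRing B] (J : Ideal B)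
    {M : Type u} [AddCommGroup M] [Module (B ⧸ J) M] [Module B M] [IsScalarTower B (B ⧸ J) M]

theorem incl_smul (X : Ext B (B ⧸ J) M) (b : B) (m : M) :
    X.incl (b • m) = algebraMap B X.E b * X.incl m := by
  rw [X.isExtension.mul_incl, X.proj.commutes, algebraMap_smul]

theorem incl_conormalMap (X : Ext B (B ⧸ J) M) (z : J) :
    X.incl (X.conormalMap J (J.toCotangent z)) = algebraMap B X.E z := by
  change X.incl (X.idealToKer J z) = _
  exact X.incl_kerLift _ (X.proj_algebraMap_eq_zero J z)

/-- `(b, m) ↦ algebraMap b + incl m`. -/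
noncomputable def fromFree (X : Ext B (B ⧸ J) M) : TrivSqZeroExt B M →ₐ[B] X.E where
  toFun x := algebraMap B X.E x.fst + X.incl x.snd
  map_one' := by simp
  map_zero' := by simp
  map_add' x y := by
    simp only [TrivSqZeroExt.fst_add, TrivSqZeroExt.snd_add, map_add]
    abel
  map_mul' x y := by
    simp only [TrivSqZeroExt.fst_mul, TrivSqZeroExt.snd_mul, op_smul_eq_smul, map_mul, map_add,
      incl_smul]
    linear_combination -(incl_mul_incl X x.snd y.snd)
  commutes' b := by
    simp [TrivSqZeroExt.algebraMap_eq_inl]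

theorem fromFree_surjective (X : Ext B (B ⧸ J) M) : Function.Surjective (fromFree J X) := by
  intro y
  obtain ⟨b, hb⟩ := Ideal.Quotient.mk_surjective (X.proj y)
  obtain ⟨z, hz⟩ := (X.isExtension.exact (y - algebraMap B X.E b)).1
    (by rw [map_sub, X.proj.commutes, Ideal.Quotient.algebraMap_eq, hb, sub_self])
  refine ⟨TrivSqZeroExt.inl b + TrivSqZeroExt.inr z, ?_⟩
  simp [fromFree, hz]

theorem fromFree_eq_zero_iff (X : Ext B (B ⧸ J) M) (x : TrivSqZeroExt B M) :
    fromFree J X x = 0 ↔ ∃ h : x.fst ∈ J, x.snd = - X.conormalMap J (J.toCotangent ⟨x.fst, h⟩) := by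
  change algebraMap B X.E x.fst + X.incl x.snd = 0 ↔ _
  constructor
  · intro hx
    have h : x.fst ∈ J := by
      have h1 := congrArg X.proj hx
      rw [map_add, proj_incl, add_zero, map_zero, X.proj.commutes, Ideal.Quotient.algebraMap_eq] at h1
      exact Ideal.Quotient.eq_zero_iff_mem.1 h1
    refine ⟨h, X.isExtension.incl_injective ?_⟩
    rw [map_neg, incl_conormalMap]
    exact (neg_eq_of_add_eq_zero_right hx).symm
  · rintro ⟨h, hx⟩
    rw [hx, map_neg, incl_conormalMap]
    simp

theorem nonempty_equiv_of_conormalMap_eq (X Y : Ext B (B ⧸ J) M) (h : X.conormalMap J = Y.conormalMap J) :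
    Nonempty (X.Equiv Y) := by
  have hk : RingHom.ker (fromFree J X : TrivSqZeroExt B M →+* X.E) =
      RingHom.ker (fromFree J Y : TrivSqZeroExt B M →+* Y.E) := by
    ext x
    simp only [RingHom.mem_ker]
    exact (fromFree_eq_zero_iff J X x).trans (by rw [h]; exact (fromFree_eq_zero_iff J Y x).symm)
  let eX := Ideal.quotientKerAlgEquivOfSurjective (fromFree_surjective J X)
  let eY := Ideal.quotientKerAlgEquivOfSurjective (fromFree_surjective J Y)
  let f : X.E →ₐ[B] Y.E :=
    eY.toAlgHom.comp ((Ideal.quotientEquivAlgOfEq B hk).toAlgHom.comp eX.symm.toAlgHom)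
  have hf : ∀ x, f (fromFree J X x) = fromFree J Y x := by
    intro x
    have : eX.symm (fromFree J X x) = Ideal.Quotient.mk _ x := by
      rw [AlgEquiv.symm_apply_eq]; rfl
    change eY (Ideal.quotientEquivAlgOfEq B hk (eX.symm (fromFree J X x))) = _
    rw [this]; rfl
  refine ⟨equivOfHom f (fun y => ?_) (fun z => ?_)⟩
  · obtain ⟨x, rfl⟩ := fromFree_surjective J X y
    rw [hf]
    change Y.proj (algebraMap B Y.E x.fst + Y.incl x.snd) = X.proj (algebraMap B X.E x.fst + X.incl x.snd)
    simp [proj_incl]
  · have e := hf (TrivSqZeroExt.inr z)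
    simpa [fromFree] using e

theorem exists_ext_conormalMap_eq (w : J.Cotangent →ₗ[B] M) : ∃ X : Ext B (B ⧸ J) M, X.conormalMap J = w := by
  have hann : ∀ b ∈ J, ∀ m : M, b • m = 0 := fun b hb m => by
    rw [← algebraMap_smul (B ⧸ J) b m, Ideal.Quotient.algebraMap_eq, Ideal.Quotient.eq_zero_iff_mem.2 hb,
      zero_smul]
  let w' : J →ₗ[B] M := w.comp J.toCotangent
  have hw0 : ∀ (z : J) (m : M), (z : B) • m = 0 := fun z m => hann z z.2 m
  let K : Ideal (TrivSqZeroExt B M) :=
    { carrier := {x | ∃ z : J, x.fst = z ∧ x.snd = - w' z}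
      zero_mem' := ⟨0, by simp, by simp⟩
      add_mem' := by
        rintro x y ⟨z, hz, hz'⟩ ⟨t, ht, ht'⟩
        refine ⟨z + t, by simp [hz, ht], ?_⟩
        simp only [TrivSqZeroExt.snd_add, hz', ht', map_add]
        abel
      smul_mem' := by
        rintro c x ⟨z, hz, hz'⟩
        refine ⟨c.fst • z, by simp [hz], ?_⟩
        simp only [smul_eq_mul, TrivSqZeroExt.snd_mul, op_smul_eq_smul, hz, hz', map_smul, smul_neg,
          hw0, add_zero] }
  have hKmem : ∀ x, x ∈ K ↔ ∃ z : J, x.fst = z ∧ x.snd = - w' z := fun _ => Iff.rfl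
  let pr : TrivSqZeroExt B M →ₐ[B] B ⧸ J := (Ideal.Quotient.mkₐ B J).comp (TrivSqZeroExt.fstHom B B M)
  have hpr : ∀ x, pr x = Ideal.Quotient.mk J x.fst := fun _ => rfl
  have hKle : ∀ x ∈ K, pr x = 0 := by
    intro x hx
    obtain ⟨z, hz, -⟩ := (hKmem x).1 hx
    rw [hpr, hz]
    exact Ideal.Quotient.eq_zero_iff_mem.2 z.2
  let P : (TrivSqZeroExt B M ⧸ K) →ₐ[B] B ⧸ J := Ideal.Quotient.liftₐ K pr hKle
  let i : M →+ TrivSqZeroExt B M ⧸ K :=
    (Ideal.Quotient.mk K).toAddMonoidHom.comp (TrivSqZeroExt.inrHom B M).toAddMonoidHom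
  let X : Ext B (B ⧸ J) M :=
    { E := TrivSqZeroExt B M ⧸ K
      proj := P
      incl := i
      isExtension :=
        { proj_surjective := fun c => by
            obtain ⟨b, rfl⟩ := Ideal.Quotient.mk_surjective c
            exact ⟨Ideal.Quotient.mk K (TrivSqZeroExt.inl b), by
              change pr (TrivSqZeroExt.inl b) = _
              simp [hpr]⟩
          incl_injective := (injective_iff_map_eq_zero i).2 fun m hm => by
            obtain ⟨z, hz, hz'⟩ := (hKmem _).1 (Ideal.Quotient.eq_zero_iff_mem.1 hm)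
            rw [show z = 0 from Subtype.ext (by simpa using hz.symm)] at hz'
            simpa using hz'
          exact := fun x => by
            obtain ⟨x, rfl⟩ := Ideal.Quotient.mk_surjective x
            change pr x = 0 ↔ _
            rw [hpr, Ideal.Quotient.eq_zero_iff_mem]
            constructor
            · intro hx
              refine ⟨x.snd + w' ⟨x.fst, hx⟩, (Ideal.Quotient.eq.2 ((hKmem _).2 ⟨-⟨x.fst, hx⟩, ?_, ?_⟩))⟩
              · simp
              · simp
            · rintro ⟨m, hm⟩
              obtain ⟨z, hz, -⟩ := (hKmem _).1 (Ideal.Quotient.eq.1 hm)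
              simp at hz
              have : x.fst = -(z : B) := by rw [← hz]; simp
              rw [this]; exact J.neg_mem z.2
          mul_incl := fun x m => by
            obtain ⟨x, rfl⟩ := Ideal.Quotient.mk_surjective x
            change Ideal.Quotient.mk K x * Ideal.Quotient.mk K (TrivSqZeroExt.inr m) =
              Ideal.Quotient.mk K (TrivSqZeroExt.inr (pr x • m))
            rw [← map_mul]
            congr 1
            have : pr x • m = x.fst • m := by
              rw [hpr, ← Ideal.Quotient.algebraMap_eq, algebraMap_smul]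
            rw [this]
            exact TrivSqZeroExt.ext (by simp) (by simp) } }
  refine ⟨X, LinearMap.ext fun q => ?_⟩
  obtain ⟨z, rfl⟩ := J.toCotangent_surjective q
  apply X.isExtension.incl_injective
  rw [incl_conormalMap]
  change Ideal.Quotient.mk K (algebraMap B (TrivSqZeroExt B M) (z : B)) =
    Ideal.Quotient.mk K (TrivSqZeroExt.inr (w' z))
  refine Ideal.Quotient.eq.2 ((hKmem _).2 ⟨z, ?_, ?_⟩)
  · simp [TrivSqZeroExt.algebraMap_eq_inl]
  · simp [TrivSqZeroExt.algebraMap_eq_inl]

end Conormal

section Smooth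

theorem formallySmooth_iff (A B : Type u) [CommRing A] [CommRing B] [Algebra A B] :
    Algebra.FormallySmooth A B ↔
      ∀ (L : Type u) [AddCommGroup L] [Module B L] (X : Exal.Ext A B L), X.IsTrivial := by
  refine ⟨fun h L _ _ X => isTrivial_of_formallySmooth X, fun h => ?_⟩
  refine Algebra.FormallySmooth.of_comp_surjective fun R _ _ I hI φ => ?_
  have hI0 : ∀ {a b : R}, a ∈ I → b ∈ I → a * b = 0 := fun {a b} ha hb => by
    have := Ideal.mul_mem_mul ha hb
    rwa [← pow_two, hI, Ideal.mem_bot] at this
  letI : Module (R ⧸ I) I := Module.IsTorsionBySet.module (R := R) (M := I) (I := I) fun x a =>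
    Subtype.ext (hI0 a.2 x.2)
  letI : Algebra B (R ⧸ I) := φ.toRingHom.toAlgebra
  haveI : IsScalarTower A B (R ⧸ I) := IsScalarTower.of_algebraMap_eq fun a => (φ.commutes a).symm
  letI : Module B I := Module.compHom I φ.toRingHom
  haveI : IsScalarTower B (R ⧸ I) I := ⟨fun b c z => by
    change (φ b * c) • z = φ b • c • z
    rw [mul_smul]⟩
  let X : Ext A (R ⧸ I) I :=
    { E := R
      proj := Ideal.Quotient.mkₐ A I
      incl := (I.subtype : I →ₗ[R] R).toAddMonoidHom
      isExtension :=
        { proj_surjective := Ideal.Quotient.mk_surjective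
          incl_injective := Subtype.val_injective
          exact := fun x => by
            change Ideal.Quotient.mk I x = 0 ↔ _
            rw [Ideal.Quotient.eq_zero_iff_mem]
            exact ⟨fun hx => ⟨⟨x, hx⟩, rfl⟩, fun ⟨z, hz⟩ => hz ▸ z.2⟩
          mul_incl := fun _ _ => rfl } }
  obtain ⟨s, hs⟩ := h I (X.pullback B)
  refine ⟨(AlgHom.fst A R B).comp ((X.fiberProd B).val.comp s), AlgHom.ext fun b => ?_⟩
  have h1 : Ideal.Quotient.mk I (s b).1.1 = φ (s b).1.2 := (s b).2
  have h2 : (s b).1.2 = b := hs b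
  change Ideal.Quotient.mk I (s b).1.1 = φ b
  rw [h1, h2]

theorem isFormallySmoothRel_iff (Λ A B : Type u) [CommRing Λ]
    [CommRing A] [CommRing B] [Algebra Λ A] [Algebra Λ B] [Algebra A B] [IsScalarTower Λ A B] :
    EGA41.IsFormallySmoothRel Λ A B ↔
      ∀ (L : Type u) [AddCommGroup L] [Module B L] (X : Exal.Ext A B L),
        X.IsTrivialOver Λ → X.IsTrivial := by
  constructor
  · intro h L _ _ X hX
    obtain ⟨s, hs, hsΛ⟩ := exists_section hX
    letI : Algebra Λ X.E := ((algebraMap A X.E).comp (algebraMap Λ A)).toAlgebra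
    haveI : IsScalarTower Λ A X.E := IsScalarTower.of_algebraMap_eq fun _ => rfl
    let J : Ideal X.E := RingHom.ker (X.proj : X.E →+* B)
    let e := Ideal.quotientKerAlgEquivOfSurjective X.isExtension.proj_surjective
    have he : ∀ x, e (Ideal.Quotient.mk _ x) = X.proj x := fun _ => rfl
    obtain ⟨v, hv⟩ := h X.E J (ker_proj_sq X) e.symm.toAlgHom
      ⟨{ s with commutes' := hsΛ }, AlgHom.ext fun b => e.injective (by
        change e (Ideal.Quotient.mk _ (s b)) = e (e.symm b)
        rw [e.apply_symm_apply, he, hs])⟩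
    refine ⟨v, fun b => ?_⟩
    have := congrArg e (AlgHom.congr_fun hv b)
    change e (Ideal.Quotient.mk _ (v b)) = e (e.symm b) at this
    rwa [e.apply_symm_apply, he] at this
  · intro h C _ _ _ _ J hJ u₀ hu
    obtain ⟨u, hu⟩ := hu
    have hI0 : ∀ {a b : C}, a ∈ J → b ∈ J → a * b = 0 := fun {a b} ha hb => by
      have := Ideal.mul_mem_mul ha hb
      rwa [← pow_two, hJ, Ideal.mem_bot] at this
    letI : Module (C ⧸ J) J := Module.IsTorsionBySet.module (R := C) (M := J) (I := J) fun x a =>
      Subtype.ext (hI0 a.2 x.2)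
    letI : Algebra B (C ⧸ J) := u₀.toRingHom.toAlgebra
    haveI : IsScalarTower A B (C ⧸ J) := IsScalarTower.of_algebraMap_eq fun a => (u₀.commutes a).symm
    letI : Module B J := Module.compHom J u₀.toRingHom
    haveI : IsScalarTower B (C ⧸ J) J := ⟨fun b c z => by
      change (u₀ b * c) • z = u₀ b • c • z
      rw [mul_smul]⟩
    let X : Ext A (C ⧸ J) J :=
      { E := C
        proj := Ideal.Quotient.mkₐ A J
        incl := (J.subtype : J →ₗ[C] C).toAddMonoidHom
        isExtension :=
          { proj_surjective := Ideal.Quotient.mk_surjective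
            incl_injective := Subtype.val_injective
            exact := fun x => by
              change Ideal.Quotient.mk J x = 0 ↔ _
              rw [Ideal.Quotient.eq_zero_iff_mem]
              exact ⟨fun hx => ⟨⟨x, hx⟩, rfl⟩, fun ⟨z, hz⟩ => hz ▸ z.2⟩
            mul_incl := fun _ _ => rfl } }
    let P := X.pullback B
    let σ : B →+* P.E :=
      RingHom.codRestrict (RingHom.prod u.toRingHom (RingHom.id B)) (X.fiberProd B).toSubring
        (fun b => AlgHom.congr_fun hu b)
    obtain ⟨v, hv⟩ := h J P (isTrivialOver_mk σ (fun _ => rfl) fun l => Subtype.ext (Prod.ext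
      ((u.commutes l).trans (IsScalarTower.algebraMap_apply Λ A C l))
      (IsScalarTower.algebraMap_apply Λ A B l)))
    refine ⟨(AlgHom.fst A C B).comp ((X.fiberProd B).val.comp v), AlgHom.ext fun b => ?_⟩
    have h1 : Ideal.Quotient.mk J (v b).1.1 = u₀ (v b).1.2 := (v b).2
    have h2 : (v b).1.2 = b := hv b
    change Ideal.Quotient.mk J (v b).1.1 = u₀ b
    rw [h1, h2]

end Smooth

section SixTerm

variable {A : Type u} {B C L : Type v} [CommRing A] [CommRing B] [CommRing C]
    [Algebra A B] [Algebra B C] [Algebra A C] [IsScalarTower A B C]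
    [AddCommGroup L] [Module C L] [Module B L] [IsScalarTower B C L]

theorem pullback_isTrivial_iff (Y : Exal.Ext A C L) :
    (Y.pullback B).IsTrivial ↔ ∃ X : Exal.Ext B C L, Nonempty ((X.restrictBase A).Equiv Y) := by
  constructor
  · rintro ⟨s, hs⟩
    let t : B →ₐ[A] Y.E := (AlgHom.fst A Y.E B).comp ((Y.fiberProd B).val.comp s)
    have ht : ∀ b, Y.proj (t b) = algebraMap B C b := by
      intro b
      have h1 : Y.proj (s b).1.1 = algebraMap B C (s b).1.2 := (s b).2
      have h2 : (s b).1.2 = b := hs b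
      rw [h2] at h1
      exact h1
    let X : Ext B C L :=
      { E := Y.E
        algebra := t.toRingHom.toAlgebra
        proj := @AlgHom.mk B Y.E C _ _ _ t.toRingHom.toAlgebra _ Y.proj.toRingHom ht
        incl := Y.incl
        isExtension :=
          @IsExtension.mk B C Y.E L _ _ _ _ t.toRingHom.toAlgebra _ _
            (@AlgHom.mk B Y.E C _ _ _ t.toRingHom.toAlgebra _ Y.proj.toRingHom ht) Y.incl
            Y.isExtension.proj_surjective Y.isExtension.incl_injective Y.isExtension.exact
            Y.isExtension.mul_incl }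
    let f : (X.restrictBase A).E →ₐ[A] Y.E :=
      { toFun := fun x => x
        map_one' := rfl
        map_zero' := rfl
        map_add' := fun _ _ => rfl
        map_mul' := fun _ _ => rfl
        commutes' := fun a => t.commutes a }
    exact ⟨X, ⟨equivOfHom f (fun _ => rfl) fun _ => rfl⟩⟩
  · rintro ⟨X, ⟨e⟩⟩
    let t : B →+* Y.E := (e.toAlgEquiv : (X.restrictBase A).E →+* Y.E).comp (algebraMap B X.E)
    have ht : ∀ b, Y.proj (t b) = algebraMap B C b := fun b =>
      (e.proj_apply _).trans (X.proj.commutes b)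
    let σ : B →+* (Y.pullback B).E :=
      RingHom.codRestrict (RingHom.prod t (RingHom.id B)) (Y.fiberProd B).toSubring ht
    refine ⟨{ σ with commutes' := fun a => Subtype.ext (Prod.ext ?_ rfl) }, fun _ => rfl⟩
    exact e.toAlgEquiv.commutes a

variable [Module A L] [IsScalarTower A B L] [IsScalarTower A C L]

theorem der_algebraMap_apply (D : Derivation A B L) (b : B) :
    algebraMap B (Ext.DerCarrier (C := C) D) b =
      (TrivSqZeroExt.inl (algebraMap B C b) + TrivSqZeroExt.inr (D b) : TrivSqZeroExt C L) := rfl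

theorem ofDerivation_isTrivial_iff (D : Derivation A B L) :
    (Exal.Ext.ofDerivation (C := C) D).IsTrivial ↔ ∃ D' : Derivation A C L, D'.compAlgebraMap B = D := by
  constructor
  · rintro ⟨s, hs⟩
    let σ : C →+* TrivSqZeroExt C L := s.toRingHom
    have hσ : ∀ c, (σ c).fst = c := hs
    have hσB : ∀ b, σ (algebraMap B C b) =
        TrivSqZeroExt.inl (algebraMap B C b) + TrivSqZeroExt.inr (D b) := s.commutes
    have hσD : ∀ b, (σ (algebraMap B C b)).snd = D b := fun b => by
      have := congrArg TrivSqZeroExt.snd (hσB b)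
      simpa using this
    refine ⟨Derivation.mk'
      { toFun := fun c => (σ c).snd
        map_add' := fun a b => by simp [map_add]
        map_smul' := fun a c => by
          rw [RingHom.id_apply, Algebra.smul_def, map_mul, TrivSqZeroExt.snd_mul, hσ,
            IsScalarTower.algebraMap_apply A B C, hσD, Derivation.map_algebraMap, smul_zero, add_zero,
            ← IsScalarTower.algebraMap_apply A B C, algebraMap_smul] }
      (fun a b => by
        change (σ (a * b)).snd = a • (σ b).snd + b • (σ a).snd
        rw [map_mul, TrivSqZeroExt.snd_mul, op_smul_eq_smul, hσ, hσ]), Derivation.ext fun b => hσD b⟩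
  · rintro ⟨D', rfl⟩
    let σ : C →+* TrivSqZeroExt C L := Ext.derivationHom (C := C) D'
    exact ⟨{ (σ : C →+* Ext.DerCarrier (C := C) (D'.compAlgebraMap B)) with commutes' := fun b => rfl },
      fun c => by
        change TrivSqZeroExt.fst (TrivSqZeroExt.inl (algebraMap C C c) + TrivSqZeroExt.inr (D' c)) = c
        simp⟩

theorem isTrivialOver_ofDerivation (D : Derivation A B L) :
    (Exal.Ext.ofDerivation (C := C) D).IsTrivialOver A :=
  isTrivialOver_mk (X := Exal.Ext.ofDerivation (C := C) D) (TrivSqZeroExt.inlHom C L) (fun _ => rfl) fun a => by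
    change (TrivSqZeroExt.inl (algebraMap A C a) : TrivSqZeroExt C L) =
      TrivSqZeroExt.inl (algebraMap B C (algebraMap A B a)) + TrivSqZeroExt.inr (D (algebraMap A B a))
    simp [← IsScalarTower.algebraMap_apply A B C]

omit [Module B L] [IsScalarTower B C L] [Module A L] [IsScalarTower A B L] [IsScalarTower A C L] in
/-- The `L`-component of an element of the middle ring, relative to a section. -/
theorem exists_component {X : Ext B C L} (s : C →+* X.E) (hs : ∀ c, X.proj (s c) = c) :
    ∃ δ : X.E →+ L, (∀ x, X.incl (δ x) = x - s (X.proj x)) ∧ (∀ z, δ (X.incl z) = z) ∧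
      (∀ c, δ (s c) = 0) ∧
      ∀ x y, δ (x * y) = X.proj x • δ y + X.proj y • δ x := by
  have h0 : ∀ x, X.proj (x - s (X.proj x)) = 0 := fun x => by rw [map_sub, hs, sub_self]
  let δ0 : X.E → L := fun x => X.kerLift _ (h0 x)
  have hδ : ∀ x, X.incl (δ0 x) = x - s (X.proj x) := fun x => X.incl_kerLift _ _
  let δ : X.E →+ L := AddMonoidHom.mk' δ0 fun x y => X.isExtension.incl_injective (by
    rw [map_add, hδ, hδ, hδ, map_add, map_add]; abel)
  refine ⟨δ, hδ, fun z => X.isExtension.incl_injective ((hδ _).trans (by simp [proj_incl])),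
    fun c => X.isExtension.incl_injective ((hδ _).trans (by simp [hs])),
    fun x y => X.isExtension.incl_injective ?_⟩
  have h2 := incl_mul_incl X (δ x) (δ y)
  change X.incl (δ0 x) * X.incl (δ0 y) = 0 at h2
  rw [hδ (x), hδ (y)] at h2
  rw [map_add, ← X.isExtension.mul_incl, ← X.isExtension.mul_incl]
  change X.incl (δ0 (x * y)) = x * X.incl (δ0 y) + y * X.incl (δ0 x)
  rw [hδ, hδ, hδ, map_mul, map_mul s]
  linear_combination -h2

theorem exists_equiv_ofDerivation (X : Exal.Ext B C L) (hX : X.IsTrivialOver A) :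
    ∃ D : Derivation A B L, Nonempty (X.Equiv (Exal.Ext.ofDerivation (C := C) D)) := by
  obtain ⟨s, hs, hsA⟩ := exists_section hX
  obtain ⟨δ, hδ, hδi, hδs, hδm⟩ := exists_component s hs
  have hδA : ∀ a : A, δ (algebraMap B X.E (algebraMap A B a)) = 0 := fun a => by rw [← hsA, hδs]
  let D : Derivation A B L := Derivation.mk'
    { toFun := fun b => δ (algebraMap B X.E b)
      map_add' := fun a b => by rw [map_add, map_add]
      map_smul' := fun a b => by
        rw [RingHom.id_apply, Algebra.smul_def, map_mul, hδm, hδA, smul_zero, add_zero, X.proj.commutes,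
          algebraMap_smul, algebraMap_smul] }
    (fun a b => by
      change δ (algebraMap B X.E (a * b)) = a • δ _ + b • δ _
      rw [map_mul, hδm, X.proj.commutes, X.proj.commutes, algebraMap_smul, algebraMap_smul])
  refine ⟨D, ⟨equivOfHom (Y := Exal.Ext.ofDerivation (C := C) D)
    { toFun := fun x => ((X.proj x, δ x) : C × L)
      map_one' := ?_
      map_zero' := ?_
      map_add' := ?_
      map_mul' := ?_
      commutes' := ?_ } (fun x => rfl) (fun z => ?_)⟩⟩
  · change (X.proj 1, δ 1) = ((1 : C), (0 : L))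
    rw [map_one, show δ 1 = 0 by simpa using hδs 1]
  · intro x y
    change (X.proj (x * y), δ (x * y)) = (X.proj x * X.proj y, X.proj x • δ y + X.proj y • δ x)
    rw [map_mul, hδm]
  · change (X.proj 0, δ 0) = ((0 : C), (0 : L))
    rw [map_zero, map_zero]
  · intro x y
    change (X.proj (x + y), δ (x + y)) = (X.proj x + X.proj y, δ x + δ y)
    rw [map_add, map_add]
  · intro b
    change (X.proj (algebraMap B X.E b), δ (algebraMap B X.E b)) =
      (algebraMap B C b + 0, 0 + δ (algebraMap B X.E b))
    rw [X.proj.commutes, add_zero, zero_add]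
  · change (X.proj (X.incl z), δ (X.incl z)) = ((0 : C), z)
    rw [proj_incl, hδi]

theorem isTrivialOver_iff (X : Exal.Ext B C L) :
    X.IsTrivialOver A ↔
      ∃ D : Derivation A B L, Nonempty (X.Equiv (Exal.Ext.ofDerivation (C := C) D)) :=
  ⟨exists_equiv_ofDerivation X, fun ⟨D, ⟨e⟩⟩ => isTrivialOver_of_equiv e.symm (isTrivialOver_ofDerivation D)⟩

/-- Changing `D` by a derivation of `C` does not change the class. -/
theorem nonempty_equiv_ofDerivation {D D' : Derivation A B L} (E : Derivation A C L)
    (h : ∀ b, D' b = D b + E (algebraMap B C b)) :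
    Nonempty ((Exal.Ext.ofDerivation (C := C) D).Equiv (Exal.Ext.ofDerivation (C := C) D')) := by
  let φ : TrivSqZeroExt C L → TrivSqZeroExt C L := fun x => x + TrivSqZeroExt.inr (E x.fst)
  let f : (Exal.Ext.ofDerivation (C := C) D).E →ₐ[B] (Exal.Ext.ofDerivation (C := C) D').E :=
    { toFun := φ
      map_one' := show φ 1 = 1 by simp [φ]
      map_zero' := show φ 0 = 0 by simp [φ]
      map_add' := fun (x y : TrivSqZeroExt C L) => show φ (x + y) = φ x + φ y by
        apply TrivSqZeroExt.ext <;> simp [φ] <;> abel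
      map_mul' := fun (x y : TrivSqZeroExt C L) => show φ (x * y) = φ x * φ y by
        apply TrivSqZeroExt.ext
        · simp [φ]
        · simp [φ]
          module
      commutes' := fun b => show φ (TrivSqZeroExt.inl (algebraMap B C b) + TrivSqZeroExt.inr (D b)) =
          TrivSqZeroExt.inl (algebraMap B C b) + TrivSqZeroExt.inr (D' b) by
        apply TrivSqZeroExt.ext <;> simp [φ, h b] }
  exact ⟨equivOfHom f (fun (x : TrivSqZeroExt C L) => show (φ x).fst = x.fst by simp [φ])
    (fun z => show φ (TrivSqZeroExt.inr z) = TrivSqZeroExt.inr z by simp [φ])⟩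

end SixTerm

end Groth.Agent.EGA4Alg4.Exal13
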