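import Mathlib
import Groth.Prelude.Def_CAlgX
import Groth.Agent.FSAdic12.LocSmooth

/-!
# Jacobian criterion for adic formal smoothness of a localised quotient
-/

set_option autoImplicit false

universe u

open TensorProduct KaehlerDifferential

namespace Groth.Agent.EGA4Alg4.JacAdic13

theorem exists_lift_of_formallySmooth {R S : Type u} [CommRing R] [CommRing S] [Algebra R S]
    [Algebra.FormallySmooth R S] (𝔫 : Ideal S) : CAlgX.IsAdicFormallySmooth R S 𝔫 :=
  fun E _ _ J hJ ψ _ => Algebra.FormallySmooth.comp_surjective R S J hJ ψ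

/-- Adic formal smoothness over a localisation of the base. -/
theorem isAdicFormallySmooth_localization_base {A A' S : Type u} [CommRing A] [CommRing A'] [CommRing S]
    [Algebra A A'] (M : Submonoid A) [IsLocalization M A'] [Algebra A S] [Algebra A' S] [IsScalarTower A A' S]
    (𝔫 : Ideal S) : CAlgX.IsAdicFormallySmooth A' S 𝔫 ↔ CAlgX.IsAdicFormallySmooth A S 𝔫 := by
  constructor
  · intro h E _ _ J hJ ψ hψ
    have hu : ∀ a : M, IsUnit (algebraMap A E a) := fun a => by
      refine (IsNilpotent.isUnit_quotient_mk_iff (I := J) ⟨2, hJ⟩).mp ?_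
      rw [← Ideal.Quotient.algebraMap_eq, ← IsScalarTower.algebraMap_apply, ← ψ.commutes,
        IsScalarTower.algebraMap_apply A A' S]
      exact ((IsLocalization.map_units A' a).map (algebraMap A' S)).map ψ
    letI : Algebra A' E := (IsLocalization.lift (g := algebraMap A E) hu).toAlgebra
    haveI : IsScalarTower A A' E := IsScalarTower.of_algebraMap_eq fun a =>
      (IsLocalization.lift_eq hu a).symm
    have hψ' : (ψ.toRingHom.comp (algebraMap A' S)) = algebraMap A' (E ⧸ J) :=
      IsLocalization.ringHom_ext M <| RingHom.ext fun a => by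
        change ψ (algebraMap A' S (algebraMap A A' a)) = algebraMap A' (E ⧸ J) (algebraMap A A' a)
        rw [← IsScalarTower.algebraMap_apply, ψ.commutes, ← IsScalarTower.algebraMap_apply]
    obtain ⟨χ, hχ⟩ := h E J hJ { ψ.toRingHom with commutes' := RingHom.congr_fun hψ' } hψ
    exact ⟨χ.restrictScalars A, AlgHom.ext fun s => AlgHom.congr_fun hχ s⟩
  · intro h E _ _ J hJ ψ hψ
    letI : Algebra A E := ((algebraMap A' E).comp (algebraMap A A')).toAlgebra
    haveI : IsScalarTower A A' E := IsScalarTower.of_algebraMap_eq fun a => rfl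
    obtain ⟨χ, hχ⟩ := h E J hJ (ψ.restrictScalars A) hψ
    have hχ' : χ.toRingHom.comp (algebraMap A' S) = algebraMap A' E :=
      IsLocalization.ringHom_ext M <| RingHom.ext fun a => by
        change χ (algebraMap A' S (algebraMap A A' a)) = algebraMap A' E (algebraMap A A' a)
        rw [← IsScalarTower.algebraMap_apply, χ.commutes, ← IsScalarTower.algebraMap_apply]
    exact ⟨{ χ.toRingHom with commutes' := RingHom.congr_fun hχ' }, AlgHom.ext fun s => AlgHom.congr_fun hχ s⟩

variable {A B C : Type u} [CommRing A] [CommRing B] [CommRing C] [Algebra A B] [Algebra B C]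
  [Algebra A C] [IsScalarTower A B C]

set_option maxHeartbeats 1000000 in
theorem exists_derivation [IsNoetherianRing B] (hsurj : Function.Surjective (algebraMap B C))
    (p : Ideal C) [p.IsPrime]
    (hadic : CAlgX.IsAdicFormallySmooth A (Localization.AtPrime p)
      (IsLocalRing.maximalIdeal (Localization.AtPrime p)))
    (V : Type u) [AddCommGroup V] [Module A V] [Module B V] [IsScalarTower A B V] [Module C V]
    [IsScalarTower B C V] (hV : ∀ s ∈ p.primeCompl, Function.Bijective fun v : V => s • v)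
    (hpV : ∀ c ∈ p, ∀ v : V, c • v = 0)
    (μ : (RingHom.ker (algebraMap B C)).Cotangent →ₗ[B] V) :
    ∃ d : Derivation A B V, ∀ (x : B) (hx : x ∈ RingHom.ker (algebraMap B C)),
      d x = μ ((RingHom.ker (algebraMap B C)).toCotangent ⟨x, hx⟩) := by
  classical
  obtain ⟨R, _, _, π, ι, j, hj, hι, hker, hπι, hmul, hμ⟩ := FSAdic12.exists_sqZero_extension (A := A) V μ
  let K := RingHom.ker (algebraMap B C)
  let P : Ideal B := p.comap (algebraMap B C)
  obtain ⟨c₀, hc₀⟩ := P.exists_pow_inf_eq_pow_smul (K : Submodule B B)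
  obtain ⟨k, hk2, hk⟩ : ∃ k, 1 ≤ k ∧ P ^ k ⊓ K ≤ P * K := by
    refine ⟨c₀ + 1, by omega, ?_⟩
    have := hc₀ (c₀ + 1) (by omega)
    rw [smul_eq_mul, Ideal.mul_top, Nat.add_sub_cancel_left, pow_one] at this
    rw [this, smul_eq_mul]
    exact Ideal.mul_mono le_rfl inf_le_right
  let S' : Submonoid R := p.primeCompl.comap π
  let T : Ideal (Localization S') := ((P ^ k).map j).map (algebraMap R (Localization S'))
  have hjk : ∀ x ∈ (P ^ k).map j, ∃ b ∈ P ^ k, x = j b := by
    intro x hx
    induction hx using Submodule.span_induction with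
    | mem x hx => obtain ⟨b, hb, rfl⟩ := hx; exact ⟨b, hb, rfl⟩
    | zero => exact ⟨0, zero_mem _, (map_zero j).symm⟩
    | add x y _ _ hx hy =>
      obtain ⟨b, hb, rfl⟩ := hx; obtain ⟨b', hb', rfl⟩ := hy
      exact ⟨b + b', add_mem hb hb', (map_add j _ _).symm⟩
    | smul z x _ hx =>
      obtain ⟨b, hb, rfl⟩ := hx
      obtain ⟨c, hc⟩ := hsurj (π z)
      obtain ⟨v, hv⟩ := hker (z - j c) (by rw [map_sub, hj, hc, sub_self])
      refine ⟨c * b, Ideal.mul_mem_left _ _ hb, ?_⟩
      have hbp : π (j b) • v = 0 := by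
        rw [hj]
        exact hpV _ (Ideal.mem_comap.1 (Ideal.pow_le_self (by omega : k ≠ 0) hb)) v
      rw [smul_eq_mul, map_mul, eq_comm, ← sub_eq_zero]
      calc j c * j b - z * j b = -(j b * (z - j c)) := by ring
        _ = 0 := by rw [hv, hmul, hbp, map_zero, neg_zero]
  have hjk0 : ∀ x ∈ (P ^ k).map j, ∀ v, x = ι v → v = 0 := by
    intro x hx v hxv
    obtain ⟨b, hb, rfl⟩ := hjk x hx
    have hbK : b ∈ K := by
      rw [RingHom.mem_ker, ← hj, hxv, hπι]
    have hzero : ∀ y ∈ P * K, ∀ hy : y ∈ K, μ (K.toCotangent ⟨y, hy⟩) = 0 := by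
      intro y hy
      induction hy using Submodule.mul_induction_on' with
      | mem_mul_mem q hq r hr =>
        intro hy
        rw [show (⟨q * r, hy⟩ : K) = q • ⟨r, hr⟩ from rfl, map_smul, map_smul,
          ← IsScalarTower.algebraMap_smul C q]
        exact hpV _ hq _
      | add y hy' z hz' hy hz =>
        intro h
        have h1 : y ∈ K := (Ideal.mul_le_right : P * K ≤ K) hy'
        have h2 : z ∈ K := (Ideal.mul_le_right : P * K ≤ K) hz'
        rw [show (⟨y + z, h⟩ : K) = ⟨y, h1⟩ + ⟨z, h2⟩ from rfl, map_add, map_add, hy h1, hz h2, add_zero]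
    refine hι ?_
    rw [← hxv, hμ b hbK, hzero b (hk ⟨hb, hbK⟩) hbK]
  let E := Localization S' ⧸ T
  let q : R →ₐ[A] E := (Ideal.Quotient.mkₐ A T).comp (IsScalarTower.toAlgHom A R (Localization S'))
  let ιE : V →+ E := q.toRingHom.toAddMonoidHom.comp ι
  have hιE : Function.Injective ιE := (injective_iff_map_eq_zero _).mpr fun v hv => by
    obtain ⟨⟨⟨x, hx⟩, s⟩, hxs⟩ :=
      (IsLocalization.mem_map_algebraMap_iff S' (Localization S')).1 (Ideal.Quotient.eq_zero_iff_mem.1 hv)
    change algebraMap R (Localization S') (ι v) * algebraMap R (Localization S') s = algebraMap R (Localization S') x at hxs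
    rw [← map_mul] at hxs
    obtain ⟨t, ht⟩ := (IsLocalization.eq_iff_exists S' (Localization S')).1 hxs
    have h1 : (t : R) * x = ι (π ((t : R) * s) • v) := by
      rw [← ht, mul_comm (ι v), ← mul_assoc, hmul]
    have h2 := hjk0 _ (Ideal.mul_mem_left _ _ hx) _ h1
    exact (hV _ (t * s).2).1 (h2.trans (smul_zero _).symm)
  let J : Ideal E := Ideal.span (Set.range ιE)
  have hι2 : ∀ v v', ιE v * ιE v' = 0 := fun v v' => by
    change q (ι v) * q (ι v') = 0
    rw [← map_mul, hmul, hπι, zero_smul, map_zero, map_zero]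
  have hJ : J ^ 2 = ⊥ := by
    rw [sq, Ideal.span_mul_span', Ideal.span_eq_bot]
    rintro _ ⟨_, ⟨v, rfl⟩, _, ⟨v', rfl⟩, rfl⟩
    exact hι2 v v'
  have hsmul : ∀ (z : R) (v : V), q z * ιE v = ιE (π z • v) := fun z v => by
    change q z * q (ι v) = q (ι _)
    rw [← map_mul, hmul]
  have hJrange : ∀ x ∈ J, ∃ v, x = ιE v := by
    intro x hx
    induction hx using Submodule.span_induction with
    | mem x hx => obtain ⟨v, rfl⟩ := hx; exact ⟨v, rfl⟩
    | zero => exact ⟨0, (map_zero ιE).symm⟩
    | add x y _ _ hx hy =>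
      obtain ⟨v, rfl⟩ := hx; obtain ⟨w, rfl⟩ := hy; exact ⟨v + w, (map_add ιE v w).symm⟩
    | smul z x _ hx =>
      obtain ⟨v, rfl⟩ := hx
      obtain ⟨z, rfl⟩ := Ideal.Quotient.mk_surjective z
      obtain ⟨⟨r, s⟩, hrs⟩ := IsLocalization.surj S' z
      obtain ⟨v', hv'⟩ := (hV _ s.2).2 (π r • v)
      refine ⟨v', (((IsLocalization.map_units (Localization S') s).map (Ideal.Quotient.mk T))).mul_left_cancel ?_⟩
      change q (s : R) * (Ideal.Quotient.mk T z * ιE v) = q (s : R) * ιE v'
      rw [hsmul, ← mul_assoc, show π (s : R) • v' = π r • v from hv', ← hsmul]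
      congr 1
      change Ideal.Quotient.mk T _ * Ideal.Quotient.mk T z = Ideal.Quotient.mk T (algebraMap _ _ r)
      rw [← map_mul, mul_comm]
      exact congrArg (Ideal.Quotient.mk T) hrs
  let g : B →ₐ[A] E ⧸ J := ((Ideal.Quotient.mkₐ A J).comp q).comp j
  have hgK : ∀ x ∈ RingHom.ker (IsScalarTower.toAlgHom A B C).toRingHom, g x = 0 := by
    intro x hx
    change Ideal.Quotient.mk J (q (j x)) = 0
    rw [Ideal.Quotient.eq_zero_iff_mem, hμ x hx]
    exact Ideal.subset_span ⟨_, rfl⟩
  let g₁ : C →ₐ[A] E ⧸ J := (Ideal.Quotient.liftₐ _ g hgK).comp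
    (Ideal.quotientKerAlgEquivOfSurjective (f := IsScalarTower.toAlgHom A B C) hsurj).symm.toAlgHom
  have hg₁ : ∀ b, g₁ (algebraMap B C b) = g b := by
    intro b
    have : (Ideal.quotientKerAlgEquivOfSurjective (f := IsScalarTower.toAlgHom A B C) hsurj).symm
        (algebraMap B C b) = Ideal.Quotient.mk _ b := by
      rw [AlgEquiv.symm_apply_eq]; rfl
    change Ideal.Quotient.liftₐ _ g hgK ((Ideal.quotientKerAlgEquivOfSurjective
      (f := IsScalarTower.toAlgHom A B C) hsurj).symm (algebraMap B C b)) = g b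
    rw [this]; rfl
  have hu : ∀ y : p.primeCompl, IsUnit (g₁ y) := by
    intro y
    obtain ⟨b, hb⟩ := hsurj y.1
    rw [← hb, hg₁]
    have hbS : j b ∈ S' := by
      change π (j b) ∈ p.primeCompl
      rw [hj, hb]
      exact y.2
    exact ((IsLocalization.map_units (Localization S') (⟨j b, hbS⟩ : S')).map (Ideal.Quotient.mk T)).map
      (Ideal.Quotient.mk J)
  have hu' : ∀ y : p.primeCompl, IsUnit (g₁.toRingHom y) := hu
  let ψ : Localization.AtPrime p →ₐ[A] E ⧸ J :=
    { IsLocalization.lift (S := Localization.AtPrime p) hu' with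
      commutes' := fun a => by
        change IsLocalization.lift hu' (algebraMap A (Localization.AtPrime p) a) = _
        rw [IsScalarTower.algebraMap_apply A C (Localization.AtPrime p), IsLocalization.lift_eq]
        exact g₁.commutes a }
  have hψ : ∀ b, ψ (algebraMap C _ (algebraMap B C b)) = g b := fun b => by
    change IsLocalization.lift hu' (algebraMap C _ (algebraMap B C b)) = g b
    rw [IsLocalization.lift_eq]
    exact hg₁ b
  have hkill : IsLocalRing.maximalIdeal (Localization.AtPrime p) ^ k ≤ RingHom.ker ψ := by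
    have hpk : p ^ k = (P ^ k).map (algebraMap B C) := by
      rw [Ideal.map_pow, Ideal.map_comap_of_surjective _ hsurj]
    rw [← Localization.AtPrime.map_eq_maximalIdeal, ← Ideal.map_pow, hpk, Ideal.map_le_iff_le_comap,
      Ideal.map_le_iff_le_comap]
    intro b hb
    rw [Ideal.mem_comap, Ideal.mem_comap, RingHom.mem_ker, hψ]
    change Ideal.Quotient.mk J (Ideal.Quotient.mk T (algebraMap R _ (j b))) = 0
    rw [Ideal.Quotient.eq_zero_iff_mem.2 (Ideal.mem_map_of_mem _ (Ideal.mem_map_of_mem j hb)), map_zero]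
  obtain ⟨σ, hσ⟩ := hadic E J hJ ψ ⟨k, fun x hx => RingHom.mem_ker.1 (hkill hx)⟩
  let ιB : B →ₐ[A] E := q.comp j
  let σB : B →ₐ[A] E :=
    σ.comp ((IsScalarTower.toAlgHom A C (Localization.AtPrime p)).comp (IsScalarTower.toAlgHom A B C))
  have hd : ∀ b, ∃ v, ιE v = ιB b - σB b := fun b => by
    obtain ⟨v, hv⟩ := hJrange (ιB b - σB b) (Ideal.Quotient.eq.1 ((hψ b).symm.trans
      (AlgHom.congr_fun hσ _).symm))
    exact ⟨v, hv.symm⟩
  choose d hd using hd
  have hsmul' : ∀ (b : B) (v : V), ιE (b • v) = ιB b * ιE v := fun b v => by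
    rw [show ιB b = q (j b) from rfl, hsmul, hj, IsScalarTower.algebraMap_smul]
  refine ⟨Derivation.mk'
    { toFun := d
      map_add' := fun a b => hιE (by rw [map_add, hd, hd, hd, map_add, map_add]; ring)
      map_smul' := fun a b => hιE (by
        rw [RingHom.id_apply, ← IsScalarTower.algebraMap_smul B a (d b), hsmul', hd, hd, Algebra.smul_def a b,
          map_mul, map_mul, AlgHom.commutes, AlgHom.commutes]
        ring) }
    (fun a b => hιE (by
      show ιE (d (a * b)) = ιE (a • d b + b • d a)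
      rw [map_add, hsmul', hsmul', hd, hd, hd, map_mul, map_mul]
      have h0 : (ιB a - σB a) * (ιB b - σB b) = 0 := by rw [← hd, ← hd]; exact hι2 _ _
      linear_combination (-h0))), fun x hx => hιE ?_⟩
  change ιE (d x) = q (ι _)
  rw [hd, show σB x = σ (algebraMap C _ (algebraMap B C x)) from rfl, RingHom.mem_ker.1 hx, map_zero,
    map_zero, sub_zero, ← hμ x hx]
  rfl

theorem injective_of_isAdicFormallySmooth [IsNoetherianRing B] (hsurj : Function.Surjective (algebraMap B C))
    (p : Ideal C) [p.IsPrime]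
    (hadic : CAlgX.IsAdicFormallySmooth A (Localization.AtPrime p)
      (IsLocalRing.maximalIdeal (Localization.AtPrime p))) :
    Function.Injective ((kerCotangentToTensor A B C).lTensor p.ResidueField) := by
  let M := (RingHom.ker (algebraMap B C)).Cotangent
  let κ := p.ResidueField
  have hne : ∀ s ∈ p.primeCompl, algebraMap C κ s ≠ 0 := fun s hs h0 =>
    hs (Ideal.algebraMap_residueField_eq_zero.mp h0)
  have hV : ∀ s ∈ p.primeCompl, Function.Bijective fun v : κ ⊗[B] M => s • v := by
    intro s hs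
    have : (fun v : κ ⊗[B] M => s • v) = fun v => algebraMap C κ s • v :=
      funext fun v => (IsScalarTower.algebraMap_smul κ s v).symm
    rw [this]
    exact ⟨smul_right_injective _ (hne s hs), fun v =>
      ⟨(algebraMap C κ s)⁻¹ • v, smul_inv_smul₀ (hne s hs) v⟩⟩
  obtain ⟨d, hd⟩ := exists_derivation hsurj p hadic (κ ⊗[B] M) hV (fun c hc v => by
    rw [← IsScalarTower.algebraMap_smul κ c v, Ideal.algebraMap_residueField_eq_zero.mpr hc, zero_smul])
    (TensorProduct.mk B κ M 1)
  let w : C ⊗[B] Ω[B⁄A] →ₗ[B] κ ⊗[B] M := (d.liftKaehlerDifferential.liftBaseChange C).restrictScalars B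
  refine Function.Injective.of_comp (f := w.liftBaseChange κ) (Function.LeftInverse.injective (g := id) fun z => ?_)
  show w.liftBaseChange κ ((kerCotangentToTensor A B C).lTensor κ z) = z
  induction z with
  | zero => simp
  | add x y hx hy => rw [map_add, map_add, hx, hy]
  | tmul c m =>
    obtain ⟨⟨x, hx⟩, rfl⟩ := (RingHom.ker (algebraMap B C)).toCotangent_surjective m
    rw [LinearMap.lTensor_tmul, LinearMap.liftBaseChange_tmul, kerCotangentToTensor_toCotangent]
    simp only [w, LinearMap.restrictScalars_apply, LinearMap.liftBaseChange_tmul, one_smul,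
      Derivation.liftKaehlerDifferential_comp_D, hd x hx]
    change c • ((1 : κ) ⊗ₜ[B] _) = _
    rw [TensorProduct.smul_tmul', smul_eq_mul, mul_one]

end Groth.Agent.EGA4Alg4.JacAdic13
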