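import Mathlib
import Groth.Agent.EGA4Alg4.GeomRegFS
import Groth.Agent.EGA4Alg4.JacAdic
import Groth.Agent.EGA4Alg4.RegCompletion
import Groth.Agent.S2463
import Groth.Agent.S4577

/-!
# Formal smoothness of finite type algebras over a separable extension
-/

set_option autoImplicit false

universe u

open TensorProduct IsLocalRing KaehlerDifferential

namespace Groth.Agent.EGA4Alg4.SepFT13

variable {k₀ k C : Type u} [Field k₀] [Field k] [Algebra k₀ k] [Algebra.FormallySmooth k₀ k] [CommRing C]
  [Algebra k C] [Algebra k₀ C] [IsScalarTower k₀ k C] [Algebra.FiniteType k C]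

include k

omit [Algebra.FormallySmooth k₀ k] [Algebra k₀ C] [IsScalarTower k₀ k C] in
theorem isNoetherianRing : IsNoetherianRing C := Algebra.FiniteType.isNoetherianRing k C

theorem isAdic_iff (p : Ideal C) [p.IsPrime] :
    (CAlgX.IsAdicFormallySmooth k₀ (Localization.AtPrime p) (maximalIdeal (Localization.AtPrime p)) ↔
      Algebra.FormallySmooth k₀ (Localization.AtPrime p)) ∧
    (Algebra.FormallySmooth k₀ (Localization.AtPrime p) ↔
      ∃ f : C, f ∉ p ∧ Algebra.FormallySmooth k₀ (Localization.Away f)) ∧
    (CAlgX.IsAdicFormallySmooth k₀ (Localization.AtPrime p) (maximalIdeal (Localization.AtPrime p)) ↔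
      CAlg.IsGeometricallyRegular k₀ (Localization.AtPrime p)) := by
  obtain ⟨n, φ, hφ⟩ := Algebra.FiniteType.iff_quotient_mvPolynomial''.1 ‹Algebra.FiniteType k C›
  letI : Algebra (MvPolynomial (Fin n) k) C := φ.toRingHom.toAlgebra
  haveI : IsScalarTower k₀ (MvPolynomial (Fin n) k) C := IsScalarTower.of_algebraMap_eq fun x => by
    change algebraMap k₀ C x = φ (algebraMap k₀ (MvPolynomial (Fin n) k) x)
    rw [IsScalarTower.algebraMap_apply k₀ k (MvPolynomial (Fin n) k), AlgHom.commutes,
      ← IsScalarTower.algebraMap_apply]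
  haveI : Algebra.FormallySmooth k₀ (MvPolynomial (Fin n) k) :=
    Algebra.FormallySmooth.comp k₀ k (MvPolynomial (Fin n) k)
  haveI : Module.Finite (MvPolynomial (Fin n) k)
      (RingHom.ker (algebraMap (MvPolynomial (Fin n) k) C)).Cotangent :=
    Module.Finite.of_surjective _ (Ideal.toCotangent_surjective _)
  have h := Groth.Agent.S2463.result (A := k₀) (B := MvPolynomial (Fin n) k) hφ p
  refine ⟨⟨fun ha => ?_, fun hs => @JacAdic13.exists_lift_of_formallySmooth _ _ _ _ _ hs _⟩, h.out 0 2, ?_⟩
  · exact (h.out 0 1).2 (JacAdic13.injective_of_isAdicFormallySmooth (A := k₀) (B := MvPolynomial (Fin n) k) hφ p ha)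
  · haveI := isNoetherianRing (k := k) (C := C)
    haveI : IsNoetherianRing (Localization.AtPrime p) := IsLocalization.isNoetherianRing p.primeCompl _ inferInstance
    exact GeomFS13.isAdicFormallySmooth_iff_isGeometricallyRegular

theorem formallySmooth_iff_forall_maximal :
    Algebra.FormallySmooth k₀ C ↔
      ∀ (m : Ideal C) [m.IsMaximal], Algebra.FormallySmooth k₀ (Localization.AtPrime m) := by
  obtain ⟨n, φ, hφ⟩ := Algebra.FiniteType.iff_quotient_mvPolynomial''.1 ‹Algebra.FiniteType k C›
  letI : Algebra (MvPolynomial (Fin n) k) C := φ.toRingHom.toAlgebra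
  haveI : IsScalarTower k₀ (MvPolynomial (Fin n) k) C := IsScalarTower.of_algebraMap_eq fun x => by
    change algebraMap k₀ C x = φ (algebraMap k₀ (MvPolynomial (Fin n) k) x)
    rw [IsScalarTower.algebraMap_apply k₀ k (MvPolynomial (Fin n) k), AlgHom.commutes,
      ← IsScalarTower.algebraMap_apply]
  haveI : Algebra.FormallySmooth k₀ (MvPolynomial (Fin n) k) :=
    Algebra.FormallySmooth.comp k₀ k (MvPolynomial (Fin n) k)
  haveI : Module.Finite (MvPolynomial (Fin n) k)
      (RingHom.ker (algebraMap (MvPolynomial (Fin n) k) C)).Cotangent :=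
    Module.Finite.of_surjective _ (Ideal.toCotangent_surjective _)
  exact Groth.Agent.S4577.result (A := k₀) (B := MvPolynomial (Fin n) k) hφ

theorem isGeometricallyRegular_of_formallySmooth [Algebra.FormallySmooth k₀ C] :
    CAlg.IsGeometricallyRegular k₀ C := by
  intro k' _ _ hfin
  haveI := isNoetherianRing (k := k) (C := C)
  haveI : IsNoetherianRing (k' ⊗[k₀] C) := by
    letI : Algebra C (k' ⊗[k₀] C) := Algebra.TensorProduct.rightAlgebra
    haveI : Module.Finite C (C ⊗[k₀] k') := inferInstance
    let e : C ⊗[k₀] k' ≃ₗ[C] k' ⊗[k₀] C :=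
      { __ := (Algebra.TensorProduct.comm k₀ C k').toAddEquiv
        map_smul' := fun a z => by
          show Algebra.TensorProduct.comm k₀ C k' (a • z) =
            algebraMap C (k' ⊗[k₀] C) a * Algebra.TensorProduct.comm k₀ C k' z
          rw [Algebra.smul_def, map_mul]
          rfl }
    haveI : Module.Finite C (k' ⊗[k₀] C) := Module.Finite.equiv e
    exact IsNoetherianRing.of_finite C _
  refine RegCompletion13.isRegularRing_of_isMaximal fun M _ => ?_
  haveI : Algebra.FormallySmooth (k' ⊗[k₀] C) (Localization.AtPrime M) :=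
    Algebra.FormallySmooth.of_isLocalization M.primeCompl
  haveI : Algebra.FormallySmooth k' (Localization.AtPrime M) :=
    Algebra.FormallySmooth.comp k' (k' ⊗[k₀] C) (Localization.AtPrime M)
  haveI : IsNoetherianRing (Localization.AtPrime M) := IsLocalization.isNoetherianRing M.primeCompl _ inferInstance
  exact (Cohen12.regular_of_formallySmooth_field (k := k')
    (JacAdic13.exists_lift_of_formallySmooth (maximalIdeal (Localization.AtPrime M)))).1

theorem tfae_global :
    [Algebra.FormallySmooth k₀ C,
     ∀ (p : Ideal C) [p.IsPrime], Algebra.FormallySmooth k₀ (Localization.AtPrime p),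
     ∀ (m : Ideal C) [m.IsMaximal], Algebra.FormallySmooth k₀ (Localization.AtPrime m),
     CAlg.IsGeometricallyRegular k₀ C].TFAE := by
  tfae_have 1 → 2 := fun h p _ => by
    haveI : Algebra.FormallySmooth C (Localization.AtPrime p) := Algebra.FormallySmooth.of_isLocalization p.primeCompl
    exact Algebra.FormallySmooth.comp k₀ C (Localization.AtPrime p)
  tfae_have 2 → 3 := fun h m _ => h m
  tfae_have 3 → 1 := (formallySmooth_iff_forall_maximal (k := k)).2
  tfae_have 1 → 4 := fun h => isGeometricallyRegular_of_formallySmooth (k := k)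
  tfae_have 4 → 2 := fun h p _ => by
    haveI := isNoetherianRing (k := k) (C := C)
    obtain ⟨h1, -, h2⟩ := isAdic_iff (k₀ := k₀) (k := k) p
    exact h1.1 (h2.2 (GeomFS13.isGeometricallyRegular_localization p.primeCompl h))
  tfae_finish

end Groth.Agent.EGA4Alg4.SepFT13
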