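import Groth.Agent.Cohen12.RadicialQuotient
import Groth.Agent.CotT85.Regular

/-!
# Embedding dimension of radicial extensions of Artinian rings with square zero maximal ideal

For `A` local of characteristic `p` with `𝔪² = 0`, the local ring `R` of `A[T₁, …, T_r]` at a maximal
ideal over `𝔪` has embedding dimension `dim 𝔪 + r`; dividing by `Tᵢᵖ - fᵢ` drops it by the rank of
their images in the cotangent space.
-/

set_option autoImplicit false
set_option maxHeartbeats 400000

universe u

open IsLocalRing TensorProduct KaehlerDifferential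

namespace Groth.Agent.EGA4Alg4.ArtinRadicial13

/-- The embedding dimension drops by the rank of the images of the generators of the kernel. -/
theorem finrank_cotangent_add_span {R Q : Type u} [CommRing R] [IsLocalRing R] [IsNoetherianRing R]
    [CommRing Q] [IsLocalRing Q] [IsNoetherianRing Q] (φ : R →+* Q) (hφ : Function.Surjective φ)
    {ι : Type} (x : ι → maximalIdeal R)
    (hker : RingHom.ker φ = Ideal.span (Set.range fun i => (x i : R))) :
    Module.finrank (ResidueField Q) (CotangentSpace Q) +
        Module.finrank (ResidueField R)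
          (Submodule.span (ResidueField R) (Set.range fun i => (maximalIdeal R).toCotangent (x i))) =
      Module.finrank (ResidueField R) (CotangentSpace R) := by
  classical
  rw [← spanFinrank_maximalIdeal_eq_finrank_cotangentSpace (R := Q)]
  set W := Submodule.span (ResidueField R) (Set.range fun i => (maximalIdeal R).toCotangent (x i))
  have hmQ : (maximalIdeal R).map φ = maximalIdeal Q := IsLocalRing.map_maximalIdeal_of_surjective φ hφ
  rw [← Submodule.finrank_quotient_add_finrank W]
  congr 1
  refine le_antisymm ?_ ?_
  · let b := Module.finBasis (ResidueField R) (CotangentSpace R ⧸ W)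
    choose y hy using fun i => (W.mkQ_surjective.comp (maximalIdeal R).toCotangent_surjective) (b i)
    have hsp : Ideal.span (Subtype.val '' (Set.range x ∪ Set.range y)) = maximalIdeal R := by
      rw [span_eq_maximalIdeal_iff, Set.image_union, Submodule.span_union, ← Set.range_comp,
        ← Set.range_comp]
      have : (Submodule.span (ResidueField R)
          (Set.range ((maximalIdeal R).toCotangent ∘ y))).map W.mkQ = ⊤ := by
        rw [Submodule.map_span, ← Set.range_comp]
        rw [show (W.mkQ ∘ ((maximalIdeal R).toCotangent ∘ y)) = b from funext hy]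
        exact b.span_eq
      exact Submodule.map_mkQ_eq_top W _ |>.mp this
    have hQ : maximalIdeal Q = Submodule.span Q
        ((Finset.univ.image fun i => φ (y i) : Finset Q) : Set Q) := by
      refine hmQ.symm.trans ((congrArg (Ideal.map φ) hsp.symm).trans ?_)
      rw [Ideal.map_span, Set.image_union, Set.image_union, Ideal.span_union]
      have h0 : Ideal.span (φ '' (Subtype.val '' Set.range x)) = ⊥ := by
        rw [Ideal.span_eq_bot]
        rintro _ ⟨_, ⟨_, ⟨i, rfl⟩, rfl⟩, rfl⟩
        exact RingHom.mem_ker.mp (hker.ge (Ideal.subset_span ⟨i, rfl⟩))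
      rw [h0, bot_sup_eq, Finset.coe_image, Finset.coe_univ, Set.image_univ, ← Set.range_comp,
        ← Set.range_comp]
      rfl
    rw [hQ]
    exact (Submodule.spanFinrank_span_le_ncard_of_finite (Finset.finite_toSet _)).trans
      (by rw [Set.ncard_coe_finset]; exact Finset.card_image_le.trans (by simp))
  · obtain ⟨S, hcard, hS⟩ := Submodule.FG.exists_span_finset_card_eq_spanFinrank
      (maximalIdeal Q).fg_of_isNoetherianRing
    have hlift : ∀ q : S, ∃ a : maximalIdeal R, φ a = q := fun q => by
      have : (q : Q) ∈ maximalIdeal Q := hS ▸ Submodule.subset_span q.2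
      rw [← hmQ, Ideal.mem_map_iff_of_surjective φ hφ] at this
      obtain ⟨a, ha, haq⟩ := this
      exact ⟨⟨a, ha⟩, haq⟩
    choose z hz using hlift
    have hsp : Ideal.span (Subtype.val '' (Set.range x ∪ Set.range z)) = maximalIdeal R := by
      refine le_antisymm (Ideal.span_le.mpr ?_) fun a ha => ?_
      · rintro _ ⟨a, -, rfl⟩
        exact a.2
      · have h0 : φ a ∈ (Ideal.span (Subtype.val '' Set.range z)).map φ := by
          rw [Ideal.map_span]
          have : φ a ∈ maximalIdeal Q := hmQ ▸ Ideal.mem_map_of_mem φ ha
          rw [← hS] at this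
          refine Submodule.span_mono ?_ this
          intro q hq
          exact ⟨_, ⟨_, ⟨⟨q, hq⟩, rfl⟩, rfl⟩, hz _⟩
        obtain ⟨b, hb, hbe⟩ := (Ideal.mem_map_iff_of_surjective φ hφ).mp h0
        rw [Set.image_union, Ideal.span_union, ← Set.range_comp]
        refine Submodule.mem_sup.mpr ⟨a - b, ?_, b, hb, sub_add_cancel a b⟩
        rw [show Ideal.span (Set.range (Subtype.val ∘ x)) = RingHom.ker φ from hker.symm,
          RingHom.mem_ker, map_sub, hbe, sub_self]
    rw [span_eq_maximalIdeal_iff, Set.image_union, Submodule.span_union, ← Set.range_comp,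
      ← Set.range_comp] at hsp
    have htop : (Submodule.span (ResidueField R)
        (Set.range ((maximalIdeal R).toCotangent ∘ z))).map W.mkQ = ⊤ :=
      (Submodule.map_mkQ_eq_top W _).mpr hsp
    rw [Submodule.map_span, ← Set.range_comp] at htop
    rw [← finrank_top (ResidueField R) (CotangentSpace R ⧸ W), ← htop, ← hcard]
    exact (finrank_range_le_card _).trans (Fintype.card_coe S).le

/-- The local ring map of a surjection at a prime containing its kernel. -/
theorem surjective_ker_localRingHom {P B : Type u} [CommRing P] [CommRing B] (f : P →+* B)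
    (hf : Function.Surjective f) (m : Ideal B) [m.IsPrime] (M : Ideal P) [M.IsPrime] (h : M = m.comap f) :
    Function.Surjective (Localization.localRingHom M m f h) ∧
      RingHom.ker (Localization.localRingHom M m f h) =
        (RingHom.ker f).map (algebraMap P (Localization.AtPrime M)) := by
  subst h
  exact CotT85.localRingHom_surjective_ker f hf m

variable {A : Type u} [CommRing A] [IsLocalRing A]

/-- Elements of `A` independent at the closed point stay independent in the cotangent space of a
point of `A[T]` over the closed point. -/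
theorem linearIndependent_toCotangent_of_differentials {p : ℕ} [CharP (ResidueField A) p] {r n : ℕ}
    {R : Type u} [CommRing R] [IsLocalRing R] [Algebra (MvPolynomial (Fin r) A) R] [Algebra A R]
    [IsScalarTower A (MvPolynomial (Fin r) A) R] [IsLocalHom (algebraMap A R)]
    (S : Submonoid (MvPolynomial (Fin r) A)) [IsLocalization S R] (hp : (p : A) ∈ maximalIdeal A ^ 2)
    (a : Fin n → A) (x : Fin n → maximalIdeal R) (hx : ∀ i, (x i : R) = algebraMap A R (a i))
    (h : LinearIndependent (ResidueField A) (fun i => (1 : ResidueField A) ⊗ₜ[A] D ℤ A (a i))) :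
    LinearIndependent (ResidueField R) (fun i => (maximalIdeal R).toCotangent (x i)) := by
  let P := MvPolynomial (Fin r) A
  let L := ResidueField R
  let : Algebra (ResidueField A) L := (ResidueField.map (algebraMap A R)).toAlgebra
  have : IsScalarTower A (ResidueField A) L := IsScalarTower.of_algebraMap_eq fun _ => rfl
  have : CharP L p := charP_of_injective_ringHom (algebraMap (ResidueField A) L).injective p
  have hpR : (p : R) ∈ maximalIdeal R ^ 2 := by
    rw [← map_natCast (algebraMap A R)]
    have h2 := Ideal.mem_map_of_mem (algebraMap A R) hp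
    rw [Ideal.map_pow] at h2
    refine Ideal.pow_right_mono ?_ 2 h2
    exact ((local_hom_TFAE (algebraMap A R)).out 0 2).mp ‹IsLocalHom (algebraMap A R)›
  rw [Cohen12.linearIndependent_toCotangent_iff p hpR x]
  obtain ⟨δR, hδmul, hδC⟩ := Cohen12.exists_derivation_extension (R := R) S (algebraMap R L)
    (algebraMap A L)
    (fun c => by
      rw [← MvPolynomial.algebraMap_eq, ← IsScalarTower.algebraMap_apply A P R,
        ← IsScalarTower.algebraMap_apply A R L])
    (AddMonoidHom.mk' (fun c => (1 : L) ⊗ₜ[A] D ℤ A c) fun a b => by rw [map_add, TensorProduct.tmul_add])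
    (fun a b => by
      show (1 : L) ⊗ₜ[A] D ℤ A (a * b) = _
      rw [Derivation.leibniz, TensorProduct.tmul_add, TensorProduct.tmul_smul, TensorProduct.tmul_smul,
        algebraMap_smul, algebraMap_smul]
      rfl)
  let dD : Derivation ℤ R (L ⊗[A] Ω[A⁄ℤ]) := Derivation.mk' δR.toIntLinearMap fun a b => by
    show δR (a * b) = a • δR b + b • δR a
    rw [hδmul, algebraMap_smul, algebraMap_smul]
  let ν : L ⊗[R] Ω[R⁄ℤ] →ₗ[L] L ⊗[A] Ω[A⁄ℤ] := dD.liftKaehlerDifferential.liftBaseChange L
  have hν : ∀ i, ν ((1 : L) ⊗ₜ[R] D ℤ R (x i : R)) = (1 : L) ⊗ₜ[A] D ℤ A (a i) := fun i => by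
    simp only [ν, LinearMap.liftBaseChange_tmul, one_smul, Derivation.liftKaehlerDifferential_comp_D]
    show δR (x i : R) = _
    rw [hx, IsScalarTower.algebraMap_apply A P R]
    exact hδC (a i)
  refine LinearIndependent.of_comp ν ?_
  rw [show (ν ∘ fun i => (1 : L) ⊗ₜ[R] D ℤ R (x i : R)) = fun i => (1 : L) ⊗ₜ[A] D ℤ A (a i) from
    funext hν]
  exact (Cohen12.linearIndependent_one_tmul_iff (L := L) fun i => D ℤ A (a i)).mp h

variable [IsArtinianRing A]

/-- `edim A[T]_M = edim A + r` for `M` maximal over the maximal ideal. -/
theorem finrank_cotangent_mvPolynomial {p : ℕ} [CharP (ResidueField A) p]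
    (hp : (p : A) ∈ maximalIdeal A ^ 2) {r : ℕ} (M : Ideal (MvPolynomial (Fin r) A)) [M.IsMaximal]
    (hMA : M.comap (algebraMap A (MvPolynomial (Fin r) A)) = maximalIdeal A) :
    Module.finrank (ResidueField (Localization.AtPrime M)) (CotangentSpace (Localization.AtPrime M)) =
      Module.finrank (ResidueField A) (CotangentSpace A) + r := by
  classical
  let P := MvPolynomial (Fin r) A
  let K := ResidueField A
  let R := Localization.AtPrime M
  let π : P →+* MvPolynomial (Fin r) K := MvPolynomial.map (residue A)
  have hπ : Function.Surjective π := MvPolynomial.map_surjective _ residue_surjective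
  have hkerπ : RingHom.ker π = (maximalIdeal A).map (MvPolynomial.C : A →+* P) := by
    simp only [π, P, MvPolynomial.ker_map]
    rw [show RingHom.ker (residue A) = maximalIdeal A from ker_residue]
  have hle : RingHom.ker π ≤ M := hkerπ.le.trans (Ideal.map_le_iff_le_comap.mpr hMA.ge)
  let Mb := M.map π
  have : Mb.IsMaximal := Ideal.IsMaximal.map_of_surjective_of_ker_le hπ hle
  have hM : M = Mb.comap π := by
    rw [Ideal.comap_map_of_surjective π hπ, ← RingHom.ker_eq_comap_bot, sup_eq_left.mpr hle]
  obtain ⟨hφ, hkerφ⟩ := surjective_ker_localRingHom π hπ Mb M hM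
  let Q := Localization.AtPrime Mb
  have : IsRegularLocalRing Q := IsRegularRing.isRegularLocalRing_localization Mb
  have hQ : Module.finrank (ResidueField Q) (CotangentSpace Q) = r := by
    have h1 := (IsRegularLocalRing.iff_finrank_cotangentSpace Q).mp inferInstance
    rw [IsLocalization.AtPrime.ringKrullDim_eq_height Mb Q,
      E4O.height_maximal_eq K (MvPolynomial (Fin r) K) Mb, MvPolynomial.trdeg_of_isDomain] at h1
    simpa using h1
  have hloc : IsLocalHom (algebraMap A R) :=
    ((local_hom_TFAE (algebraMap A R)).out 2 0).mp (by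
      rw [IsScalarTower.algebraMap_eq A P R, ← Ideal.map_map,
        ← IsLocalization.AtPrime.map_eq_maximalIdeal M R]
      exact Ideal.map_mono (Ideal.map_le_iff_le_comap.mpr hMA.ge))
  let b := Module.finBasis K (CotangentSpace A)
  choose a ha using fun i => (maximalIdeal A).toCotangent_surjective (b i)
  have hspan : Ideal.span (Set.range fun i => (a i : A)) = maximalIdeal A := by
    have h := (span_eq_maximalIdeal_iff (Set.range a)).mpr (by
      rw [← Set.range_comp, show ((maximalIdeal A).toCotangent ∘ a) = b from funext ha, b.span_eq])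
    rwa [← Set.range_comp] at h
  have hli : LinearIndependent K (fun i => (1 : K) ⊗ₜ[A] D ℤ A (a i : A)) :=
    (Cohen12.linearIndependent_toCotangent_iff p hp a).mp (by
      rw [show (fun i => (maximalIdeal A).toCotangent (a i)) = b from funext ha]
      exact b.linearIndependent)
  let x : Fin (Module.finrank K (CotangentSpace A)) → maximalIdeal R := fun i =>
    ⟨algebraMap A R (a i), map_nonunit (algebraMap A R) _ (a i).2⟩
  have hlx : LinearIndependent (ResidueField R) (fun i => (maximalIdeal R).toCotangent (x i)) :=
    linearIndependent_toCotangent_of_differentials M.primeCompl hp (fun i => (a i : A)) x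
      (fun i => rfl) hli
  have hker : RingHom.ker (Localization.localRingHom M Mb π hM) =
      Ideal.span (Set.range fun i => (x i : R)) := by
    rw [hkerφ, hkerπ, Ideal.map_map]
    refine (congrArg (Ideal.map _) hspan.symm).trans ?_
    rw [Ideal.map_span, ← Set.range_comp]
    rfl
  rw [← finrank_cotangent_add_span _ hφ x hker, hQ, finrank_span_eq_card hlx, Fintype.card_fin,
    add_comm]

/-- The criterion for equality of the embedding dimensions. -/
theorem finrank_cotangent_eq_iff (p : ℕ) [Fact p.Prime] [CharP A p] {r : ℕ} (f : Fin r → A) :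
    ∃ _ : IsLocalRing (MvPolynomial (Fin r) A ⧸ Ideal.span (Set.range (Cohen12.radEq p 0 f))),
      (Module.finrank (ResidueField A) (CotangentSpace A) =
          Module.finrank (ResidueField (MvPolynomial (Fin r) A ⧸ Ideal.span (Set.range (Cohen12.radEq p 0 f))))
            (CotangentSpace (MvPolynomial (Fin r) A ⧸ Ideal.span (Set.range (Cohen12.radEq p 0 f)))) ↔
        LinearIndependent (ResidueField A) (fun i => (1 : ResidueField A) ⊗ₜ[A] D ℤ A (f i))) := by
  classical
  let P := MvPolynomial (Fin r) A
  let F := Cohen12.radEq p 0 f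
  let J : Ideal P := Ideal.span (Set.range F)
  let B := P ⧸ J
  have : CharP (ResidueField A) p := by
    obtain ⟨q, hq⟩ := CharP.exists (ResidueField A)
    have h0 : (p : ResidueField A) = 0 := by rw [← map_natCast (residue A), CharP.cast_eq_zero, map_zero]
    exact (CharP.charP_iff_prime_eq_zero (Fact.out : p.Prime)).mpr h0
  have hp : (p : A) ∈ maximalIdeal A ^ 2 := by
    rw [CharP.cast_eq_zero]
    exact zero_mem _
  have hF : ∀ i, F i = MvPolynomial.X i ^ p - MvPolynomial.C (f i) := fun i => by
    simp [F, Cohen12.radEq]
  have : Algebra.IsIntegral A B := by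
    refine ⟨fun z => ?_⟩
    obtain ⟨z, rfl⟩ := Ideal.Quotient.mk_surjective z
    induction z using MvPolynomial.induction_on with
    | C a => exact isIntegral_algebraMap (R := A) (A := B) (x := a)
    | add x y hx hy => rw [map_add]; exact hx.add hy
    | mul_X x i hx =>
      rw [map_mul]
      refine hx.mul ⟨Polynomial.X ^ p - Polynomial.C (f i),
        Polynomial.monic_X_pow_sub_C _ (Fact.out : p.Prime).ne_zero, ?_⟩
      rw [Polynomial.eval₂_sub, Polynomial.eval₂_X_pow, Polynomial.eval₂_C, ← map_pow,
        show algebraMap A B (f i) = Ideal.Quotient.mk J (MvPolynomial.C (f i)) from rfl, ← map_sub,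
        Ideal.Quotient.eq_zero_iff_mem, ← hF]
      exact Ideal.subset_span ⟨i, rfl⟩
  have hB : IsLocalRing B := Cohen12.radQuotient_local 0 f
  refine ⟨hB, ?_⟩
  let M : Ideal P := (maximalIdeal B).comap (Ideal.Quotient.mk J)
  have hM : M.IsMaximal := Ideal.comap_isMaximal_of_surjective _ Ideal.Quotient.mk_surjective
  have hJM : J ≤ M := fun x hx => by
    rw [Ideal.mem_comap, Ideal.Quotient.eq_zero_iff_mem.mpr hx]
    exact zero_mem _
  have hMA : M.comap (algebraMap A P) = maximalIdeal A :=
    IsLocalRing.eq_maximalIdeal (show ((maximalIdeal B).comap (algebraMap A B)).IsMaximal from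
      Ideal.isMaximal_comap_of_isIntegral_of_isMaximal _)
  let R := Localization.AtPrime M
  have hmax : M.map (algebraMap P R) = maximalIdeal R := IsLocalization.AtPrime.map_eq_maximalIdeal M R
  let x : Fin r → maximalIdeal R := fun i =>
    ⟨algebraMap P R (F i), hmax ▸ Ideal.mem_map_of_mem _ (hJM (Ideal.subset_span ⟨i, rfl⟩))⟩
  have hunit : ∀ y : M.primeCompl, IsUnit (Ideal.Quotient.mk J y) := fun y =>
    IsLocalRing.notMem_maximalIdeal.mp y.2
  let back : R →+* B := IsLocalization.lift hunit
  have hback : ∀ z, back (algebraMap P R z) = Ideal.Quotient.mk J z := IsLocalization.lift_eq hunit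
  have hsurj : Function.Surjective back := fun z => by
    obtain ⟨z, rfl⟩ := Ideal.Quotient.mk_surjective z
    exact ⟨_, hback z⟩
  have hker : RingHom.ker back = Ideal.span (Set.range fun i => (x i : R)) := by
    have hJR : J.map (algebraMap P R) = Ideal.span (Set.range fun i => (x i : R)) := by
      rw [Ideal.map_span, ← Set.range_comp]
      rfl
    rw [← hJR]
    refine le_antisymm (fun z hz => ?_) (Ideal.map_le_iff_le_comap.mpr fun z hz => ?_)
    · obtain ⟨⟨z, s⟩, rfl⟩ := IsLocalization.mk'_surjective M.primeCompl z
      have h0 := congrArg back (IsLocalization.mk'_spec R z s)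
      rw [map_mul, RingHom.mem_ker.mp hz, zero_mul, hback, eq_comm, Ideal.Quotient.eq_zero_iff_mem] at h0
      exact (IsLocalization.mk'_mem_map_algebraMap_iff M.primeCompl R J z s).mpr
        ⟨1, one_mem _, by rwa [one_mul]⟩
    · rw [Ideal.mem_comap, RingHom.mem_ker, hback, Ideal.Quotient.eq_zero_iff_mem]
      exact hz
  have key : Module.finrank (ResidueField (MvPolynomial (Fin r) A ⧸ Ideal.span (Set.range (Cohen12.radEq p 0 f))))
        (CotangentSpace (MvPolynomial (Fin r) A ⧸ Ideal.span (Set.range (Cohen12.radEq p 0 f)))) +
      Module.finrank (ResidueField R)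
        (Submodule.span (ResidueField R) (Set.range fun i => (maximalIdeal R).toCotangent (x i))) =
      Module.finrank (ResidueField R) (CotangentSpace R) := finrank_cotangent_add_span back hsurj x hker
  have hcotR : Module.finrank (ResidueField R) (CotangentSpace R) =
      Module.finrank (ResidueField A) (CotangentSpace A) + r := finrank_cotangent_mvPolynomial hp M hMA
  have hli := Cohen12.linearIndependent_radEq_iff 0 f M hMA hp x fun i => rfl
  rw [← hli, linearIndependent_iff_card_eq_finrank_span, Fintype.card_fin, Set.finrank]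
  constructor <;> intro h
  · omega
  · omega

end Groth.Agent.EGA4Alg4.ArtinRadicial13
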