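import Mathlib
import Groth.Agent.EGA4Alg4.Exal

/-! The characteristic homomorphism of an extension (rows S5820–S5824). -/

set_option autoImplicit false

universe u v w

open TensorProduct

namespace Groth.Agent.EGA4Alg4.Exal13

attribute [local instance] Exal.opModule Exal.isCentralScalar_opModule

open Exal

section CharHom

variable {A : Type u} {B C L : Type v} [CommRing A] [CommRing B] [CommRing C]
    [Algebra A B] [Algebra B C] [Algebra A C] [IsScalarTower A B C]
    [AddCommGroup L] [Module C L] [Module B L] [IsScalarTower B C L]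
    [Module A L] [IsScalarTower A B L] [IsScalarTower A C L]

variable (C) in
/-- The `C`-linear extension `C ⊗_B Ω_{B/A} → L` of a derivation `D : B → L`. -/
noncomputable def derLift (D : Derivation A B L) : C ⊗[B] Ω[B⁄A] →ₗ[C] L :=
  D.liftKaehlerDifferential.liftBaseChange C

theorem derLift_tmul (D : Derivation A B L) (c : C) (ω : Ω[B⁄A]) :
    derLift C D (c ⊗ₜ[B] ω) = c • D.liftKaehlerDifferential ω := rfl

theorem derLift_one_D (D : Derivation A B L) (b : B) :
    derLift C D ((1 : C) ⊗ₜ[B] KaehlerDifferential.D A B b) = D b := by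
  rw [derLift_tmul, one_smul, Derivation.liftKaehlerDifferential_comp_D]

theorem derLift_ofLinear (f : C ⊗[B] Ω[B⁄A] →ₗ[C] L) :
    ∃ D : Derivation A B L, derLift C D = f := by
  let g : Ω[B⁄A] →ₗ[B] L := (f.restrictScalars B).comp (TensorProduct.mk B C Ω[B⁄A] 1)
  refine ⟨KaehlerDifferential.linearMapEquivDerivation A B g, ?_⟩
  have hg : (KaehlerDifferential.linearMapEquivDerivation A B g).liftKaehlerDifferential = g :=
    (KaehlerDifferential.linearMapEquivDerivation A B).symm_apply_apply g
  refine TensorProduct.AlgebraTensorModule.ext fun c ω => ?_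
  rw [derLift_tmul, hg]
  change c • f ((1 : C) ⊗ₜ[B] ω) = _
  rw [← map_smul, TensorProduct.smul_tmul', smul_eq_mul, mul_one]

omit [Module B L] [IsScalarTower B C L] [Module A L] [IsScalarTower A B L] [IsScalarTower A C L] in
theorem map_map_eq (X : Exal.Ext B C L) (ω : Ω[B⁄A]) :
    KaehlerDifferential.map A A (X.CharCarrier A) C (KaehlerDifferential.map A A B (X.CharCarrier A) ω) =
      KaehlerDifferential.map A A B C ω := by
  induction (KaehlerDifferential.span_range_derivation A B).ge (Submodule.mem_top (x := ω)) using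
    Submodule.span_induction with
  | mem x hx =>
    obtain ⟨b, rfl⟩ := hx
    rw [KaehlerDifferential.map_D, KaehlerDifferential.map_D, KaehlerDifferential.map_D,
      ← IsScalarTower.algebraMap_apply]
  | zero => simp
  | add x y _ _ hx hy => simp [hx, hy]
  | smul b x _ hx =>
    rw [LinearMap.map_smul, LinearMap.map_smul (KaehlerDifferential.map A A B C),
      ← IsScalarTower.algebraMap_smul (X.CharCarrier A) b (KaehlerDifferential.map A A B (X.CharCarrier A) x),
      LinearMap.map_smul, hx, IsScalarTower.algebraMap_smul]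

theorem isCharHom_iff {X : Exal.Ext B C L} {D : Derivation A B L}
    (e : X.Equiv (Exal.Ext.ofDerivation (C := C) D))
    (χ : ↥(EGA41.imperfection A B C) →ₗ[C] L) :
    X.IsCharHom A χ ↔ ∀ z : ↥(EGA41.imperfection A B C), χ z = derLift C D (z : C ⊗[B] Ω[B⁄A]) := by
  let φ : X.CharCarrier A → TrivSqZeroExt C L := fun x => e.toAlgEquiv x
  have hφp : ∀ x : X.CharCarrier A, (φ x).fst = algebraMap (X.CharCarrier A) C x := fun x => e.proj_apply x
  letI : Module (X.CharCarrier A) L := Module.compHom L (algebraMap (X.CharCarrier A) C)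
  haveI : IsScalarTower (X.CharCarrier A) C L := ⟨fun x c z => by
    change (x • c) • z = algebraMap (X.CharCarrier A) C x • c • z
    rw [Algebra.smul_def, mul_smul]⟩
  haveI : IsScalarTower A (X.CharCarrier A) L := ⟨fun a x z => by
    rw [← algebraMap_smul C a (x • z), ← algebraMap_smul C x z, ← algebraMap_smul C (a • x) z,
      Algebra.smul_def a x, map_mul, ← IsScalarTower.algebraMap_apply, mul_smul]⟩
  have hφB : ∀ b : B, φ (algebraMap B (X.CharCarrier A) b) =
      TrivSqZeroExt.inl (algebraMap B C b) + TrivSqZeroExt.inr (D b) := fun b => e.toAlgEquiv.commutes b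
  have hmul : ∀ x y : X.CharCarrier A, φ (x * y) = φ x * φ y := fun x y => map_mul e.toAlgEquiv x y
  have hadd : ∀ x y : X.CharCarrier A, φ (x + y) = φ x + φ y := fun x y => map_add e.toAlgEquiv x y
  have hφA : ∀ a : A, (φ (algebraMap A (X.CharCarrier A) a)).snd = 0 := fun a => by
    rw [IsScalarTower.algebraMap_apply A B (X.CharCarrier A), hφB]
    simp
  let δ : Derivation A (X.CharCarrier A) L := Derivation.mk'
    { toFun := fun x => (φ x).snd
      map_add' := fun x y => by rw [hadd, TrivSqZeroExt.snd_add]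
      map_smul' := fun a x => by
        rw [RingHom.id_apply, Algebra.smul_def, hmul, TrivSqZeroExt.snd_mul, op_smul_eq_smul, hφA,
          smul_zero, add_zero, hφp, algebraMap_smul, algebraMap_smul] }
    (fun x y => by
      change (φ (x * y)).snd = x • (φ y).snd + y • (φ x).snd
      rw [hmul, TrivSqZeroExt.snd_mul, op_smul_eq_smul, hφp, hφp, algebraMap_smul, algebraMap_smul])
  let ψ : C ⊗[X.CharCarrier A] Ω[X.CharCarrier A⁄A] →ₗ[C] L :=
    δ.liftKaehlerDifferential.liftBaseChange C
  have hψt : ∀ (c : C) ω, ψ (c ⊗ₜ[X.CharCarrier A] ω) = c • δ.liftKaehlerDifferential ω := fun _ _ => rfl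
  have hψ : ∀ z : L, ψ (X.deltaL A z) = z := by
    intro z
    change ψ ((1 : C) ⊗ₜ[X.CharCarrier A] KaehlerDifferential.D A (X.CharCarrier A) (X.inclC A z)) = z
    rw [hψt, one_smul, Derivation.liftKaehlerDifferential_comp_D]
    change (φ (X.inclC A z)).snd = z
    rw [show φ (X.inclC A z) = TrivSqZeroExt.inr z from e.apply_incl z]
    exact TrivSqZeroExt.snd_inr _ z
  have hg : ∀ (c : C) (ω : Ω[B⁄A]), X.baseChangeToMiddle A (c ⊗ₜ[B] ω) =
      c ⊗ₜ[X.CharCarrier A] KaehlerDifferential.map A A B (X.CharCarrier A) ω := fun _ _ => rfl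
  have hψg : ∀ y, ψ (X.baseChangeToMiddle A y) = derLift C D y := by
    intro y
    induction y with
    | zero => simp
    | tmul c ω =>
      rw [hg, hψt, derLift_tmul]
      congr 1
      induction (KaehlerDifferential.span_range_derivation A B).ge (Submodule.mem_top (x := ω)) using
        Submodule.span_induction with
      | mem x hx =>
        obtain ⟨b, rfl⟩ := hx
        rw [KaehlerDifferential.map_D, Derivation.liftKaehlerDifferential_comp_D,
          Derivation.liftKaehlerDifferential_comp_D]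
        change (φ (algebraMap B (X.CharCarrier A) b)).snd = D b
        rw [hφB]
        simp
      | zero => simp
      | add x y _ _ hx hy => simp [hx, hy]
      | smul b x _ hx =>
        rw [LinearMap.map_smul, LinearMap.map_smul D.liftKaehlerDifferential,
          ← IsScalarTower.algebraMap_smul (X.CharCarrier A) b (KaehlerDifferential.map A A B (X.CharCarrier A) x),
          LinearMap.map_smul, hx, ← algebraMap_smul C (algebraMap B (X.CharCarrier A) b),
          ← IsScalarTower.algebraMap_apply, algebraMap_smul]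
    | add x y hx hy => simp [hx, hy]
  constructor
  · intro h z
    rw [← hψg, ← h z, hψ]
  · intro h z
    have hz : KaehlerDifferential.mapBaseChange A B C (z : C ⊗[B] Ω[B⁄A]) = 0 := z.2
    have hcomp : ∀ y, KaehlerDifferential.mapBaseChange A (X.CharCarrier A) C (X.baseChangeToMiddle A y) =
        KaehlerDifferential.mapBaseChange A B C y := by
      intro y
      induction y with
      | zero => simp
      | tmul c ω => rw [hg, KaehlerDifferential.mapBaseChange_tmul, KaehlerDifferential.mapBaseChange_tmul,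
          map_map_eq]
      | add x y hx hy => simp [hx, hy]
    have hk : X.baseChangeToMiddle A (z : C ⊗[B] Ω[B⁄A]) ∈
        LinearMap.range (KaehlerDifferential.kerCotangentToTensor A (X.CharCarrier A) C) := by
      rw [KaehlerDifferential.range_kerCotangentToTensor A (X.CharCarrier A) C X.isExtension.proj_surjective,
        Submodule.restrictScalars_mem, LinearMap.mem_ker, hcomp, hz]
    obtain ⟨q, hq⟩ := hk
    obtain ⟨⟨x, hx⟩, rfl⟩ := Ideal.toCotangent_surjective _ q
    obtain ⟨l, rfl⟩ := (X.isExtension.exact x).1 hx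
    have hl : X.deltaL A l = X.baseChangeToMiddle A (z : C ⊗[B] Ω[B⁄A]) := hq
    rw [h z, ← hψg, ← hl, hψ]

end CharHom

section Rows

variable {A : Type u} {B C L : Type v} [CommRing A] [CommRing B] [CommRing C]
    [Algebra A B] [Algebra B C] [Algebra A C] [IsScalarTower A B C]
    [AddCommGroup L] [Module C L]

theorem existsUnique_isCharHom (X : Exal.Ext B C L) (hX : X.IsTrivialOver A) :
    ∃! χ : ↥(EGA41.imperfection A B C) →ₗ[C] L, X.IsCharHom A χ := by
  letI : Module B L := Module.compHom L (algebraMap B C)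
  letI : Module A L := Module.compHom L (algebraMap A C)
  haveI : IsScalarTower B C L := IsScalarTower.of_compHom B C L
  haveI : IsScalarTower A C L := IsScalarTower.of_compHom A C L
  haveI : IsScalarTower A B L := IsScalarTower.to₁₂₄ A B C L
  obtain ⟨D, ⟨e⟩⟩ := exists_equiv_ofDerivation X hX
  refine ⟨(derLift C D).comp (EGA41.imperfection A B C).subtype, (isCharHom_iff e _).2 fun _ => rfl,
    fun χ hχ => LinearMap.ext fun z => ?_⟩
  exact (isCharHom_iff e χ).1 hχ z

theorem exists_factor (h : Module.Injective C L ∨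
      (∃ s : Ω[C⁄B] →ₗ[C] Ω[C⁄A], ∀ ω : Ω[C⁄B], KaehlerDifferential.map A B C C (s ω) = ω))
    (f : C ⊗[B] Ω[B⁄A] →ₗ[C] L) (hf : ∀ z ∈ EGA41.imperfection A B C, f z = 0) :
    ∃ F : Ω[C⁄A] →ₗ[C] L, F.comp (KaehlerDifferential.mapBaseChange A B C) = f := by
  let μ := KaehlerDifferential.mapBaseChange A B C
  let f' : ↥(LinearMap.range μ) →ₗ[C] L :=
    ((LinearMap.ker μ).liftQ f fun z hz => hf z hz).comp μ.quotKerEquivRange.symm.toLinearMap
  have hf' : ∀ y, f' ⟨μ y, LinearMap.mem_range_self μ y⟩ = f y := by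
    intro y
    change (LinearMap.ker μ).liftQ f (fun z hz => hf z hz) (μ.quotKerEquivRange.symm ⟨μ y, _⟩) = f y
    rw [show μ.quotKerEquivRange.symm ⟨μ y, LinearMap.mem_range_self μ y⟩ = Submodule.Quotient.mk y from
      μ.quotKerEquivRange_symm_apply_image y (LinearMap.mem_range_self μ y)]
    rfl
  rcases h with hI | ⟨s, hs⟩
  · obtain ⟨F, hF⟩ := hI.out (LinearMap.range μ).subtype Subtype.val_injective f'
    exact ⟨F, LinearMap.ext fun y => (hF ⟨μ y, LinearMap.mem_range_self μ y⟩).trans (hf' y)⟩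
  · have hrange : LinearMap.range μ = LinearMap.ker (KaehlerDifferential.map A B C C) :=
      KaehlerDifferential.range_mapBaseChange A B C
    let π : Ω[C⁄A] →ₗ[C] Ω[C⁄A] := LinearMap.id - s.comp (KaehlerDifferential.map A B C C)
    have hπ : ∀ ω, π ω ∈ LinearMap.range μ := fun ω => by
      rw [hrange, LinearMap.mem_ker]
      simp [π, hs]
    refine ⟨f'.comp (π.codRestrict _ hπ), LinearMap.ext fun y => ?_⟩
    have h0 : KaehlerDifferential.map A B C C (μ y) = 0 :=
      (KaehlerDifferential.exact_mapBaseChange_map A B C).apply_apply_eq_zero y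
    refine Eq.trans ?_ (hf' y)
    change f' _ = _
    congr 1
    exact Subtype.ext (by change π (μ y) = μ y; simp [π, h0])

theorem exists_extend (h : Module.Injective C L ∨
      (∃ r : C ⊗[B] Ω[B⁄A] →ₗ[C] ↥(EGA41.imperfection A B C), ∀ z : ↥(EGA41.imperfection A B C), r z = z))
    (χ : ↥(EGA41.imperfection A B C) →ₗ[C] L) :
    ∃ f : C ⊗[B] Ω[B⁄A] →ₗ[C] L, ∀ z : ↥(EGA41.imperfection A B C), f z = χ z := by
  rcases h with hI | ⟨r, hr⟩
  · exact @Module.Injective.out C _ L _ _ hI ↥(EGA41.imperfection A B C) (C ⊗[B] Ω[B⁄A]) _ _ _ _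
      (EGA41.imperfection A B C).subtype Subtype.val_injective χ
  · exact ⟨χ.comp r, fun z => congrArg χ (hr z)⟩

theorem nonempty_equiv_of_isCharHom_eq (h : Module.Injective C L ∨
      (∃ s : Ω[C⁄B] →ₗ[C] Ω[C⁄A], ∀ ω : Ω[C⁄B], KaehlerDifferential.map A B C C (s ω) = ω))
    (X Y : Exal.Ext B C L) (hX : X.IsTrivialOver A) (hY : Y.IsTrivialOver A)
    (χ : ↥(EGA41.imperfection A B C) →ₗ[C] L) (hXχ : X.IsCharHom A χ) (hYχ : Y.IsCharHom A χ) :
    Nonempty (X.Equiv Y) := by
  letI : Module B L := Module.compHom L (algebraMap B C)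
  letI : Module A L := Module.compHom L (algebraMap A C)
  haveI : IsScalarTower B C L := IsScalarTower.of_compHom B C L
  haveI : IsScalarTower A C L := IsScalarTower.of_compHom A C L
  haveI : IsScalarTower A B L := IsScalarTower.to₁₂₄ A B C L
  obtain ⟨D, ⟨eX⟩⟩ := exists_equiv_ofDerivation X hX
  obtain ⟨D', ⟨eY⟩⟩ := exists_equiv_ofDerivation Y hY
  obtain ⟨F, hF⟩ := exists_factor h (derLift C D' - derLift C D) (fun z hz => by
    rw [LinearMap.sub_apply, ← (isCharHom_iff eY χ).1 hYχ ⟨z, hz⟩, ← (isCharHom_iff eX χ).1 hXχ ⟨z, hz⟩,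
      sub_self])
  obtain ⟨e⟩ := nonempty_equiv_ofDerivation (D := D) (D' := D')
    (KaehlerDifferential.linearMapEquivDerivation A C F) (fun b => by
      have h1 := LinearMap.congr_fun hF ((1 : C) ⊗ₜ[B] KaehlerDifferential.D A B b)
      rw [LinearMap.comp_apply, KaehlerDifferential.mapBaseChange_tmul, one_smul, KaehlerDifferential.map_D,
        LinearMap.sub_apply, derLift_one_D, derLift_one_D] at h1
      change D' b = D b + F (KaehlerDifferential.D A C (algebraMap B C b))
      rw [h1]; abel)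
  exact ⟨eX.trans (e.trans eY.symm)⟩

theorem exists_isTrivialOver_isCharHom (h : Module.Injective C L ∨
      (∃ r : C ⊗[B] Ω[B⁄A] →ₗ[C] ↥(EGA41.imperfection A B C), ∀ z : ↥(EGA41.imperfection A B C), r z = z))
    (χ : ↥(EGA41.imperfection A B C) →ₗ[C] L) :
    ∃ X : Exal.Ext B C L, X.IsTrivialOver A ∧ X.IsCharHom A χ := by
  letI : Module B L := Module.compHom L (algebraMap B C)
  letI : Module A L := Module.compHom L (algebraMap A C)
  haveI : IsScalarTower B C L := IsScalarTower.of_compHom B C L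
  haveI : IsScalarTower A C L := IsScalarTower.of_compHom A C L
  haveI : IsScalarTower A B L := IsScalarTower.to₁₂₄ A B C L
  obtain ⟨f, hf⟩ := exists_extend h χ
  obtain ⟨D, rfl⟩ := derLift_ofLinear f
  exact ⟨Exal.Ext.ofDerivation (C := C) D, isTrivialOver_ofDerivation D,
    (isCharHom_iff (Exal.Ext.Equiv.refl _) χ).2 fun z => (hf z).symm⟩

theorem charHom_bijective_of_formallySmooth [Algebra.FormallySmooth A C] [Module.Projective C Ω[C⁄B]] :
    (∀ (X Y : Exal.Ext B C L) (χ : ↥(EGA41.imperfection A B C) →ₗ[C] L),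
        X.IsCharHom A χ → Y.IsCharHom A χ → Nonempty (X.Equiv Y)) ∧
      ∀ χ : ↥(EGA41.imperfection A B C) →ₗ[C] L, ∃ X : Exal.Ext B C L, X.IsCharHom A χ := by
  obtain ⟨s, hs⟩ := Module.projective_lifting_property (KaehlerDifferential.map A B C C) LinearMap.id
    (KaehlerDifferential.map_surjective A B C)
  have hs' : ∀ ω, KaehlerDifferential.map A B C C (s ω) = ω := fun ω => LinearMap.congr_fun hs ω
  refine ⟨fun X Y χ hX hY => nonempty_equiv_of_isCharHom_eq (Or.inr ⟨s, hs'⟩) X Y
    (isTrivial_of_formallySmooth _) (isTrivial_of_formallySmooth _) χ hX hY, fun χ => ?_⟩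
  let μ := KaehlerDifferential.mapBaseChange A B C
  have hrange : LinearMap.range μ = LinearMap.ker (KaehlerDifferential.map A B C C) :=
    KaehlerDifferential.range_mapBaseChange A B C
  let π : Ω[C⁄A] →ₗ[C] Ω[C⁄A] := LinearMap.id - s.comp (KaehlerDifferential.map A B C C)
  have hπ : ∀ ω, π ω ∈ LinearMap.range μ := fun ω => by
    rw [hrange, LinearMap.mem_ker]
    simp [π, hs']
  haveI : Module.Projective C ↥(LinearMap.range μ) :=
    Module.Projective.of_split (LinearMap.range μ).subtype (π.codRestrict _ hπ) (LinearMap.ext fun x => by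
      have h0 : KaehlerDifferential.map A B C C (x : Ω[C⁄A]) = 0 := LinearMap.mem_ker.1 (hrange ▸ x.2)
      exact Subtype.ext (by change π x = x; simp [π, h0]))
  obtain ⟨σ, hσ⟩ := Module.projective_lifting_property μ.rangeRestrict LinearMap.id μ.surjective_rangeRestrict
  let r0 : C ⊗[B] Ω[B⁄A] →ₗ[C] C ⊗[B] Ω[B⁄A] := LinearMap.id - σ.comp μ.rangeRestrict
  have hr0 : ∀ y, r0 y ∈ EGA41.imperfection A B C := fun y => by
    change μ (r0 y) = 0
    have := congrArg Subtype.val (LinearMap.congr_fun hσ (μ.rangeRestrict y))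
    change μ (σ (μ.rangeRestrict y)) = μ y at this
    simp [r0, this]
  obtain ⟨X, -, hX⟩ := exists_isTrivialOver_isCharHom (A := A) (Or.inr ⟨r0.codRestrict _ hr0, fun z => by
    have : μ.rangeRestrict (z : C ⊗[B] Ω[B⁄A]) = 0 := Subtype.ext z.2
    exact Subtype.ext (by change r0 z = z; simp [r0, this])⟩) χ
  exact ⟨X, hX⟩

end Rows

section Infinitesimal

theorem bijective_charHom_infinitesimal {A : Type u} {B : Type v} [CommRing A] [CommRing B] [Algebra A B]
    (K : Ideal B) (hK : (Exal.Ext.infinitesimal K).IsTrivialOver A)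
    (χ : ↥(EGA41.imperfection A B (B ⧸ K)) →ₗ[B ⧸ K] K.Cotangent)
    (hχ : (Exal.Ext.infinitesimal K).IsCharHom A χ) :
    Function.Bijective χ := by
  haveI : IsScalarTower A (B ⧸ K) K.Cotangent := ⟨fun a c z => by
    obtain ⟨b, rfl⟩ := Ideal.Quotient.mk_surjective c
    change Ideal.Quotient.mk K (a • b) • z = a • Ideal.Quotient.mk K b • z
    rw [← Ideal.Quotient.algebraMap_eq, algebraMap_smul, algebraMap_smul, smul_assoc]⟩
  obtain ⟨D, ⟨e⟩⟩ := exists_equiv_ofDerivation (Exal.Ext.infinitesimal K) hK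
  have key := (isCharHom_iff e χ).1 hχ
  have hD : ∀ k : K, D k = K.toCotangent k := by
    intro k
    have h1 : (Exal.Ext.infinitesimal K).incl (K.toCotangent k) =
        algebraMap B (Exal.Ext.infinitesimal K).E (k : B) :=
      Ideal.toCotangent_to_quotient_square K k
    have h2 := congrArg e.toAlgEquiv h1
    rw [e.apply_incl, e.toAlgEquiv.commutes] at h2
    have h3 := congrArg (fun x : TrivSqZeroExt (B ⧸ K) K.Cotangent => x.snd) h2
    change (TrivSqZeroExt.inr (K.toCotangent k) : TrivSqZeroExt (B ⧸ K) K.Cotangent).snd =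
      (TrivSqZeroExt.inl (algebraMap B (B ⧸ K) k) + TrivSqZeroExt.inr (D k) :
        TrivSqZeroExt (B ⧸ K) K.Cotangent).snd at h3
    simpa using h3.symm
  refine ⟨fun a b hab => ?_, fun q => ?_⟩
  · obtain ⟨z, rfl⟩ : ∃ z : ↥(EGA41.imperfection A B (B ⧸ K)), a = b + z := ⟨a - b, (add_sub_cancel b a).symm⟩
    suffices h0 : (z : (B ⧸ K) ⊗[B] Ω[B⁄A]) = 0 by
      rw [show z = 0 from Subtype.ext h0, add_zero]
    have hz : χ z = 0 := by
      rw [key, key, Submodule.coe_add, LinearMap.map_add] at hab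
      rw [key]
      exact add_eq_left.1 hab
    have hr : (z : (B ⧸ K) ⊗[B] Ω[B⁄A]) ∈
        LinearMap.range (KaehlerDifferential.kerCotangentToTensor A B (B ⧸ K)) := by
      rw [KaehlerDifferential.range_kerCotangentToTensor A B (B ⧸ K) Ideal.Quotient.mk_surjective]
      exact z.2
    obtain ⟨q, hq⟩ := hr
    obtain ⟨⟨x, hx⟩, rfl⟩ := Ideal.toCotangent_surjective _ q
    rw [KaehlerDifferential.kerCotangentToTensor_toCotangent] at hq
    rw [key z, ← hq, derLift_one_D] at hz
    have hxK : x ∈ K := by rwa [RingHom.mem_ker, Ideal.Quotient.algebraMap_eq, Ideal.Quotient.eq_zero_iff_mem] at hx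
    rw [show D x = K.toCotangent ⟨x, hxK⟩ from hD ⟨x, hxK⟩] at hz
    have hx2 : x ∈ K ^ 2 := (Ideal.toCotangent_eq_zero K ⟨x, hxK⟩).1 hz
    rw [← hq, ← KaehlerDifferential.kerCotangentToTensor_toCotangent A B (B ⧸ K) ⟨x, hx⟩]
    have : (RingHom.ker (algebraMap B (B ⧸ K))).toCotangent ⟨x, hx⟩ = 0 := by
      rw [Ideal.toCotangent_eq_zero]
      change x ∈ RingHom.ker (algebraMap B (B ⧸ K)) ^ 2
      rwa [Ideal.Quotient.algebraMap_eq, Ideal.mk_ker]
    rw [this, map_zero]
  · obtain ⟨k, rfl⟩ := K.toCotangent_surjective q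
    have hz : ((1 : B ⧸ K) ⊗ₜ[B] KaehlerDifferential.D A B (k : B)) ∈ EGA41.imperfection A B (B ⧸ K) := by
      change KaehlerDifferential.mapBaseChange A B (B ⧸ K) _ = 0
      rw [KaehlerDifferential.mapBaseChange_tmul, one_smul, KaehlerDifferential.map_D,
        Ideal.Quotient.algebraMap_eq, Ideal.Quotient.eq_zero_iff_mem.2 k.2, map_zero]
    exact ⟨⟨_, hz⟩, by rw [key, derLift_one_D, hD]⟩

end Infinitesimal

end Groth.Agent.EGA4Alg4.Exal13
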