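import Mathlib
import Groth.Prelude.Def_CAlgX
import Groth.Agent.FSQuot14.Basic

/-!
# Formal smoothness over an intermediate base, via extension of derivations

For `Λ → A → B` and an ideal `J` of `B`: if `B` is adically formally smooth over `Λ` and `Λ`-derivations of `A`
into `B/J`-modules extend to `B`, then `B` is adically formally smooth over `A`.
-/

set_option autoImplicit false

universe u

open TensorProduct KaehlerDifferential

namespace Groth.Agent.EGA4Alg4.DerExt13

variable {Λ A B : Type u} [CommRing Λ] [CommRing A] [CommRing B] [Algebra Λ A] [Algebra A B] [Algebra Λ B]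
  [IsScalarTower Λ A B]

variable (Λ A) in
/-- `Λ`-derivations of `A` into modules killed by `J` extend to `B`. -/
def ExtJ (J : Ideal B) : Prop :=
  ∀ (V : Type u) [AddCommGroup V] [Module B V] [Module A V] [Module Λ V] [IsScalarTower A B V]
    [IsScalarTower Λ B V] [IsScalarTower Λ A V],
    (∀ b ∈ J, ∀ v : V, b • v = 0) → ∀ δ : Derivation Λ A V,
      ∃ D : Derivation Λ B V, ∀ a, D (algebraMap A B a) = δ a

theorem exists_extension {J : Ideal B} (hB : CAlgX.IsAdicFormallySmooth Λ B J) (hext : ExtJ Λ A J) (n : ℕ) :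
    ∀ (N : Type u) [AddCommGroup N] [Module B N] [Module A N] [Module Λ N] [IsScalarTower A B N]
      [IsScalarTower Λ B N] [IsScalarTower Λ A N],
      (∀ b ∈ J ^ n, ∀ v : N, b • v = 0) → ∀ δ : Derivation Λ A N,
        ∃ D : Derivation Λ B N, ∀ a, D (algebraMap A B a) = δ a := by
  induction n with
  | zero =>
    intro N _ _ _ _ _ _ _ hN δ
    refine ⟨0, fun a => ?_⟩
    have := hN 1 (by simp) (δ a)
    rw [one_smul] at this
    simp [this]
  | succ n ih =>
    intro N _ _ _ _ _ _ _ hN δ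
    let S : Submodule B N := J • ⊤
    have hS : ∀ b ∈ J, ∀ v : N ⧸ S, b • v = 0 := fun b hb v => by
      obtain ⟨v, rfl⟩ := S.mkQ_surjective v
      rw [← map_smul, Submodule.mkQ_apply, Submodule.Quotient.mk_eq_zero]
      exact Submodule.smul_mem_smul hb trivial
    obtain ⟨d', hd'⟩ := hext (N ⧸ S) hS ((S.mkQ.restrictScalars A).compDer δ)
    obtain ⟨d, hd⟩ := FSQuot14.lift_derivation hB _ hN S.mkQ S.mkQ_surjective d'
    have hmem : ∀ a, δ a - d (algebraMap A B a) ∈ S := fun a => by
      rw [← Submodule.Quotient.mk_eq_zero, ← Submodule.mkQ_apply, map_sub, hd, hd']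
      exact sub_self _
    let δ'' : Derivation Λ A N := δ - d.compAlgebraMap A
    let δ' : Derivation Λ A S := Derivation.mk'
      { toFun := fun a => ⟨δ'' a, hmem a⟩
        map_add' := fun a b => Subtype.ext (map_add δ'' a b)
        map_smul' := fun r a => Subtype.ext (δ''.map_smul r a) }
      (fun a b => Subtype.ext (δ''.leibniz a b))
    obtain ⟨e, he⟩ := ih S (fun b hb v => by
        refine Subtype.ext ?_
        rw [SetLike.val_smul, ZeroMemClass.coe_zero]
        refine Submodule.smul_induction_on (p := fun z => b • z = 0) v.2 (fun c hc z _ => ?_)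
          fun z z' hz hz' => by rw [smul_add, hz, hz', add_zero]
        rw [smul_smul]
        exact hN _ (pow_succ J n ▸ Ideal.mul_mem_mul hb hc) z) δ'
    refine ⟨d + S.subtype.compDer e, fun a => ?_⟩
    change d (algebraMap A B a) + ((e (algebraMap A B a) : S) : N) = δ a
    rw [he a]
    exact add_sub_cancel _ _

/-- Descent of adic formal smoothness from `Λ` to `A`. -/
theorem isAdicFormallySmooth_of_extJ {J : Ideal B} (hB : CAlgX.IsAdicFormallySmooth Λ B J)
    (hext : ExtJ Λ A J) : CAlgX.IsAdicFormallySmooth A B J := by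
  intro E _ _ K hK ψ hψ
  obtain ⟨n, hn⟩ := hψ
  letI : Algebra Λ E := ((algebraMap A E).comp (algebraMap Λ A)).toAlgebra
  haveI : IsScalarTower Λ A E := IsScalarTower.of_algebraMap_eq fun _ => rfl
  obtain ⟨χ, hχ⟩ := hB E K hK (ψ.restrictScalars Λ) ⟨n, hn⟩
  letI : Algebra B E := χ.toRingHom.toAlgebra
  haveI : IsScalarTower Λ B E := IsScalarTower.of_algebraMap_eq fun r => (χ.commutes r).symm
  have hmk : ∀ b, Ideal.Quotient.mk K (χ b) = ψ b := AlgHom.congr_fun hχ
  have hKK : ∀ x ∈ K, ∀ y ∈ K, x * y = 0 := fun x hx y hy => (Submodule.mem_bot E).mp (by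
    rw [← hK, pow_two]; exact Ideal.mul_mem_mul hx hy)
  have hmem : ∀ a, algebraMap A E a - χ (algebraMap A B a) ∈ K := fun a => by
    rw [← Ideal.Quotient.eq_zero_iff_mem, map_sub, hmk, AlgHom.commutes]
    exact sub_self _
  haveI : IsScalarTower A B K := IsScalarTower.of_algebraMap_smul fun a v => Subtype.ext (by
    show χ (algebraMap A B a) * (v : E) = a • (v : E)
    rw [Algebra.smul_def, ← sub_eq_zero, ← sub_mul]
    exact hKK _ (by rw [← neg_sub]; exact neg_mem (hmem a)) _ v.2)
  let δ : Derivation Λ A K := Derivation.mk'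
    { toFun := fun a => ⟨algebraMap A E a - χ (algebraMap A B a), hmem a⟩
      map_add' := fun a b => Subtype.ext (by simp only [map_add, Submodule.coe_add]; abel)
      map_smul' := fun r a => Subtype.ext (by
        change algebraMap A E (r • a) - χ (algebraMap A B (r • a)) = r • (algebraMap A E a - χ (algebraMap A B a))
        simp only [Algebra.smul_def, map_mul, ← IsScalarTower.algebraMap_apply, AlgHom.commutes, mul_sub]) }
    (fun a b => Subtype.ext <| by
      change algebraMap A E (a * b) - χ (algebraMap A B (a * b)) =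
        (a • (algebraMap A E b - χ (algebraMap A B b))) + b • (algebraMap A E a - χ (algebraMap A B a))
      rw [Algebra.smul_def, Algebra.smul_def, map_mul, map_mul, map_mul]
      linear_combination -(hKK _ (hmem a) _ (hmem b)))
  obtain ⟨D, hD⟩ := exists_extension hB hext n K
    (fun b hb v => Subtype.ext <|
      hKK (χ b) (by rw [← Ideal.Quotient.eq_zero_iff_mem, hmk]; exact hn b hb) _ v.2) δ
  refine ⟨{ toFun := fun b => χ b + (D b : K)
            map_one' := by rw [map_one, D.map_one_eq_zero, ZeroMemClass.coe_zero, add_zero]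
            map_zero' := by rw [map_zero, map_zero, ZeroMemClass.coe_zero, add_zero]
            map_add' := fun a b => by rw [map_add, map_add, Submodule.coe_add]; abel
            map_mul' := fun a b => by
              rw [map_mul, D.leibniz, Submodule.coe_add]
              change χ a * χ b + (χ a * (D b : K) + χ b * (D a : K)) = _
              linear_combination -(hKK _ (D a).2 _ (D b).2)
            commutes' := fun c => by
              rw [hD]
              change χ (algebraMap A B c) + (algebraMap A E c - χ (algebraMap A B c)) = _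
              exact add_sub_cancel _ _ }, AlgHom.ext fun b => ?_⟩
  change Ideal.Quotient.mk K (χ b + (D b : K)) = ψ b
  rw [map_add, hmk, Ideal.Quotient.eq_zero_iff_mem.2 (D b).2, add_zero]

/-- Adic formal smoothness over `A` gives extension of derivations. -/
theorem extJ_of_isAdicFormallySmooth {J : Ideal B} (h : CAlgX.IsAdicFormallySmooth A B J) : ExtJ Λ A J := by
  intro V _ _ _ _ _ _ _ hV δ
  letI : Module (B ⧸ J) V := Module.IsTorsionBySet.module (fun v a => hV a a.2 v)
  haveI : IsScalarTower B (B ⧸ J) V := Module.IsTorsionBySet.isScalarTower _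
  haveI : IsScalarTower A (B ⧸ J) V := IsScalarTower.of_algebraMap_smul fun a v => by
    rw [IsScalarTower.algebraMap_apply A B (B ⧸ J), algebraMap_smul, algebraMap_smul]
  letI : Module (B ⧸ J)ᵐᵒᵖ V := Module.compHom V ((RingHom.id (B ⧸ J)).fromOpposite mul_comm)
  haveI : IsCentralScalar (B ⧸ J) V := ⟨fun r m => rfl⟩
  let T := TrivSqZeroExt (B ⧸ J) V
  let i : A →+* T :=
    { toFun := fun a => TrivSqZeroExt.inl (algebraMap A (B ⧸ J) a) + TrivSqZeroExt.inr (δ a)
      map_one' := by
        rw [map_one, Derivation.map_one_eq_zero, TrivSqZeroExt.inr_zero, add_zero, TrivSqZeroExt.inl_one]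
      map_zero' := by rw [map_zero, map_zero, TrivSqZeroExt.inr_zero, TrivSqZeroExt.inl_zero, add_zero]
      map_add' := fun a b => by
        rw [map_add, map_add, TrivSqZeroExt.inl_add, TrivSqZeroExt.inr_add, add_add_add_comm]
      map_mul' := fun a b => by
        refine TrivSqZeroExt.ext ?_ ?_
        · change algebraMap A (B ⧸ J) (a * b) + 0 =
            (algebraMap A (B ⧸ J) a + 0) * (algebraMap A (B ⧸ J) b + 0)
          rw [add_zero, add_zero, add_zero, map_mul]
        · change 0 + δ (a * b) = (algebraMap A (B ⧸ J) a + 0) • (0 + δ b) +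
            MulOpposite.op (algebraMap A (B ⧸ J) b + 0) • (0 + δ a)
          rw [op_smul_eq_smul, Derivation.leibniz]
          simp only [add_zero, zero_add, algebraMap_smul] }
  letI : Algebra A T := i.toAlgebra
  let π : T →ₐ[A] B ⧸ J :=
    { TrivSqZeroExt.fstHom (B ⧸ J) (B ⧸ J) V with
      commutes' := fun a => by
        change TrivSqZeroExt.fst (TrivSqZeroExt.inl (algebraMap A (B ⧸ J) a) + TrivSqZeroExt.inr (δ a)) = _
        rw [TrivSqZeroExt.fst_add, TrivSqZeroExt.fst_inl, TrivSqZeroExt.fst_inr, add_zero] }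
  let K : Ideal T := RingHom.ker π
  have hK : K ^ 2 = ⊥ := by
    rw [pow_two, eq_bot_iff, Ideal.mul_le]
    intro x hx y hy
    rw [Ideal.mem_bot]
    have hx' : x.fst = 0 := hx
    have hy' : y.fst = 0 := hy
    refine TrivSqZeroExt.ext ?_ ?_
    · rw [TrivSqZeroExt.fst_mul, hx', zero_mul]; rfl
    · rw [TrivSqZeroExt.snd_mul, hx', hy', zero_smul, MulOpposite.op_zero, zero_smul, add_zero]; rfl
  have hsurj : Function.Surjective π := fun x => ⟨TrivSqZeroExt.inl x, rfl⟩
  let e := Ideal.quotientKerAlgEquivOfSurjective (f := π) hsurj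
  let ψ : B →ₐ[A] T ⧸ K := e.symm.toAlgHom.comp (Ideal.Quotient.mkₐ A J)
  obtain ⟨χ, hχ⟩ := h T K hK ψ ⟨1, fun x hx => by
    rw [pow_one] at hx
    change e.symm (Ideal.Quotient.mk J x) = 0
    rw [Ideal.Quotient.eq_zero_iff_mem.2 hx, map_zero]⟩
  have hfst : ∀ b, (χ b).fst = Ideal.Quotient.mk J b := by
    intro b
    have h1 := congrArg e (AlgHom.congr_fun hχ b)
    rw [show ψ b = e.symm (Ideal.Quotient.mk J b) from rfl, e.apply_symm_apply] at h1
    exact h1
  have hsnd : ∀ a, (χ (algebraMap A B a)).snd = δ a := fun a => by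
    rw [AlgHom.commutes]
    change (TrivSqZeroExt.inl (algebraMap A (B ⧸ J) a) + TrivSqZeroExt.inr (δ a)).snd = δ a
    rw [TrivSqZeroExt.snd_add, TrivSqZeroExt.snd_inl, TrivSqZeroExt.snd_inr, zero_add]
  have hmul : ∀ a b : B, (χ (a * b)).snd = a • (χ b).snd + b • (χ a).snd := fun a b => by
    rw [map_mul, TrivSqZeroExt.snd_mul, hfst, hfst, op_smul_eq_smul]
    rfl
  refine ⟨Derivation.mk'
    { toFun := fun b => (χ b).snd
      map_add' := fun a b => by rw [map_add, TrivSqZeroExt.snd_add]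
      map_smul' := fun r b => by
        rw [RingHom.id_apply, Algebra.smul_def r b, hmul, IsScalarTower.algebraMap_apply Λ A B, hsnd,
          Derivation.map_algebraMap, smul_zero, add_zero, ← IsScalarTower.algebraMap_apply, algebraMap_smul] }
    hmul, fun a => hsnd a⟩

variable (Λ A) in
/-- `C ⊗ Ω_{A/Λ} → C ⊗ Ω_{B/Λ}` as a `C`-linear map. -/
noncomputable abbrev cotMap (J : Ideal B) :
    (B ⧸ J) ⊗[B] (B ⊗[A] Ω[A⁄Λ]) →ₗ[B ⧸ J] (B ⧸ J) ⊗[B] Ω[B⁄Λ] :=
  (mapBaseChange Λ A B).baseChange (B ⧸ J)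

/-- Injectivity and projectivity of the relative differentials give extension of derivations. -/
theorem extJ_of_injective_projective (J : Ideal B)
    (hinj : Function.Injective ((mapBaseChange Λ A B).lTensor (B ⧸ J)))
    (hproj : Module.Projective (B ⧸ J) ((B ⧸ J) ⊗[B] Ω[B⁄A])) : ExtJ Λ A J := by
  intro V _ _ _ _ _ _ _ hV δ
  letI : Module (B ⧸ J) V := Module.IsTorsionBySet.module (fun v a => hV a a.2 v)
  haveI : IsScalarTower B (B ⧸ J) V := Module.IsTorsionBySet.isScalarTower _
  let f := cotMap Λ A J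
  let π : (B ⧸ J) ⊗[B] Ω[B⁄Λ] →ₗ[B ⧸ J] (B ⧸ J) ⊗[B] Ω[B⁄A] :=
    (KaehlerDifferential.map Λ A B B).baseChange (B ⧸ J)
  have hπ : Function.Surjective π :=
    LinearMap.lTensor_surjective (B ⧸ J) (map_surjective Λ A B)
  have hex : Function.Exact f π := lTensor_exact (B ⧸ J) (exact_mapBaseChange_map Λ A B) (map_surjective Λ A B)
  obtain ⟨s, hs⟩ := Module.projective_lifting_property π LinearMap.id hπ
  have hmem : ∀ y, (LinearMap.id - s ∘ₗ π : _ →ₗ[B ⧸ J] _) y ∈ LinearMap.range f := fun y => by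
    refine (hex _).mp ?_
    rw [LinearMap.sub_apply, LinearMap.comp_apply, LinearMap.id_apply, map_sub]
    exact sub_eq_zero.mpr (LinearMap.congr_fun hs (π y)).symm
  let g : (B ⧸ J) ⊗[B] Ω[B⁄Λ] →ₗ[B ⧸ J] (B ⧸ J) ⊗[B] (B ⊗[A] Ω[A⁄Λ]) :=
    (LinearEquiv.ofInjective f hinj).symm.toLinearMap ∘ₗ (LinearMap.id - s ∘ₗ π).codRestrict _ hmem
  have hg : ∀ x, g (f x) = x := fun x => by
    simp only [g, LinearMap.comp_apply, LinearEquiv.coe_coe]
    rw [LinearEquiv.symm_apply_eq]
    refine Subtype.ext ?_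
    show f x - s (π (f x)) = f x
    rw [hex.apply_apply_eq_zero x, map_zero, sub_zero]
  let φ : Ω[A⁄Λ] →ₗ[A] V := δ.liftKaehlerDifferential
  let Φ : (B ⧸ J) ⊗[B] (B ⊗[A] Ω[A⁄Λ]) →ₗ[B ⧸ J] V :=
    (φ.liftBaseChange B).liftBaseChange (B ⧸ J)
  let Ψ : Ω[B⁄Λ] →ₗ[B] V :=
    ((Φ ∘ₗ g).restrictScalars B) ∘ₗ TensorProduct.mk B (B ⧸ J) Ω[B⁄Λ] 1
  refine ⟨Ψ.compDer (D Λ B), fun a => ?_⟩
  have hd : D Λ B (algebraMap A B a) = mapBaseChange Λ A B ((1 : B) ⊗ₜ D Λ A a) := by
    rw [mapBaseChange_tmul, one_smul, map_D]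
  change Φ (g ((1 : B ⧸ J) ⊗ₜ[B] D Λ B (algebraMap A B a))) = δ a
  rw [hd, show (1 : B ⧸ J) ⊗ₜ[B] mapBaseChange Λ A B ((1 : B) ⊗ₜ D Λ A a) =
    f ((1 : B ⧸ J) ⊗ₜ[B] ((1 : B) ⊗ₜ D Λ A a)) from rfl, hg]
  simp [Φ, φ]

/-- Extension of derivations gives injectivity. -/
theorem injective_of_extJ (J : Ideal B) (hext : ExtJ Λ A J) :
    Function.Injective ((mapBaseChange Λ A B).lTensor (B ⧸ J)) := by
  let M := (B ⧸ J) ⊗[B] (B ⊗[A] Ω[A⁄Λ])
  let δ : Derivation Λ A M :=
    (((TensorProduct.mk B (B ⧸ J) (B ⊗[A] Ω[A⁄Λ]) 1).restrictScalars A) ∘ₗ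
      TensorProduct.mk A B Ω[A⁄Λ] 1).compDer (D Λ A)
  obtain ⟨E, hE⟩ := hext M (fun b hb v => by
    rw [← algebraMap_smul (B ⧸ J) b v, Ideal.Quotient.algebraMap_eq, Ideal.Quotient.eq_zero_iff_mem.mpr hb,
      zero_smul]) δ
  let g := E.liftKaehlerDifferential.liftBaseChange (B ⧸ J)
  have h : g ∘ₗ cotMap Λ A J = LinearMap.id := by
    apply TensorProduct.AlgebraTensorModule.curry_injective
    apply LinearMap.ext_ring
    apply TensorProduct.AlgebraTensorModule.curry_injective
    apply LinearMap.ext_ring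
    apply Derivation.liftKaehlerDifferential_unique
    ext a
    simpa [g, cotMap, δ] using hE a
  exact Function.LeftInverse.injective (g := g) fun x => LinearMap.congr_fun h x

/-- Adic formal smoothness makes the reduced module of differentials projective. -/
theorem projective_kaehler {J : Ideal B} (h : CAlgX.IsAdicFormallySmooth A B J) :
    Module.Projective (B ⧸ J) ((B ⧸ J) ⊗[B] Ω[B⁄A]) := by
  let M := (B ⧸ J) ⊗[B] Ω[B⁄A]
  let π : (M →₀ B ⧸ J) →ₗ[B ⧸ J] M := Finsupp.linearCombination (B ⧸ J) id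
  let d' : Derivation A B M := (TensorProduct.mk B (B ⧸ J) Ω[B⁄A] 1).compDer (D A B)
  obtain ⟨d, hd⟩ := FSQuot14.lift_derivation h 1 (N := M →₀ B ⧸ J) (fun b hb v => by
    rw [pow_one] at hb
    rw [← algebraMap_smul (B ⧸ J) b v, Ideal.Quotient.algebraMap_eq, Ideal.Quotient.eq_zero_iff_mem.mpr hb,
      zero_smul]) (π.restrictScalars B)
    (fun m => ⟨Finsupp.single m 1, by simp [π]⟩) d'
  refine Module.projective_def.mpr ⟨d.liftKaehlerDifferential.liftBaseChange (B ⧸ J), fun x => ?_⟩
  have h2 : π ∘ₗ d.liftKaehlerDifferential.liftBaseChange (B ⧸ J) = LinearMap.id := by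
    apply TensorProduct.AlgebraTensorModule.curry_injective
    apply LinearMap.ext_ring
    apply Derivation.liftKaehlerDifferential_unique
    ext b
    simpa [π, d'] using hd b
  exact LinearMap.congr_fun h2 x

end Groth.Agent.EGA4Alg4.DerExt13
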