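import Mathlib
import Groth.Agent.CAlg1.AB

/-! Row S5787: `Hom(k, M/(x)M) ≅ Ext^n(k, M)`. -/

set_option autoImplicit false

universe u

open CategoryTheory Abelian IsLocalRing RingTheory.Sequence
open scoped Pointwise

namespace Groth.Agent.EGA4Alg4.ExtReg13

variable {A : Type u} [CommRing A] [IsLocalRing A] [IsNoetherianRing A]

theorem comp_smul_eq_zero {M : Type u} [AddCommGroup M] [Module A M] {x : A} (hx : x ∈ maximalIdeal A) (i : ℕ)
    (c : Ext (CAlg1.kk A) (ModuleCat.of A M) i) :
    c.comp (Ext.mk₀ ((ModuleCat.of A M).smulShortComplex x).f) (add_zero i) = 0 := by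
  have h : ((ModuleCat.of A M).smulShortComplex x).f = x • 𝟙 (ModuleCat.of A M) := rfl
  rw [h]
  exact (congrArg (fun y => c.comp y (add_zero i)) (Ext.mk₀_smul x (𝟙 (ModuleCat.of A M)))).trans
    ((Ext.comp_smul c _ (add_zero i) x).trans ((congrArg (x • ·) (Ext.comp_mk₀_id c)).trans
      (CAlg1.smul_ext_eq_zero x hx c)))

theorem subsingleton_ext (xs : List A) : ∀ (M : Type u) [AddCommGroup M] [Module A M],
    (∀ x ∈ xs, x ∈ maximalIdeal A) → IsWeaklyRegular M xs → ∀ i < xs.length,
      Subsingleton (Ext (CAlg1.kk A) (ModuleCat.of A M) i) := by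
  induction xs with
  | nil => intro M _ _ _ _ i hi; simp at hi
  | cons x xs ih =>
    intro M _ _ hm hreg i hi
    obtain ⟨h1, h2⟩ := (isWeaklyRegular_cons_iff _ x xs).1 hreg
    have hx : x ∈ maximalIdeal A := hm x List.mem_cons_self
    cases i with
    | zero =>
      have : Subsingleton (ResidueField A →ₗ[A] M) := ⟨fun f g => LinearMap.ext fun y => h1 (by
        change x • f y = x • g y
        have hxy : x • y = 0 := by
          obtain ⟨y, rfl⟩ := residue_surjective y
          rw [Algebra.smul_def]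
          change residue A x * _ = 0
          rw [(residue_eq_zero_iff x).mpr hx, zero_mul]
        rw [← map_smul, ← map_smul, hxy, map_zero, map_zero])⟩
      exact ((Ext.addEquiv₀ (X := CAlg1.kk A) (Y := ModuleCat.of A M)).trans ModuleCat.homAddEquiv).subsingleton
    | succ i =>
      have hsub := ih (QuotSMulTop x M) (fun y hy => hm y (List.mem_cons_of_mem _ hy)) h2 i (by simpa using hi)
      refine ⟨fun a b => ?_⟩
      have hS := IsSMulRegular.smulShortComplex_shortExact (M := ModuleCat.of A M) h1
      have key : ∀ c : Ext (CAlg1.kk A) (ModuleCat.of A M) (i + 1), c = 0 := by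
        intro c
        obtain ⟨y, rfl⟩ := Ext.covariant_sequence_exact₁ (CAlg1.kk A) hS c
          (comp_smul_eq_zero hx (i + 1) c) (show i + 1 = i + 1 from rfl)
        have hy : y = 0 := hsub.elim y 0
        simp [hy]
        rfl
      rw [key a, key b]

theorem nonempty_addEquiv (xs : List A) : ∀ (M : Type u) [AddCommGroup M] [Module A M],
    (∀ x ∈ xs, x ∈ maximalIdeal A) → IsWeaklyRegular M xs →
    Nonempty ((ResidueField A →ₗ[A] (M ⧸ (Ideal.ofList xs • (⊤ : Submodule A M)))) ≃+
      Ext (CAlg1.kk A) (ModuleCat.of A M) xs.length) := by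
  induction xs with
  | nil =>
    intro M _ _ _ _
    let e : (M ⧸ (Ideal.ofList ([] : List A) • (⊤ : Submodule A M))) ≃ₗ[A] M :=
      Submodule.quotEquivOfEqBot _ (by rw [Ideal.ofList_nil, Submodule.bot_smul])
    exact ⟨(LinearEquiv.congrRight e).toAddEquiv.trans
      ((Ext.addEquiv₀ (X := CAlg1.kk A) (Y := ModuleCat.of A M)).trans ModuleCat.homAddEquiv).symm⟩
  | cons x xs ih =>
    intro M _ _ hm hreg
    obtain ⟨h1, h2⟩ := (isWeaklyRegular_cons_iff _ x xs).1 hreg
    have hx : x ∈ maximalIdeal A := hm x List.mem_cons_self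
    obtain ⟨e⟩ := ih (QuotSMulTop x M) (fun y hy => hm y (List.mem_cons_of_mem _ hy)) h2
    have hsub := subsingleton_ext (x :: xs) M hm hreg xs.length (Nat.lt_succ_self _)
    have hS := IsSMulRegular.smulShortComplex_shortExact (M := ModuleCat.of A M) h1
    let δ : Ext (CAlg1.kk A) (ModuleCat.of A (QuotSMulTop x M)) xs.length →+
        Ext (CAlg1.kk A) (ModuleCat.of A M) (x :: xs).length :=
      hS.extClass.postcomp (CAlg1.kk A) (a := xs.length) (b := (x :: xs).length) (by simp)
    have hbij : Function.Bijective δ := by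
      refine ⟨(injective_iff_map_eq_zero δ).2 fun y hy => ?_, fun c => ?_⟩
      · obtain ⟨z, rfl⟩ := Ext.covariant_sequence_exact₃ (CAlg1.kk A) hS y
          (show xs.length + 1 = (x :: xs).length by simp) hy
        have hz : z = 0 := hsub.elim z 0
        simp [hz]
        rfl
      · exact Ext.covariant_sequence_exact₁ (CAlg1.kk A) hS c (comp_smul_eq_zero hx _ c)
          (show xs.length + 1 = (x :: xs).length by simp)
    exact ⟨((LinearEquiv.congrRight (Submodule.quotOfListConsSMulTopEquivQuotSMulTopInner M x xs)).toAddEquiv.trans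
      e).trans (AddEquiv.ofBijective δ hbij)⟩

end Groth.Agent.EGA4Alg4.ExtReg13
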