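import Mathlib
import Groth.Prelude.Def_EGA4b
import Groth.Agent.Cohen12.Completion
import Groth.Agent.EGA4H10.CompleteJ2
import Groth.Agent.Hensel20.LocalFinite

/-!
# Completion of a local ring of a finite algebra

For a Noetherian ring `A`, a finite `A`-algebra `B` and a prime `n` of `B` over `p`, the completion of `B_n` is a
localisation of `B ⊗_A (A_p)^`.
-/

set_option autoImplicit false

universe u

open IsLocalRing TensorProduct

namespace Groth.Agent.EGA4Alg4.FinFormal13

/-- A local map between complete local rings which is bijective modulo all powers is bijective. -/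
theorem bijective_of_dense {W V C : Type u} [CommRing W] [IsLocalRing W] [IsAdicComplete (maximalIdeal W) W]
    [CommRing V] [IsLocalRing V] [IsAdicComplete (maximalIdeal V) V] [CommRing C] [IsLocalRing C]
    (f : W →+* V) (j : C →+* W) (hf : (maximalIdeal W).map f ≤ maximalIdeal V)
    (hj : ∀ k (x : W), ∃ c, x - j c ∈ maximalIdeal W ^ k)
    (hV : ∀ k (v : V), ∃ c, v - f (j c) ∈ maximalIdeal V ^ k)
    (hC : ∀ k c, f (j c) ∈ maximalIdeal V ^ k → j c ∈ maximalIdeal W ^ k) : Function.Bijective f := by
  have hfk : ∀ k x, x ∈ maximalIdeal W ^ k → f x ∈ maximalIdeal V ^ k := fun k x hx => by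
    have h := Ideal.mem_map_of_mem f hx
    rw [Ideal.map_pow] at h
    exact Ideal.pow_right_mono hf k h
  refine ⟨(injective_iff_map_eq_zero f).mpr fun x hx => ?_, fun v => ?_⟩
  · refine IsHausdorff.haus (I := maximalIdeal W) inferInstance x fun k => ?_
    rw [smul_eq_mul, Ideal.mul_top, SModEq.sub_mem, sub_zero]
    obtain ⟨c, hc⟩ := hj k x
    have h1 := hfk k _ hc
    rw [map_sub, hx, zero_sub, neg_mem_iff] at h1
    simpa using Ideal.add_mem _ hc (hC k c h1)
  · choose c hc using fun k => hV k v
    have hcauchy : ∀ {m k : ℕ}, m ≤ k → j (c m) ≡ j (c k) [SMOD (maximalIdeal W ^ m • ⊤ : Submodule W W)] := by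
      intro m k hmk
      rw [smul_eq_mul, Ideal.mul_top, SModEq.sub_mem, ← map_sub]
      refine hC m _ ?_
      have h := Ideal.sub_mem _ (Ideal.pow_le_pow_right hmk (hc k)) (hc m)
      simpa using h
    obtain ⟨w, hw⟩ := IsPrecomplete.prec (I := maximalIdeal W) inferInstance hcauchy
    refine ⟨w, IsHausdorff.eq_iff_smodEq (I := maximalIdeal V).mpr fun k => ?_⟩
    rw [smul_eq_mul, Ideal.mul_top, SModEq.sub_mem]
    have h1 := hw k
    rw [smul_eq_mul, Ideal.mul_top, SModEq.sub_mem] at h1
    have h2 := Ideal.add_mem _ (hfk k _ h1) (hc k)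
    rw [map_sub] at h2
    have h3 := neg_mem h2
    simpa using h3

variable {A B : Type u} [CommRing A] [CommRing B] [Algebra A B]

/-- The core statement, with the completions abstracted. -/
theorem exists_equiv_aux [Module.Finite A B] (p : Ideal A) [p.IsPrime] (n : Ideal B) [n.IsPrime]
    {Ap T Bn V : Type u} [CommRing Ap] [IsLocalRing Ap] [Algebra A Ap] [IsLocalization.AtPrime Ap p]
    [CommRing T] [IsLocalRing T] [IsNoetherianRing T] [IsAdicComplete (maximalIdeal T) T]
    [Algebra Ap T] [Algebra A T] [IsScalarTower A Ap T]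
    [CommRing Bn] [IsLocalRing Bn] [Algebra B Bn] [IsLocalization.AtPrime Bn n]
    [CommRing V] [IsLocalRing V] [IsAdicComplete (maximalIdeal V) V]
    [Algebra Bn V] [Algebra B V] [Algebra A V] [IsScalarTower B Bn V] [IsScalarTower A B V]
    (loc : Ap →+* Bn) (hloc : ∀ a, loc (algebraMap A Ap a) = algebraMap B Bn (algebraMap A B a))
    (ψ : T →+* V) (hψ : ∀ a, ψ (algebraMap Ap T a) = algebraMap Bn V (loc a))
    (hψm : ∀ t ∈ maximalIdeal T, ψ t ∈ maximalIdeal V)
    (hTd : ∀ k (t : T), ∃ a, t - algebraMap Ap T a ∈ maximalIdeal T ^ k)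
    (hVd : ∀ k (v : V), ∃ c, v - algebraMap Bn V c ∈ maximalIdeal V ^ k)
    (hVi : ∀ k c, algebraMap Bn V c ∈ maximalIdeal V ^ k ↔ c ∈ maximalIdeal Bn ^ k) :
    ∃ (N : Ideal (B ⊗[A] T)) (_ : N.IsPrime) (e : Localization.AtPrime N ≃+* V),
      ∀ b : B, e (algebraMap (B ⊗[A] T) (Localization.AtPrime N) (b ⊗ₜ[A] (1 : T))) = algebraMap B V b := by
  let ψA : T →ₐ[A] V :=
    { ψ with
      commutes' := fun a => by
        show ψ (algebraMap A T a) = algebraMap A V a
        rw [IsScalarTower.algebraMap_apply A Ap T, hψ]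
        rw [hloc, ← IsScalarTower.algebraMap_apply B Bn V, ← IsScalarTower.algebraMap_apply A B V] }
  have : IsNoetherianRing T := inferInstance
  let X := B ⊗[A] T
  let Φ : X →ₐ[A] V :=
    Algebra.TensorProduct.lift (IsScalarTower.toAlgHom A B V) ψA fun _ _ => Commute.all _ _
  have hΦb : ∀ b : B, Φ (b ⊗ₜ 1) = algebraMap B V b := fun b => by
    show (algebraMap B V b) * ψA 1 = _
    rw [map_one, mul_one]
  have hΦt : ∀ t : T, Φ (1 ⊗ₜ t) = ψ t := fun t => by
    show (algebraMap B V 1) * ψ t = _
    rw [map_one, one_mul]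
  let N : Ideal X := (maximalIdeal V).comap Φ
  have hNp : N.IsPrime := Ideal.IsPrime.comap _
  letI : Algebra T X := Algebra.TensorProduct.rightAlgebra
  have : Module.Finite T X :=
    Module.Finite.equiv ({ TensorProduct.comm A T B with
      map_smul' := fun t z => by
        show TensorProduct.comm A T B (t • z) = ((1 : B) ⊗ₜ[A] t) * TensorProduct.comm A T B z
        induction z with
        | zero => rw [smul_zero, map_zero, mul_zero]
        | add a b ha hb => rw [smul_add, map_add, ha, hb, ← mul_add, ← map_add]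
        | tmul t' b =>
          show TensorProduct.comm A T B (t • t' ⊗ₜ[A] b) = (1 ⊗ₜ[A] t) * (b ⊗ₜ[A] t')
          rw [TensorProduct.smul_tmul', TensorProduct.comm_tmul, Algebra.TensorProduct.tmul_mul_tmul, one_mul,
            smul_eq_mul] } : T ⊗[A] B ≃ₗ[T] X)
  have hover : N.LiesOver (maximalIdeal T) :=
    ⟨(maximalIdeal.isMaximal T).eq_of_le (Ideal.IsPrime.comap (algebraMap T X) (K := N)).ne_top fun t ht => by
      show Φ ((1 : B) ⊗ₜ t) ∈ maximalIdeal V
      rw [hΦt]
      exact hψm t ht⟩
  haveI : HenselianRing T (maximalIdeal T) := inferInstance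
  haveI : Algebra.QuasiFiniteAt T N := inferInstance
  let W := Localization.AtPrime N
  have : Module.Finite T W := Hensel20.finite_localization (R := T) X N
  have : IsNoetherianRing W := isNoetherian_of_tower T (isNoetherian_of_isNoetherianRing_of_finite T W)
  have hWC := EGA4H10.isAdicComplete_maximalIdeal_of_finite T W
  have hu : ∀ y : N.primeCompl, IsUnit (Φ.toRingHom (y : X)) := fun y => by
    by_contra hy
    exact y.2 ((IsLocalRing.mem_maximalIdeal _).mpr hy)
  let f : W →+* V := IsLocalization.lift hu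
  have hf : ∀ x, f (algebraMap X W x) = Φ x := IsLocalization.lift_eq hu
  have hWmap : maximalIdeal W = N.map (algebraMap X W) := (Localization.AtPrime.map_eq_maximalIdeal).symm
  have hBmap : maximalIdeal Bn = n.map (algebraMap B Bn) := (IsLocalization.AtPrime.map_eq_maximalIdeal n Bn).symm
  have hfm : (maximalIdeal W).map f ≤ maximalIdeal V := by
    refine (Ideal.map_mono hWmap.le).trans ?_
    rw [Ideal.map_map, Ideal.map_le_iff_le_comap]
    intro x hx
    rw [Ideal.mem_comap, RingHom.comp_apply, hf]
    exact hx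
  let i : B →+* W := (algebraMap X W).comp (Algebra.TensorProduct.includeLeftRingHom)
  have hi : ∀ b, f (i b) = algebraMap B V b := fun b => by
    show f (algebraMap X W (b ⊗ₜ 1)) = _
    rw [hf, hΦb]
  have hnB : ∀ b : B, algebraMap B V b ∈ maximalIdeal V ↔ b ∈ n := by
    intro b
    have h := hVi 1 (algebraMap B Bn b)
    rw [pow_one, pow_one, ← IsScalarTower.algebraMap_apply] at h
    rw [h, IsLocalization.AtPrime.to_map_mem_maximal_iff Bn n]
  have hiu : ∀ y : n.primeCompl, IsUnit (i y) := fun y => by
    refine IsLocalization.map_units W (⟨(y : B) ⊗ₜ[A] (1 : T), fun hy => y.2 ?_⟩ : N.primeCompl)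
    exact (hnB y).mp (hΦb (y : B) ▸ hy)
  let j : Bn →+* W := IsLocalization.lift hiu
  have hj : ∀ b, j (algebraMap B Bn b) = i b := IsLocalization.lift_eq hiu
  have hfj : ∀ c, f (j c) = algebraMap Bn V c := by
    have : f.comp j = algebraMap Bn V := IsLocalization.ringHom_ext n.primeCompl (RingHom.ext fun b => by
      simp only [RingHom.comp_apply, hj, hi, ← IsScalarTower.algebraMap_apply])
    exact fun c => RingHom.congr_fun this c
  have hjm : ∀ k c, c ∈ maximalIdeal Bn ^ k → j c ∈ maximalIdeal W ^ k := by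
    intro k c hc
    have h1 : (maximalIdeal Bn).map j ≤ maximalIdeal W := by
      refine (Ideal.map_mono hBmap.le).trans ?_
      rw [Ideal.map_map, Ideal.map_le_iff_le_comap]
      intro b hb
      rw [Ideal.mem_comap, RingHom.comp_apply, hj]
      refine hWmap.ge (Ideal.mem_map_of_mem (algebraMap X W) ?_)
      show Φ (b ⊗ₜ 1) ∈ maximalIdeal V
      rw [hΦb]
      exact (hnB b).mpr hb
    have h2 := Ideal.mem_map_of_mem j hc
    rw [Ideal.map_pow] at h2
    exact Ideal.pow_right_mono h1 k h2
  let τ : T →+* W := (algebraMap X W).comp Algebra.TensorProduct.includeRight.toRingHom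
  have hτ : ∀ a : Ap, τ (algebraMap Ap T a) = j (loc a) := by
    have : τ.comp (algebraMap Ap T) = j.comp loc := IsLocalization.ringHom_ext p.primeCompl (RingHom.ext fun a => by
      simp only [RingHom.comp_apply, hloc, hj]
      show algebraMap X W ((1 : B) ⊗ₜ algebraMap Ap T (algebraMap A Ap a)) = algebraMap X W (algebraMap A B a ⊗ₜ 1)
      rw [← IsScalarTower.algebraMap_apply A Ap T]
      congr 1
      rw [Algebra.algebraMap_eq_smul_one, Algebra.algebraMap_eq_smul_one, TensorProduct.tmul_smul,
        TensorProduct.smul_tmul'])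
    exact fun a => RingHom.congr_fun this a
  have hτm : ∀ k t, t ∈ maximalIdeal T ^ k → τ t ∈ maximalIdeal W ^ k := by
    intro k t ht
    have h1 : (maximalIdeal T).map τ ≤ maximalIdeal W := by
      rw [Ideal.map_le_iff_le_comap]
      intro u hu
      rw [Ideal.mem_comap]
      refine hWmap.ge (Ideal.mem_map_of_mem (algebraMap X W) ?_)
      show Φ ((1 : B) ⊗ₜ u) ∈ maximalIdeal V
      rw [hΦt]
      exact hψm u hu
    have h2 := Ideal.mem_map_of_mem τ ht
    rw [Ideal.map_pow] at h2
    exact Ideal.pow_right_mono h1 k h2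
  have hdense : ∀ k (x : W), ∃ c, x - j c ∈ maximalIdeal W ^ k := by
    intro k x
    by_cases hk : k = 0
    · exact ⟨0, by simp [hk]⟩
    have hX : ∀ z : X, ∃ c, algebraMap X W z - j c ∈ maximalIdeal W ^ k := by
      intro z
      induction z using TensorProduct.induction_on with
      | zero => exact ⟨0, by simp⟩
      | add a b ha hb =>
        obtain ⟨c, hc⟩ := ha
        obtain ⟨d, hd⟩ := hb
        refine ⟨c + d, ?_⟩
        have := Ideal.add_mem _ hc hd
        rw [map_add, map_add]
        convert this using 1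
        ring
      | tmul b t =>
        obtain ⟨a, ha⟩ := hTd k t
        refine ⟨algebraMap B Bn b * loc a, ?_⟩
        rw [map_mul, hj, ← hτ]
        have e : algebraMap X W (b ⊗ₜ t) = i b * τ t := by
          show _ = algebraMap X W (b ⊗ₜ 1) * algebraMap X W ((1 : B) ⊗ₜ t)
          rw [← map_mul, Algebra.TensorProduct.tmul_mul_tmul, one_mul, mul_one]
        rw [e, ← mul_sub, ← map_sub]
        exact Ideal.mul_mem_left _ _ (hτm k _ ha)
    obtain ⟨⟨z, s⟩, hzs⟩ := IsLocalization.surj N.primeCompl x
    obtain ⟨c, hc⟩ := hX z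
    obtain ⟨d, hd⟩ := hX s
    have hdu : IsUnit d := by
      by_contra hdn
      have h1 : j d ∈ maximalIdeal W := by
        have := hjm 1 d (by rw [pow_one]; exact (IsLocalRing.mem_maximalIdeal _).mpr hdn)
        rwa [pow_one] at this
      have h2 := Ideal.add_mem _ (Ideal.pow_le_self hk hd) h1
      rw [sub_add_cancel] at h2
      exact (IsLocalRing.mem_maximalIdeal _).mp h2 (IsLocalization.map_units W s)
    obtain ⟨u, hu⟩ := hdu.exists_left_inv
    refine ⟨c * u, ?_⟩
    change x * algebraMap X W s = algebraMap X W z at hzs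
    have e : x - j (c * u) = j u * ((algebraMap X W z - j c) - x * (algebraMap X W s - j d)) := by
      have h1 : j u * j d = 1 := by rw [← map_mul, hu, map_one]
      rw [map_mul]
      linear_combination (-x) * h1 + (j u) * hzs
    rw [e]
    exact Ideal.mul_mem_left _ _ (Ideal.sub_mem _ hc (Ideal.mul_mem_left _ _ hd))
  have hdenseV : ∀ k (v : V), ∃ c, v - f (j c) ∈ maximalIdeal V ^ k := fun k v => by
    obtain ⟨c, hc⟩ := hVd k v
    exact ⟨c, by rwa [hfj]⟩
  have hCk : ∀ k c, f (j c) ∈ maximalIdeal V ^ k → j c ∈ maximalIdeal W ^ k := fun k c hc => by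
    rw [hfj] at hc
    exact hjm k c ((hVi k c).mp hc)
  refine ⟨N, hNp, RingEquiv.ofBijective f (bijective_of_dense f j hfm hdense hdenseV hCk), fun b => ?_⟩
  show f (algebraMap X W (b ⊗ₜ 1)) = _
  rw [hf, hΦb]

theorem exists_equiv_completion [IsNoetherianRing A] [Module.Finite A B] (n : Ideal B) [n.IsPrime] :
    ∃ (N : Ideal (B ⊗[A] AdicCompletion (maximalIdeal (Localization.AtPrime (n.comap (algebraMap A B))))
        (Localization.AtPrime (n.comap (algebraMap A B))))) (_ : N.IsPrime)
      (e : Localization.AtPrime N ≃+* AdicCompletion (maximalIdeal (Localization.AtPrime n)) (Localization.AtPrime n)),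
      ∀ b : B, e (algebraMap (B ⊗[A] AdicCompletion (maximalIdeal (Localization.AtPrime (n.comap (algebraMap A B))))
          (Localization.AtPrime (n.comap (algebraMap A B)))) (Localization.AtPrime N)
          (b ⊗ₜ[A] (1 : AdicCompletion (maximalIdeal (Localization.AtPrime (n.comap (algebraMap A B))))
            (Localization.AtPrime (n.comap (algebraMap A B)))))) = algebraMap B _ b := by
  let p := n.comap (algebraMap A B)
  let Ap := Localization.AtPrime p
  let Bn := Localization.AtPrime n
  have : IsNoetherianRing B := isNoetherian_of_tower A inferInstance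
  have hTN := Cohen12.isNoetherianRing_completion (A := Ap)
  have hTC := Cohen12.isAdicComplete_completion (A := Ap)
  have hVC := Cohen12.isAdicComplete_completion (A := Bn)
  let loc : Ap →+* Bn := Localization.localRingHom p n (algebraMap A B) rfl
  have hlocm : (maximalIdeal Ap).map loc ≤ maximalIdeal Bn := IsLocalRing.map_maximalIdeal_le loc
  let h₀ : Ap →+* AdicCompletion (maximalIdeal Bn) Bn := (algebraMap Bn _).comp loc
  have hh₀ : (maximalIdeal Ap).map h₀ ≤ maximalIdeal (AdicCompletion (maximalIdeal Bn) Bn) := by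
    refine (Ideal.map_map loc (algebraMap Bn (AdicCompletion (maximalIdeal Bn) Bn))).ge.trans ?_
    exact (Ideal.map_mono hlocm).trans AdicCompletion.maximalIdeal_eq_map.ge
  obtain ⟨ψ, hψ⟩ := Cohen12.exists_extension (A := Ap) h₀ hh₀
  refine exists_equiv_aux p n (Ap := Ap) (Bn := Bn) loc
    (fun a => Localization.localRingHom_to_map p n (algebraMap A B) rfl a) ψ hψ (fun t ht => ?_)
    (fun k t => Cohen12.exists_sub_mem_pow Ap k t) (fun k v => Cohen12.exists_sub_mem_pow Bn k v)
    (fun k c => Cohen12.algebraMap_mem_pow_iff Bn k c)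
  have h1 : (maximalIdeal (AdicCompletion (maximalIdeal Ap) Ap)).map ψ
      ≤ maximalIdeal (AdicCompletion (maximalIdeal Bn) Bn) := by
    refine (Ideal.map_mono AdicCompletion.maximalIdeal_eq_map.le).trans ?_
    refine (Ideal.map_map (algebraMap Ap _) ψ).le.trans ?_
    rw [show ψ.comp (algebraMap Ap _) = h₀ from RingHom.ext hψ]
    exact hh₀
  exact h1 (Ideal.mem_map_of_mem ψ ht)

end Groth.Agent.EGA4Alg4.FinFormal13
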