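import Mathlib
import Groth.Agent.EGA4Alg4.FinFormal
import Groth.Agent.EGA4H10.GenFormal
import Groth.Agent.CAlg1.CohenHom
import Groth.Agent.EGA4Alg4.GeomRegFS

/-!
# Regularity of generic formal fibres of finite domains over a regular ring
-/

set_option autoImplicit false

universe u

open IsLocalRing TensorProduct

namespace Groth.Agent.EGA4Alg4.FinFormal13

/-- If `L ⊗_A T` is regular then the generic fibre of a localisation `V` of `B ⊗_A T` is regular. -/
theorem regular_of_tensor {A B T V L : Type u} [CommRing A] [CommRing B] [Algebra A B] [CommRing T] [Algebra A T]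
    [CommRing V] [Algebra B V] [CommRing L] [Algebra B L] [Algebra A L] [IsScalarTower A B L]
    [IsLocalization (nonZeroDivisors B) L] [IsRegularRing (L ⊗[A] T)]
    (N : Ideal (B ⊗[A] T)) [N.IsPrime] (e : Localization.AtPrime N ≃+* V)
    (he : ∀ b : B, e (algebraMap (B ⊗[A] T) (Localization.AtPrime N) (b ⊗ₜ[A] (1 : T))) = algebraMap B V b)
    (q : Ideal V) [q.IsPrime] (hq : ∀ b : B, algebraMap B V b ∈ q → b = 0) :
    IsRegularLocalRing (Localization.AtPrime q) := by
  let X := B ⊗[A] T
  letI : Algebra X V := (e.toRingHom.comp (algebraMap X (Localization.AtPrime N))).toAlgebra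
  haveI : IsLocalization N.primeCompl V :=
    IsLocalization.isLocalization_of_algEquiv N.primeCompl
      (AlgEquiv.ofRingEquiv (f := e) (fun _ => rfl) : Localization.AtPrime N ≃ₐ[X] V)
  let Q : Ideal X := q.comap (algebraMap X V)
  let Y := X ⊗[B] L
  let φ : Y ≃+* L ⊗[A] T :=
    (Algebra.TensorProduct.comm B X L).toRingEquiv.trans
      (Algebra.TensorProduct.cancelBaseChange A B B L T).toRingEquiv
  haveI : IsRegularRing Y := IsRegularRing.of_ringEquiv φ.symm
  have hd : Disjoint (Algebra.algebraMapSubmonoid X (nonZeroDivisors B) : Set X) Q := by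
    refine Set.disjoint_left.mpr ?_
    rintro _ ⟨b, hb, rfl⟩ hbQ
    have h1 : e (algebraMap X (Localization.AtPrime N) (b ⊗ₜ[A] (1 : T))) ∈ q := hbQ
    rw [he] at h1
    rw [hq b h1] at hb
    have : Subsingleton B := by
      refine subsingleton_of_zero_eq_one ?_
      exact ((mem_nonZeroDivisors_iff_right.mp hb) 1 (mul_zero 1)).symm
    exact (Ideal.IsPrime.comap (algebraMap X V) (K := q)).ne_top (Ideal.eq_top_iff_one _ |>.mpr (by
      rw [show (1 : X) = (0 : B) ⊗ₜ[A] (1 : T) by
        rw [Subsingleton.elim (0 : B) 1]; rfl, TensorProduct.zero_tmul]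
      exact zero_mem _))
  have := EGA4H10.regular_atPrime_of_isLocalization (Algebra.algebraMapSubmonoid X (nonZeroDivisors B)) Y Q hd
  haveI : IsLocalization.AtPrime (Localization.AtPrime q) Q :=
    IsLocalization.isLocalization_isLocalization_atPrime_isLocalization N.primeCompl (Localization.AtPrime q) q
  exact IsRegularLocalRing.of_ringEquiv
    (IsLocalization.algEquiv Q.primeCompl (Localization.AtPrime Q) (Localization.AtPrime q)).toRingEquiv

/-- Generic formal fibres of finite domains over regular local rings of characteristic zero are regular. -/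
theorem regular_completion_fibre_of_charZero {A B : Type u} [CommRing A] [IsRegularLocalRing A] [CharZero A]
    [CommRing B] [IsDomain B] [Algebra A B] [Module.Finite A B] (hinj : Function.Injective (algebraMap A B))
    (n : Ideal B) [n.IsPrime]
    (q : Ideal (AdicCompletion (maximalIdeal (Localization.AtPrime n)) (Localization.AtPrime n))) [q.IsPrime]
    (hq : ∀ b : B, algebraMap B (AdicCompletion (maximalIdeal (Localization.AtPrime n)) (Localization.AtPrime n)) b ∈ q
      → b = 0) :
    IsRegularLocalRing (Localization.AtPrime q) := by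
  haveI : IsDomain A := hinj.isDomain _
  haveI : IsRegularRing A := CAlg1.isRegularRing_of_isRegularLocalRing A
  haveI : FaithfulSMul A B := (faithfulSMul_iff_algebraMap_injective A B).mpr hinj
  let L := FractionRing B
  letI : Algebra (FractionRing A) L := FractionRing.liftAlgebra A L
  haveI : FaithfulSMul A L := (faithfulSMul_iff_algebraMap_injective A L).mpr (by
    rw [IsScalarTower.algebraMap_eq A B L]
    exact (IsFractionRing.injective B L).comp hinj)
  haveI : IsScalarTower A (FractionRing A) L := FractionRing.isScalarTower_liftAlgebra A L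
  haveI : CharZero (FractionRing A) := charZero_of_injective_algebraMap (IsFractionRing.injective A (FractionRing A))
  haveI : Module.Finite (FractionRing A) L :=
    Module.Finite.of_isLocalization A B (nonZeroDivisors A)
  haveI := EGA4H10.isRegularRing_tensor_separable (R := A) (n.comap (algebraMap A B)) L
  obtain ⟨N, _, e, he⟩ := exists_equiv_completion (A := A) n
  exact regular_of_tensor (L := L) N e he q hq

end Groth.Agent.EGA4Alg4.FinFormal13
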