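import Groth.Agent.EGA4Alg4.Semilocal

/-! Parameters inside an ideal of given height. -/

set_option autoImplicit false
universe u

open scoped Pointwise
open Module

namespace Groth.Agent.EGA4Alg4.Semilocal

variable {A : Type u} [CommRing A] [IsNoetherianRing A] [Finite (MaximalSpectrum A)]

theorem exists_seq_in_ideal (a : Ideal A) {h : ℕ} (hh : a.height = h) {Q : Ideal A} [Q.IsPrime]
    (_haQ : a ≤ Q) (hQ : Q.height = h) : ∀ j : ℕ, j ≤ h →
    ∃ xs : List A, xs.length = j ∧ (∀ x ∈ xs, x ∈ a) ∧ (∀ x ∈ xs, x ∈ Ring.jacobson A) ∧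
      supportDim A (A ⧸ Ideal.ofList xs) + j = ringKrullDim A ∧
      ∀ P ∈ (Ideal.ofList xs).minimalPrimes, P ≤ Q → (j : ℕ∞) ≤ P.height := by
  classical
  intro j
  induction j with
  | zero =>
    intro _
    refine ⟨[], rfl, by simp, by simp, ?_, fun P _ _ => by simp⟩
    rw [supportDim_quotient_eq_ringKrullDim, Nat.cast_zero, add_zero, Ideal.ofList_nil]
    exact ringKrullDim_eq_of_ringEquiv (RingEquiv.quotientBot A)
  | succ j ih =>
    intro hj
    obtain ⟨xs, hlen, hxa, hxj, hdim, hmin⟩ := ih (by omega)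
    set I := Ideal.ofList xs with hI
    have hIh : ∀ P ∈ I.minimalPrimes, P.height ≤ j := by
      intro P hP
      refine le_trans (Ideal.height_le_card_of_mem_minimalPrimes_span_finset (s := xs.toFinset) ?_) ?_
      · simpa [hI, Ideal.ofList] using hP
      · exact_mod_cast hlen ▸ List.toFinset_card_le xs
    have hnot : ∀ P ∈ I.minimalPrimes, ¬ a ≤ P := by
      intro P hP hle
      have := (Ideal.height_mono hle).trans (hIh P hP)
      rw [hh] at this
      have : h ≤ j := by exact_mod_cast this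
      omega
    let T := {P ∈ I.minimalPrimes | ¬ P.IsMaximal}
    have hfin : T.Finite :=
      (Ideal.finite_minimalPrimes_of_isNoetherianRing A I).subset fun _ h => h.1
    obtain ⟨y, hy, hy'⟩ : ∃ y ∈ a * Ring.jacobson A, ∀ P ∈ T, y ∉ P := by
      by_contra! hc
      obtain ⟨P, hP, hle⟩ := (Ideal.subset_union_prime_finite hfin (f := id) ⊤ ⊤
        fun P hP _ _ => hP.1.isPrime).mp (fun y hy => by simpa using hc y hy)
      have := hP.1.isPrime
      rcases (Ideal.IsPrime.mul_le ‹P.IsPrime›).mp hle with h1 | h1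
      · exact hnot P hP.1 h1
      · exact hP.2 (exists_maximal_le h1)
    have hya : y ∈ a := Ideal.mul_le_left hy
    have hyj : y ∈ Ring.jacobson A := Ideal.mul_le_right hy
    have hjac : I ≤ Ring.jacobson A := Ideal.span_le.mpr hxj
    have hnt : Nontrivial (A ⧸ I) := by
      refine Ideal.Quotient.nontrivial_iff.mpr fun hc => ?_
      rw [hc] at hjac
      obtain ⟨m, hm, -⟩ := Ideal.exists_le_maximal Q (Ideal.IsPrime.ne_top ‹_›)
      exact hm.ne_top (top_le_iff.mp (hjac.trans (Ring.jacobson_le_of_isMaximal m)))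
    obtain ⟨d, hd⟩ := exists_supportDim_eq (A := A) (M := A ⧸ I)
    have hdrop : supportDim A (QuotSMulTop y (A ⧸ I)) + 1 = supportDim A (A ⧸ I) := by
      refine (supportDim_quotSMulTop_add_one_eq_iff hyj).mpr fun p hp hpd hyp => ?_
      have hpI := mem_minimalPrimes_of_dim_quotient_eq p.2 hp hpd
      rw [Ideal.annihilator_quotient] at hpI
      refine hy' p.asIdeal ⟨hpI, fun hmax => ?_⟩ hyp
      rw [hd, ringKrullDim_eq_zero_of_isField
        ((Ideal.Quotient.maximal_ideal_iff_isField_quotient _).mp hmax)] at hpd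
      have hd0 : 0 = d := by exact_mod_cast hpd
      have hQd : ((Q.height : ℕ∞) : WithBot ℕ∞) ≤ ringKrullDim A :=
        Ideal.height_le_ringKrullDim_of_ne_top (Ideal.IsPrime.ne_top ‹_›)
      rw [← hdim, hd, hQ, ← hd0] at hQd
      have : h ≤ 0 + j := by exact_mod_cast hQd
      omega
    refine ⟨xs ++ [y], by simp [hlen], ?_, ?_, ?_, ?_⟩
    · simpa [or_imp, forall_and] using ⟨hxa, hya⟩
    · simpa [or_imp, forall_and] using ⟨hxj, hyj⟩
    · have hsupp : supportDim A (A ⧸ Ideal.ofList (xs ++ [y])) = supportDim A (QuotSMulTop y (A ⧸ I)) := by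
        rw [supportDim, supportDim, support_quotSMulTop, support_eq_zeroLocus, support_eq_zeroLocus,
          Ideal.annihilator_quotient, Ideal.annihilator_quotient, Ideal.ofList_append, Ideal.ofList_singleton,
          PrimeSpectrum.zeroLocus_sup, PrimeSpectrum.zeroLocus_span (s := {y})]
      rw [hsupp, Nat.cast_add, Nat.cast_one, add_comm (j : WithBot ℕ∞) 1, ← add_assoc, hdrop, hdim]
    · intro P hP hle
      have := hP.isPrime
      rw [Ideal.ofList_append, Ideal.ofList_singleton] at hP
      obtain ⟨P₀, hP₀, hle₀⟩ := Ideal.exists_minimalPrimes_le (le_sup_left.trans hP.1.2 : I ≤ P)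
      have := hP₀.isPrime
      have h1 := hmin P₀ hP₀ (hle₀.trans hle)
      have hmax : ¬ P₀.IsMaximal := by
        intro hm
        have := hm.eq_of_le (Ideal.IsPrime.ne_top ‹Q.IsPrime›) (hle₀.trans hle)
        have h2 := hIh P₀ hP₀
        rw [this, hQ] at h2
        have : h ≤ j := by exact_mod_cast h2
        omega
      have hlt : P₀ < P := lt_of_le_of_ne hle₀ fun he =>
        hy' P₀ ⟨hP₀, hmax⟩ (he ▸ hP.1.2 (Ideal.mem_sup_right (Ideal.mem_span_singleton_self y)))
      exact Order.add_one_le_of_lt (h1.trans_lt (Ideal.height_strict_mono_of_isPrime hlt))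

theorem exists_parameters_in_ideal (a : Ideal A) (ha : a ≠ ⊤) (h : ℕ) (hh : a.height = h) :
    ∃ x : Fin h → A, (∀ i, x i ∈ a) ∧ (∀ i, x i ∈ Ring.jacobson A) ∧
      (∃ ys : List A, (∀ y ∈ ys, y ∈ Ring.jacobson A) ∧
        (((h + ys.length : ℕ) : ℕ∞) : WithBot ℕ∞) = ringKrullDim A ∧
        IsFiniteLength A (A ⧸ (Ideal.span (Set.range x) ⊔ Ideal.ofList ys))) ∧
      (a.map (Ideal.Quotient.mk (Ideal.span (Set.range x)))).height = 0 := by
  obtain ⟨Q, hQp, haQ, hQ⟩ := Ideal.exists_isPrime_height_eq hh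
  obtain ⟨xs, hlen, hxa, hxj, hdim, hmin⟩ := exists_seq_in_ideal a hh haQ hQ h le_rfl
  subst hlen
  have hspan : Ideal.span (Set.range xs.get) = Ideal.ofList xs := by
    congr 1; ext z; simp [List.mem_iff_get]
  refine ⟨xs.get, fun i => hxa _ (List.get_mem _ _), fun i => hxj _ (List.get_mem _ _), ?_, ?_⟩
  · rw [hspan]
    have : Nontrivial A := ⟨⟨0, 1, fun hc => Ideal.IsPrime.ne_top ‹Q.IsPrime›
      (Ideal.eq_top_iff_one _ |>.mpr (hc ▸ Q.zero_mem))⟩⟩
    have key := (supportDim_quotient_add_length_eq_iff (M := A) hxj).mp (by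
      rw [supportDim_self_eq_ringKrullDim, ← hdim,
        supportDim_eq_of_equiv (Submodule.quotEquivOfEq (Ideal.ofList xs • (⊤ : Submodule A A)) (Ideal.ofList xs) (by simp))])
    obtain ⟨ys, h1, h2, h3⟩ := key
    refine ⟨ys, h1, ?_, ?_⟩
    · rw [supportDim_self_eq_ringKrullDim, List.length_append] at h2
      exact h2
    · exact (Submodule.quotEquivOfEq _ _ (by simp [Ideal.ofList_append])).isFiniteLength h3
  · rw [hspan]
    set I := Ideal.ofList xs
    have hIa : I ≤ a := Ideal.span_le.mpr hxa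
    obtain ⟨P, hP, hle⟩ := Ideal.exists_minimalPrimes_le (hIa.trans haQ)
    have := hP.isPrime
    have hPQ : P = Q := by
      by_contra hne
      have := Ideal.height_strict_mono_of_isPrime (lt_of_le_of_ne hle hne)
      rw [hQ] at this
      exact absurd (hmin P hP hle) (not_le.mpr this)
    subst hPQ
    refine le_antisymm ((Ideal.height_mono (Ideal.map_mono haQ)).trans ?_) zero_le
    have hpr := Ideal.isPrime_map_quotientMk_of_isPrime (hIa.trans haQ)
    refine le_of_eq ?_
    rw [PrimeSpectrum.height_eq_orderHeight ⟨_, hpr⟩, Order.height_eq_zero]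
    intro q hle
    change P.map (Ideal.Quotient.mk I) ≤ q.asIdeal
    have hc : q.asIdeal.comap (Ideal.Quotient.mk I) ≤ P := by
      refine le_trans (Ideal.comap_mono hle) ?_
      simp only
      rw [Ideal.comap_map_of_surjective _ Ideal.Quotient.mk_surjective, ← RingHom.ker_eq_comap_bot,
        Ideal.mk_ker]
      exact sup_le le_rfl (hIa.trans haQ)
    have := hP.2 ⟨inferInstance, fun x hx => by
      simp [Ideal.Quotient.eq_zero_iff_mem.mpr hx]⟩ hc
    exact Ideal.map_le_iff_le_comap.mpr this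

end Groth.Agent.EGA4Alg4.Semilocal
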