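import Mathlib
import Groth.Prelude.Def_CAlgX

/-!
# Sufficiency of the Jacobian criterion for adic formal smoothness
-/

set_option autoImplicit false
set_option maxHeartbeats 400000

universe u

open IsLocalRing

namespace Groth.Agent.EGA4Alg4.NagJac13

/-- If `A_P` is adically formally smooth and `qA_P` is generated by elements with a Jacobian
determinant outside `P`, the local ring of `A ⧸ q` at `P` is adically formally smooth. -/
theorem isAdicFormallySmooth_of_jacobian {k A : Type u} [CommRing k] [CommRing A] [Algebra k A]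
    (q P : Ideal A) [P.IsPrime] (hqP : q ≤ P) [(P.map (Ideal.Quotient.mk q)).IsPrime]
    (hA : CAlgX.IsAdicFormallySmooth k (Localization.AtPrime P) (maximalIdeal (Localization.AtPrime P)))
    {m : ℕ} (D : Fin m → Derivation k A A) (f : Fin m → A) (hf : ∀ i, f i ∈ q)
    (hgen : q.map (algebraMap A (Localization.AtPrime P)) =
      Ideal.span (Set.range fun i => algebraMap A (Localization.AtPrime P) (f i)))
    (hdet : Matrix.det (Matrix.of fun i j => D i (f j)) ∉ P) :
    CAlgX.IsAdicFormallySmooth k (Localization.AtPrime (P.map (Ideal.Quotient.mk q)))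
      (maximalIdeal (Localization.AtPrime (P.map (Ideal.Quotient.mk q)))) := by
  classical
  intro E _ _ J hJ ψ hψ
  let P' := P.map (Ideal.Quotient.mk q)
  let L := Localization.AtPrime P'
  let AP := Localization.AtPrime P
  have hcomap : P'.comap (Ideal.Quotient.mk q) = P := by
    rw [Ideal.comap_map_quotientMk, sup_eq_right.2 hqP]
  let ι : A →ₐ[k] L := (IsScalarTower.toAlgHom k (A ⧸ q) L).comp (Ideal.Quotient.mkₐ k q)
  have hu : ∀ y : P.primeCompl, IsUnit (ι y) := fun y =>
    IsLocalization.map_units L (⟨Ideal.Quotient.mk q y, fun h => y.2 (hcomap.le h)⟩ : P'.primeCompl)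
  let ιP : AP →ₐ[k] L := IsLocalization.liftAlgHom (M := P.primeCompl) (f := ι) hu
  have hιP : ∀ a, ιP (algebraMap A AP a) = ι a := fun a => by
    rw [IsLocalization.liftAlgHom_apply, IsLocalization.lift_eq]
    rfl
  have hmax : maximalIdeal AP ≤ (maximalIdeal L).comap ιP.toRingHom := by
    rw [← Localization.AtPrime.map_eq_maximalIdeal, Ideal.map_le_iff_le_comap]
    intro x hx
    rw [Ideal.mem_comap, Ideal.mem_comap]
    show ιP (algebraMap A AP x) ∈ _
    rw [hιP]
    exact (IsLocalization.AtPrime.to_map_mem_maximal_iff L P' _).2 (Ideal.mem_map_of_mem _ hx)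
  obtain ⟨N, hN⟩ := hψ
  obtain ⟨t, ht⟩ := hA E J hJ (ψ.comp ιP) ⟨N, fun x hx => hN _ (by
    have h1 := Ideal.mem_map_of_mem ιP.toRingHom hx
    rw [Ideal.map_pow] at h1
    exact Ideal.pow_right_mono (Ideal.map_le_iff_le_comap.2 hmax) N h1)⟩
  let T : A →ₐ[k] E := t.comp (IsScalarTower.toAlgHom k A AP)
  have hT : ∀ a, Ideal.Quotient.mk J (T a) = ψ (ι a) := fun a => by
    rw [← hιP]
    exact AlgHom.congr_fun ht (algebraMap A AP a)
  have hJJ : ∀ x ∈ J, ∀ y ∈ J, x * y = 0 := fun x hx y hy => (Submodule.mem_bot E).mp (by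
    rw [← hJ, pow_two]; exact Ideal.mul_mem_mul hx hy)
  have hqJ : ∀ x ∈ q, T x ∈ J := fun x hx => by
    rw [← Ideal.Quotient.eq_zero_iff_mem, hT]
    show ψ (algebraMap (A ⧸ q) L (Ideal.Quotient.mk q x)) = 0
    rw [Ideal.Quotient.eq_zero_iff_mem.2 hx, map_zero, map_zero]
  have hunit : ∀ s : A, s ∉ P → IsUnit (T s) := fun s hs =>
    (IsLocalization.map_units AP (⟨s, hs⟩ : P.primeCompl)).map t
  let M := Matrix.of fun i j => D i (f j)
  obtain ⟨u, hu'⟩ := (hunit _ hdet).exists_left_inv
  let r : Fin m → E := fun j => u * ∑ i, T (f i) * T (M.adjugate i j)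
  have hrJ : ∀ j, r j ∈ J := fun j =>
    Ideal.mul_mem_left _ _ (sum_mem fun i _ => Ideal.mul_mem_right _ _ (hqJ _ (hf i)))
  let Δ : A → E := fun a => ∑ j, r j * T (D j a)
  have hΔJ : ∀ a, Δ a ∈ J := fun a => sum_mem fun j _ => Ideal.mul_mem_right _ _ (hrJ j)
  have hΔf : ∀ l, Δ (f l) = T (f l) := by
    intro l
    have h1 : ∀ i, ∑ j, T (M.adjugate i j) * T (D j (f l)) = if i = l then T M.det else 0 := fun i => by
      have h2 := congrFun (congrFun (Matrix.adjugate_mul M) i) l
      rw [Matrix.mul_apply, Matrix.smul_apply, Matrix.one_apply, smul_eq_mul, mul_ite, mul_one, mul_zero] at h2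
      have h3 := congrArg T h2
      rw [map_sum, apply_ite T, map_zero] at h3
      rw [← h3]
      exact Finset.sum_congr rfl fun j _ => (map_mul T _ _).symm
    show ∑ j, (u * ∑ i, T (f i) * T (M.adjugate i j)) * T (D j (f l)) = _
    simp only [Finset.mul_sum, Finset.sum_mul]
    rw [Finset.sum_comm, Finset.sum_eq_single l (fun i _ hi => ?_) (fun h => absurd (Finset.mem_univ _) h)]
    · rw [show ∑ j, u * (T (f l) * T (M.adjugate l j)) * T (D j (f l)) =
        u * T (f l) * ∑ j, T (M.adjugate l j) * T (D j (f l)) from by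
          rw [Finset.mul_sum]; exact Finset.sum_congr rfl fun j _ => by ring,
        h1, if_pos rfl, mul_assoc, mul_comm (T (f l)), ← mul_assoc, hu', one_mul]
    · rw [show ∑ j, u * (T (f i) * T (M.adjugate i j)) * T (D j (f l)) =
        u * T (f i) * ∑ j, T (M.adjugate i j) * T (D j (f l)) from by
          rw [Finset.mul_sum]; exact Finset.sum_congr rfl fun j _ => by ring,
        h1, if_neg hi, mul_zero]
  have hΔmul : ∀ a b, Δ (a * b) = T a * Δ b + T b * Δ a := fun a b => by
    simp only [Δ, Finset.mul_sum, ← Finset.sum_add_distrib]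
    refine Finset.sum_congr rfl fun j _ => ?_
    rw [Derivation.leibniz, smul_eq_mul, smul_eq_mul, map_add, map_mul, map_mul]
    ring
  have hΔC : ∀ c : k, Δ (algebraMap k A c) = 0 := fun c =>
    Finset.sum_eq_zero fun j _ => by rw [Derivation.map_algebraMap, map_zero, mul_zero]
  let v₀ : A →ₐ[k] E :=
    { toFun := fun a => T a - Δ a
      map_one' := by
        rw [map_one, ← map_one (algebraMap k A), hΔC, sub_zero]
      map_mul' := fun a b => by
        show T (a * b) - Δ (a * b) = (T a - Δ a) * (T b - Δ b)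
        rw [map_mul, hΔmul]
        linear_combination -(hJJ _ (hΔJ a) _ (hΔJ b))
      map_zero' := by
        rw [map_zero, ← map_zero (algebraMap k A), hΔC, sub_zero]
      map_add' := fun a b => by
        simp only [Δ, map_add, mul_add, Finset.sum_add_distrib]
        ring
      commutes' := fun c => by
        show T (algebraMap k A c) - Δ (algebraMap k A c) = _
        rw [hΔC, sub_zero, AlgHom.commutes] }
  have hv₀m : ∀ a, Ideal.Quotient.mk J (v₀ a) = ψ (ι a) := fun a => by
    show Ideal.Quotient.mk J (T a - Δ a) = _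
    rw [map_sub, hT, Ideal.Quotient.eq_zero_iff_mem.2 (hΔJ a), sub_zero]
  have hv₀u : ∀ a, a ∉ P → IsUnit (v₀ a) := fun a ha => by
    refine (IsNilpotent.isUnit_quotient_mk_iff (I := J) ⟨2, hJ⟩).mp ?_
    rw [hv₀m]
    exact (hu ⟨a, ha⟩).map ψ
  have hv₀q : ∀ x ∈ q, v₀ x = 0 := by
    intro x hx
    have h1 : algebraMap A AP x ∈ (Ideal.span (Set.range f)).map (algebraMap A AP) := by
      rw [Ideal.map_span, ← Set.range_comp]
      exact hgen.le (Ideal.mem_map_of_mem _ hx)
    obtain ⟨s, hs, hsx⟩ := (IsLocalization.algebraMap_mem_map_algebraMap_iff P.primeCompl AP _ _).1 h1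
    have h2 : Ideal.span (Set.range f) ≤ RingHom.ker v₀.toRingHom := Ideal.span_le.2 (by
      rintro _ ⟨l, rfl⟩
      show T (f l) - Δ (f l) = 0
      rw [hΔf, sub_self])
    have h3 : v₀ (s * x) = 0 := h2 hsx
    rw [map_mul] at h3
    exact (hv₀u s hs).mul_right_eq_zero.1 h3
  let v₁ : (A ⧸ q) →ₐ[k] E := Ideal.Quotient.liftₐ q v₀ hv₀q
  have hv₁ : ∀ a, v₁ (Ideal.Quotient.mk q a) = v₀ a := fun a => rfl
  have hv₁u : ∀ y : P'.primeCompl, IsUnit (v₁ y) := fun y => by
    obtain ⟨a, ha⟩ := Ideal.Quotient.mk_surjective (y : A ⧸ q)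
    rw [← ha, hv₁]
    exact hv₀u a fun h => y.2 (ha ▸ Ideal.mem_map_of_mem _ h)
  refine ⟨IsLocalization.liftAlgHom (M := P'.primeCompl) (S := L) (f := v₁) hv₁u, ?_⟩
  apply IsLocalization.algHom_ext P'.primeCompl
  ext a
  obtain ⟨a, rfl⟩ := Ideal.Quotient.mk_surjective a
  show Ideal.Quotient.mk J (IsLocalization.liftAlgHom (M := P'.primeCompl) (S := L) (f := v₁) hv₁u
    (algebraMap (A ⧸ q) L (Ideal.Quotient.mk q a))) = _
  rw [IsLocalization.liftAlgHom_apply, IsLocalization.lift_eq]
  exact hv₀m a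

end Groth.Agent.EGA4Alg4.NagJac13
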