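import Groth.Agent.EGA4Alg4.NagJacSetup
import Groth.Agent.EGA4Alg4.NagJacSuff
import Groth.Agent.EGA4Alg4.JacAdic
import Groth.Agent.EGA4Alg4.GeomRegFS
import Groth.Agent.Cohen12.Section
import Groth.Agent.Cohen12.Field
import Groth.Agent.CAlg5.Cohen

/-!
# Nagata's Jacobian criterion
-/

set_option autoImplicit false
set_option maxHeartbeats 400000
set_option linter.unusedSectionVars false

universe u

open IsLocalRing KaehlerDifferential TensorProduct

namespace Groth.Agent.EGA4Alg4.NagJac13

theorem finite_fractionField {S B L₀ κ : Type u} [CommRing S] [CommRing B] [IsDomain B] [Algebra S B]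
    [Module.Finite S B] [Field L₀] [Field κ] [Algebra S L₀] [IsFractionRing S L₀] [Algebra B κ]
    [IsFractionRing B κ] [Algebra S κ] [IsScalarTower S B κ] [Algebra L₀ κ] [IsScalarTower S L₀ κ] :
    Module.Finite L₀ κ := by
  obtain ⟨n, β, hβ⟩ := Module.Finite.exists_fin (R := S) (M := B)
  let W : Submodule L₀ κ := Submodule.span L₀ (Set.range fun l => algebraMap B κ (β l))
  have hW : ∀ y : B, algebraMap B κ y ∈ W := fun y => by
    obtain ⟨c, rfl⟩ := (Submodule.mem_span_range_iff_exists_fun S).1 (hβ ▸ Submodule.mem_top : y ∈ _)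
    rw [map_sum]
    refine sum_mem fun l _ => ?_
    rw [Algebra.smul_def, map_mul, ← IsScalarTower.algebraMap_apply S B κ,
      IsScalarTower.algebraMap_apply S L₀ κ, ← Algebra.smul_def]
    exact W.smul_mem _ (Submodule.subset_span ⟨l, rfl⟩)
  let W' : Subalgebra L₀ κ := Algebra.adjoin L₀ (Set.range (algebraMap B κ))
  have hle : W'.toSubmodule ≤ W := by
    rw [Algebra.adjoin_eq_span, Submodule.span_le]
    intro y hy
    obtain ⟨z, rfl⟩ : y ∈ MonoidHom.mrange (algebraMap B κ : B →* κ) :=
      Submonoid.closure_le.2 (fun y hy => hy) hy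
    exact hW z
  have : FiniteDimensional L₀ W'.toSubmodule :=
    have : FiniteDimensional L₀ W := Module.Finite.span_of_finite L₀ (Set.finite_range _)
    Submodule.finiteDimensional_of_le hle
  have htop : W' = ⊤ := eq_top_iff.2 fun x _ => by
    obtain ⟨a, c, hc, rfl⟩ := IsFractionRing.div_surjective (A := B) x
    rw [div_eq_mul_inv]
    refine mul_mem (Algebra.subset_adjoin ⟨a, rfl⟩) ?_
    have : FiniteDimensional L₀ W' := ‹FiniteDimensional L₀ W'.toSubmodule›
    let c' : W' := ⟨algebraMap B κ c, Algebra.subset_adjoin ⟨c, rfl⟩⟩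
    exact W'.inv_mem_of_algebraic (x := c')
      ((isAlgebraic_algHom_iff W'.val Subtype.val_injective).2
        (Algebra.IsAlgebraic.isAlgebraic c'))
  refine Module.finite_def.2 ?_
  rw [show (⊤ : Submodule L₀ κ) = W'.toSubmodule by rw [htop, Algebra.top_toSubmodule]]
  exact Module.Finite.iff_fg.1 ‹FiniteDimensional L₀ W'.toSubmodule›

/-- Formal smoothness of the quotient gives generators with a dual derivation into the residue field. -/
theorem exists_dual_derivation {k A : Type u} [Field k] [CommRing A] [IsNoetherianRing A] [Algebra k A]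
    (q P : Ideal A) [P.IsPrime] (hqP : q ≤ P) [(P.map (Ideal.Quotient.mk q)).IsPrime]
    (h : CAlgX.IsAdicFormallySmooth k (Localization.AtPrime (P.map (Ideal.Quotient.mk q)))
      (maximalIdeal (Localization.AtPrime (P.map (Ideal.Quotient.mk q))))) :
    ∃ (m : ℕ) (g : Fin m → A) (d : Derivation k A (Fin m → P.ResidueField)), (∀ i, g i ∈ q) ∧
      q.map (algebraMap A (Localization.AtPrime P)) =
        Ideal.span (Set.range fun i => algebraMap A (Localization.AtPrime P) (g i)) ∧
      ∀ i, d (g i) = Pi.single i 1 := by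
  classical
  let AP := Localization.AtPrime P
  let κ := P.ResidueField
  obtain ⟨m, g, hgq, hgs, hmin⟩ := ZJac13.exists_minimal_generators (R := AP) q (IsNoetherian.noetherian q)
  have hκ0 : ∀ x ∈ P, algebraMap A κ x = 0 := fun x hx => Ideal.algebraMap_residueField_eq_zero.mpr hx
  let : Algebra (A ⧸ q) κ := (Ideal.Quotient.lift q (algebraMap A κ) fun x hx => hκ0 x (hqP hx)).toAlgebra
  have : IsScalarTower A (A ⧸ q) κ := IsScalarTower.of_algebraMap_eq fun _ => rfl
  have hsurj : Function.Surjective (algebraMap A (A ⧸ q)) := Ideal.Quotient.mk_surjective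
  let K := RingHom.ker (algebraMap A (A ⧸ q))
  have hK : ∀ x, x ∈ K ↔ x ∈ q := fun x => by
    rw [RingHom.mem_ker]
    exact Ideal.Quotient.eq_zero_iff_mem
  let ρ : AP →+* κ := algebraMap AP κ
  have hρm : ∀ z ∈ maximalIdeal AP, ρ z = 0 := fun z hz => (residue_eq_zero_iff z).2 hz
  have hρ : ∀ x, ρ (algebraMap A AP x) = algebraMap A κ x := fun x => (IsScalarTower.algebraMap_apply A AP κ x).symm
  have hcoef : ∀ x : K, ∃ r : Fin m → AP, ∑ i, r i * algebraMap A AP (g i) = algebraMap A AP (x : A) := fun x =>
    (Submodule.mem_span_range_iff_exists_fun AP).1 (hgs.le (Ideal.mem_map_of_mem _ ((hK _).mp x.2)))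
  choose r hr using hcoef
  have huniq : ∀ (x : K) (s : Fin m → AP), ∑ i, s i * algebraMap A AP (g i) = algebraMap A AP (x : A) →
      ∀ i, ρ (r x i) = ρ (s i) := by
    intro x s hs i
    rw [← sub_eq_zero, ← map_sub]
    refine hρm _ (hmin (fun i => r x i - s i) ?_ i)
    simp [sub_mul, hr, hs]
  let φ : K →ₗ[A] (Fin m → κ) :=
    { toFun := fun x i => ρ (r x i)
      map_add' := fun x y => funext fun i => by
        rw [huniq (x + y) (r x + r y) (by simp [add_mul, Finset.sum_add_distrib, hr]) i, Pi.add_apply, map_add]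
        rfl
      map_smul' := fun b x => funext fun i => by
        rw [huniq (b • x) (fun j => algebraMap A AP b * r x j)
          (by simp [mul_assoc, ← Finset.mul_sum, hr]) i, map_mul, hρ, RingHom.id_apply, Pi.smul_apply,
          Algebra.smul_def] }
  let μ : K.Cotangent →ₗ[A] (Fin m → κ) := Submodule.liftQ _ φ (by
    rw [Submodule.smul_le]
    intro b hb x _
    rw [LinearMap.mem_ker, map_smul, ← algebraMap_smul κ b, hκ0 b (hqP ((hK _).mp hb)), zero_smul])
  let P' := P.map (Ideal.Quotient.mk q)
  have hlift : ∀ z : A ⧸ q, ∃ a, Ideal.Quotient.mk q a = z ∧ (a ∈ P ↔ z ∈ P') := by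
    intro z
    obtain ⟨a, rfl⟩ := Ideal.Quotient.mk_surjective z
    refine ⟨a, rfl, ⟨fun ha => Ideal.mem_map_of_mem _ ha, fun ha => ?_⟩⟩
    have h1 : a ∈ P'.comap (Ideal.Quotient.mk q) := ha
    rwa [Ideal.comap_map_quotientMk, sup_eq_right.2 hqP] at h1
  have hV : ∀ s ∈ P'.primeCompl, Function.Bijective fun v : Fin m → κ => s • v := by
    intro s hs
    obtain ⟨a, rfl, haP⟩ := hlift s
    have hne : algebraMap A κ a ≠ 0 := fun h0 => hs (haP.1 (Ideal.algebraMap_residueField_eq_zero.mp h0))
    have : (fun v : Fin m → κ => Ideal.Quotient.mk q a • v) = fun v => algebraMap A κ a • v :=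
      funext fun v => (algebraMap_smul κ (Ideal.Quotient.mk q a) v).symm
    rw [this]
    exact ⟨smul_right_injective _ hne, fun v => ⟨(algebraMap A κ a)⁻¹ • v, smul_inv_smul₀ hne v⟩⟩
  obtain ⟨d, hd⟩ := JacAdic13.exists_derivation (A := k) hsurj P' h (Fin m → κ) hV (fun c hc v => by
    obtain ⟨a, rfl, haP⟩ := hlift c
    rw [← algebraMap_smul κ (Ideal.Quotient.mk q a) v]
    show algebraMap A κ a • v = 0
    rw [hκ0 a (haP.2 hc), zero_smul]) μ
  refine ⟨m, g, d, hgq, hgs, fun i => ?_⟩
  rw [hd (g i) ((hK _).mpr (hgq i))]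
  funext j
  show ρ (r ⟨g i, _⟩ j) = _
  rw [huniq ⟨g i, _⟩ (fun l => if i = l then 1 else 0) (by simp [ite_mul]) j, Pi.single_apply]
  by_cases hij : i = j
  · simp [hij]
  · simp [hij, Ne.symm hij]

section Separable

variable {k K A : Type u} [Field k] [Field K] [CommRing A] [IsLocalRing A] [IsNoetherianRing A] [Algebra k A]

/-- The partial derivatives in a presentation by power series with constants containing `k`. -/
theorem exists_partials {r : ℕ} (e : MvPowerSeries (Fin r) K ≃+* A)
    (hk : ∀ c : k, ∃ c' : K, algebraMap k A c = e (MvPowerSeries.C c')) :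
    ∃ (Δ : Fin r → Derivation k A A), (∀ l m, Δ l (e (MvPowerSeries.X m)) = if l = m then 1 else 0) ∧
      ∀ l c, Δ l (e (MvPowerSeries.C c)) = 0 := by
  classical
  have h : ∀ l, ∃ D : Derivation k A A, ∀ y, D y = e (MvPowerSeries.pderiv K l (e.symm y)) := by
    intro l
    let D₀ : Derivation ℤ A A := Derivation.mk'
      (e.toAddMonoidHom.comp ((MvPowerSeries.pderiv K l).toLinearMap.toAddMonoidHom.comp
        e.symm.toAddMonoidHom)).toIntLinearMap
      fun y z => by
        show e (MvPowerSeries.pderiv K l (e.symm (y * z))) =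
          y • e (MvPowerSeries.pderiv K l (e.symm z)) + z • e (MvPowerSeries.pderiv K l (e.symm y))
        rw [map_mul, Derivation.leibniz, map_add, smul_eq_mul, smul_eq_mul, map_mul, map_mul,
          RingEquiv.apply_symm_apply, RingEquiv.apply_symm_apply]
        rfl
    obtain ⟨D, hD⟩ := exists_rel_derivation D₀ fun c => by
      obtain ⟨c', hc'⟩ := hk c
      show e (MvPowerSeries.pderiv K l (e.symm (algebraMap k A c))) = 0
      rw [hc', RingEquiv.symm_apply_apply, MvPowerSeries.pderiv_C, map_zero]
    exact ⟨D, fun y => hD y⟩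
  choose Δ hΔ using h
  refine ⟨Δ, fun l m => ?_, fun l c => ?_⟩
  · rw [hΔ, RingEquiv.symm_apply_apply, MvPowerSeries.pderiv_X, Pi.single_apply, apply_ite e, map_one, map_zero]
    by_cases hlm : l = m
    · simp [hlm]
    · simp [hlm, Ne.symm hlm]
  · rw [hΔ, RingEquiv.symm_apply_apply, MvPowerSeries.pderiv_C, map_zero]

/-- Derivations over `k` detecting independence on `P`, separable case. -/
theorem exists_derivations_separable {r s : ℕ} (e : MvPowerSeries (Fin r) K ≃+* A)
    (hk : ∀ c : k, ∃ c' : K, algebraMap k A c = e (MvPowerSeries.C c'))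
    (P : Ideal A) [P.IsPrime] (hs : ringKrullDim (A ⧸ P) = s) (φ : MvPowerSeries (Fin s) K →+* A)
    (hφC : ∀ c, φ (MvPowerSeries.C c) = e (MvPowerSeries.C c))
    (hφX : ∀ i, φ (MvPowerSeries.X i) ∈ maximalIdeal A)
    {L₀ L : Type u} [Field L₀] [Algebra (MvPowerSeries (Fin s) K) L₀] [IsFractionRing (MvPowerSeries (Fin s) K) L₀]
    [Field L] [Algebra A L] [Algebra (A ⧸ P) L] [IsScalarTower A (A ⧸ P) L] [IsFractionRing (A ⧸ P) L]
    [Algebra L₀ L] [Algebra.IsSeparable L₀ L]
    (hφL : ∀ z, algebraMap L₀ L (algebraMap (MvPowerSeries (Fin s) K) L₀ z) = algebraMap A L (φ z))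
    {M : Type u} [AddCommGroup M] [Module P.ResidueField M] [Module A M] [IsScalarTower A P.ResidueField M]
    (lin : P →ₗ[A] M) {m : ℕ} (g : Fin m → P) (hg : LinearIndependent P.ResidueField fun i => lin (g i)) :
    ∃ D : Fin m → Derivation k A A, Matrix.det (Matrix.of fun i j => D i (g j : A)) ∉ P := by
  classical
  obtain ⟨h, f, hf, hgen, hhs⟩ := exists_prime_generators e P hs
  obtain ⟨Δ, hΔX, hΔC⟩ := exists_partials e hk
  let Δ' : Fin r → Derivation ℤ A A := fun l => (Δ l).restrictScalars ℤ
  have hli : LinearIndependent L fun i => vals (κ := L) Δ' (f i) :=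
    linearIndependent_vals_separable (K := K) P φ hφL hφX Δ' (fun l => e (MvPowerSeries.X l))
      (fun l l' => hΔX l l') (fun l c => (congrArg (Δ l) (hφC c)).trans (hΔC l c)) f hf hgen hhs
  obtain ⟨σ₀, hσ₀⟩ := exists_det_notMem P Δ' f hli
  have hli' := vals_li_of_det (κ := P.ResidueField) P Δ' f σ₀ hσ₀
  have hgli := vals_li_transfer (κ := P.ResidueField) P Δ' f hf hgen hli' lin g hg
  obtain ⟨σ, hσ⟩ := exists_det_notMem P Δ' (fun i => (g i : A)) hgli
  refine ⟨fun i => Δ (σ i), ?_⟩
  rwa [← Matrix.det_transpose]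

end Separable

section Main

variable {k A : Type u} [Field k] [CommRing A] [IsLocalRing A] [IsNoetherianRing A]
  [IsAdicComplete (maximalIdeal A) A] [Algebra k A]

theorem exists_powerSeries_presentation [IsRegularLocalRing A] (σ : ResidueField A →+* A)
    (hσ : ∀ x, residue A (σ x) = x) :
    ∃ (r : ℕ) (e : MvPowerSeries (Fin r) (ResidueField A) ≃+* A),
      ∀ c, e (MvPowerSeries.C c) = σ c := by
  obtain ⟨d, φ, hφ, hφC⟩ := CAlg5.exists_powerSeries_bijective σ fun x => ⟨x, hσ x⟩
  exact ⟨d, RingEquiv.ofBijective φ hφ, hφC⟩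

theorem jacobian_charZero [CharZero k] (hA : CAlgX.IsAdicFormallySmooth k A (maximalIdeal A))
    (q P : Ideal A) [P.IsPrime] (hqP : q ≤ P) [(P.map (Ideal.Quotient.mk q)).IsPrime]
    (h : CAlgX.IsAdicFormallySmooth k (Localization.AtPrime (P.map (Ideal.Quotient.mk q)))
      (maximalIdeal (Localization.AtPrime (P.map (Ideal.Quotient.mk q))))) :
    ∃ (m : ℕ) (D : Fin m → Derivation k A A) (f : Fin m → A), (∀ i, f i ∈ q) ∧
      q.map (algebraMap A (Localization.AtPrime P)) =
        Ideal.span (Set.range fun i => algebraMap A (Localization.AtPrime P) (f i)) ∧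
      Matrix.det (Matrix.of fun i j => D i (f j)) ∉ P := by
  have := (Cohen12.regular_of_formallySmooth_field hA).1
  obtain ⟨m, g, d, hgq, hgs, hd⟩ := exists_dual_derivation q P hqP h
  have := FBase64.isGeometricallyReduced_of_perfectField k (ResidueField A)
  have : Algebra.FormallySmooth k (ResidueField A) :=
    (Sep12.formallySmooth_iff_isGeometricallyReduced (k := k) (K := ResidueField A)).mpr ‹_›
  obtain ⟨σ, hσ⟩ := Cohen12.exists_lift_complete (maximalIdeal A) (AlgHom.id k (ResidueField A))
  obtain ⟨r, e, he⟩ := exists_powerSeries_presentation σ.toRingHom fun x => hσ x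
  obtain ⟨s, φ, hs, hφC, hφX, hinj, hfin⟩ := exists_normalisation e P
  let R' := MvPowerSeries (Fin s) (ResidueField A)
  let κ := P.ResidueField
  let : Algebra R' (A ⧸ P) := ((Ideal.Quotient.mk P).comp φ).toAlgebra
  let : Algebra R' κ := ((algebraMap (A ⧸ P) κ).comp ((Ideal.Quotient.mk P).comp φ)).toAlgebra
  have : IsScalarTower R' (A ⧸ P) κ := IsScalarTower.of_algebraMap_eq fun _ => rfl
  have : FaithfulSMul R' κ := (faithfulSMul_iff_algebraMap_injective R' κ).2
    ((IsFractionRing.injective (A ⧸ P) κ).comp hinj)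
  let : Algebra (FractionRing R') κ := FractionRing.liftAlgebra R' κ
  have : IsScalarTower R' (FractionRing R') κ := FractionRing.isScalarTower_liftAlgebra R' κ
  have : Module.Finite R' (A ⧸ P) := hfin
  have : Module.Finite (FractionRing R') κ := finite_fractionField (S := R') (B := A ⧸ P)
  have : CharZero κ := charZero_of_injective_ringHom (f := (algebraMap A κ).comp (algebraMap k A)) (RingHom.injective _)
  have : CharZero (FractionRing R') :=
    ⟨fun a b hab => Nat.cast_injective (R := κ) (by simpa using congrArg (algebraMap (FractionRing R') κ) hab)⟩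
  let lin : P →ₗ[A] (Fin m → κ) :=
    { toFun := fun x => d x
      map_add' := fun x y => map_add d _ _
      map_smul' := fun c x => by
        rw [RingHom.id_apply, Submodule.coe_smul, smul_eq_mul, Derivation.leibniz]
        refine add_eq_left.2 ?_
        rw [← algebraMap_smul κ (x : A), Ideal.algebraMap_residueField_eq_zero.mpr x.2, zero_smul] }
  have hglin : LinearIndependent κ fun i => lin ⟨g i, hqP (hgq i)⟩ := by
    show LinearIndependent κ fun i => d (g i)
    simp only [hd]
    exact Pi.linearIndependent_single_one _ _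
  obtain ⟨D, hD⟩ := exists_derivations_separable (L₀ := FractionRing R') (L := κ) e
    (fun c => ⟨algebraMap k (ResidueField A) c, ((he _).trans (σ.commutes c)).symm⟩)
    P hs φ hφC hφX (fun z => (IsScalarTower.algebraMap_apply R' (FractionRing R') κ z).symm.trans
      (IsScalarTower.algebraMap_apply A (A ⧸ P) κ (φ z)).symm)
    lin (fun i => ⟨g i, hqP (hgq i)⟩) hglin
  exact ⟨m, D, g, hgq, hgs, hD⟩

theorem finite_kaehler_int (p : ℕ) [Fact p.Prime] [CharP k p]
    (hk : Module.Finite (frobenius k p).fieldRange k) : Module.Finite k (Ω[k⁄ℤ]) := by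
  let F0 := (frobenius k p).fieldRange
  let D0 : Derivation F0 k (Ω[k⁄ℤ]) := Derivation.mk'
    { toFun := D ℤ k
      map_add' := map_add _
      map_smul' := fun c x => by
        obtain ⟨y, hy⟩ := c.2
        rw [RingHom.id_apply, Subfield.smul_def, Subfield.smul_def, smul_eq_mul, Derivation.leibniz, ← hy,
          frobenius_def, Derivation.leibniz_pow, ← Nat.cast_smul_eq_nsmul k, CharP.cast_eq_zero, zero_smul,
          smul_zero, add_zero] }
    (D ℤ k).leibniz
  refine Module.Finite.of_surjective D0.liftKaehlerDifferential ?_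
  rw [← LinearMap.range_eq_top, eq_top_iff, ← KaehlerDifferential.span_range_derivation, Submodule.span_le]
  rintro _ ⟨x, rfl⟩
  exact ⟨D F0 k x, D0.liftKaehlerDifferential_comp_D x⟩

theorem jacobian_charP (p : ℕ) [Fact p.Prime] [CharP k p] (hk : Module.Finite (frobenius k p).fieldRange k)
    (hA : CAlgX.IsAdicFormallySmooth k A (maximalIdeal A))
    (q P : Ideal A) [P.IsPrime] (hqP : q ≤ P) [(P.map (Ideal.Quotient.mk q)).IsPrime]
    (h : CAlgX.IsAdicFormallySmooth k (Localization.AtPrime (P.map (Ideal.Quotient.mk q)))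
      (maximalIdeal (Localization.AtPrime (P.map (Ideal.Quotient.mk q))))) :
    ∃ (m : ℕ) (D : Fin m → Derivation k A A) (f : Fin m → A), (∀ i, f i ∈ q) ∧
      q.map (algebraMap A (Localization.AtPrime P)) =
        Ideal.span (Set.range fun i => algebraMap A (Localization.AtPrime P) (f i)) ∧
      Matrix.det (Matrix.of fun i j => D i (f j)) ∉ P := by
  classical
  have := (Cohen12.regular_of_formallySmooth_field hA).1
  obtain ⟨m, g, d, hgq, hgs, hd⟩ := exists_dual_derivation q P hqP h
  have : CharP (ResidueField A) p := charP_of_injective_algebraMap (algebraMap k (ResidueField A)).injective p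
  have hp0 : (p : A) = 0 := by rw [← map_natCast (algebraMap k A), CharP.cast_eq_zero, map_zero]
  obtain ⟨σ, hσ⟩ := Cohen12.exists_coefficientField A p hp0
  obtain ⟨r, e, he⟩ := exists_powerSeries_presentation σ hσ
  obtain ⟨s, φ, hs, hφC, hφX, hinj, hfin⟩ := exists_normalisation e P
  obtain ⟨n, f, hf, hgen, hns⟩ := exists_prime_generators e P hs
  let R' := MvPowerSeries (Fin s) (ResidueField A)
  let κ := P.ResidueField
  let : Algebra R' (A ⧸ P) := ((Ideal.Quotient.mk P).comp φ).toAlgebra
  let : Algebra R' κ := ((algebraMap (A ⧸ P) κ).comp ((Ideal.Quotient.mk P).comp φ)).toAlgebra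
  have : IsScalarTower R' (A ⧸ P) κ := IsScalarTower.of_algebraMap_eq fun _ => rfl
  have : FaithfulSMul R' κ := (faithfulSMul_iff_algebraMap_injective R' κ).2
    ((IsFractionRing.injective (A ⧸ P) κ).comp hinj)
  let : Algebra (FractionRing R') κ := FractionRing.liftAlgebra R' κ
  have : IsScalarTower R' (FractionRing R') κ := FractionRing.isScalarTower_liftAlgebra R' κ
  have : Module.Finite R' (A ⧸ P) := hfin
  have : Module.Finite (FractionRing R') κ := finite_fractionField (S := R') (B := A ⧸ P)
  -- a basis of the differentials of `k`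
  have := finite_kaehler_int p hk
  obtain ⟨τ, c, -, hcspan, hcli⟩ := exists_linearIndependent' k (D ℤ k)
  rw [KaehlerDifferential.span_range_derivation] at hcspan
  let bc := Module.Basis.mk hcli hcspan.ge
  have : Fintype τ := FiniteDimensional.fintypeBasisIndex bc
  let t := Fintype.card τ
  let et := Fintype.equivFin τ
  let a : Fin (t + m) → A := Fin.addCases (fun l => algebraMap k A (c (et.symm l))) g
  let dA : Derivation ℤ A (Fin m → κ) := d.restrictScalars ℤ
  -- extensions of derivations of `k`
  let AP := Localization.AtPrime P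
  have hext := KCrit13.extDer_of_injective (KCrit13.injective_of_isAdicFormallySmooth
    (GeomFS13.isAdicFormallySmooth_atPrime hA P))
  have hdual : ∀ l : τ, ∃ E : Derivation ℤ A κ, ∀ l', E (algebraMap k A (c l')) = if l' = l then 1 else 0 := by
    intro l
    let δ : k →+ κ := (algebraMap k κ).toAddMonoidHom.comp
      (((bc.coord l).compDer (D ℤ k)).toLinearMap.toAddMonoidHom)
    obtain ⟨E, hE⟩ := hext κ (fun x hx v => by
        rw [← algebraMap_smul κ x v, show algebraMap AP κ x = 0 from (residue_eq_zero_iff x).2 hx, zero_smul]) δ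
      (fun x y => by
        show algebraMap k κ (((bc.coord l).compDer (D ℤ k)) (x * y)) = _
        rw [Derivation.leibniz, map_add, smul_eq_mul, smul_eq_mul, map_mul, map_mul,
          ← algebraMap_smul κ (algebraMap k AP x), ← algebraMap_smul κ (algebraMap k AP y),
          ← IsScalarTower.algebraMap_apply, ← IsScalarTower.algebraMap_apply]
        rfl)
    let _ : Algebra ℤ AP := Ring.toIntAlgebra AP
    refine ⟨Derivation.mk'
      (AddMonoidHom.mk' (fun x => E (algebraMap A AP x)) fun x y => by rw [map_add, map_add]).toIntLinearMap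
      fun x y => by
        show E (algebraMap A AP (x * y)) = x • E (algebraMap A AP y) + y • E (algebraMap A AP x)
        rw [map_mul, Derivation.leibniz, algebraMap_smul, algebraMap_smul], fun l' => ?_⟩
    show E (algebraMap A AP (algebraMap k A (c l'))) = _
    rw [← IsScalarTower.algebraMap_apply k A AP, hE]
    show algebraMap k κ (bc.coord l (D ℤ k (c l'))) = _
    rw [show D ℤ k (c l') = bc l' from (Module.Basis.mk_apply hcli _ l').symm, Module.Basis.coord_apply,
      Module.Basis.repr_self, Finsupp.single_apply, apply_ite (algebraMap k κ), map_one, map_zero]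
  choose E hE using hdual
  have ha : LinearIndependent κ fun i => (1 : κ) ⊗ₜ[A] D ℤ A (a i) := by
    rw [Fintype.linearIndependent_iff]
    intro w hw
    have hright : ∀ j, w (Fin.natAdd t j) = 0 := by
      have h1 := congrArg (dA.liftKaehlerDifferential.liftBaseChange κ) hw
      simp only [map_sum, map_smul, LinearMap.liftBaseChange_tmul, one_smul,
        Derivation.liftKaehlerDifferential_comp_D, map_zero] at h1
      rw [Fin.sum_univ_add] at h1
      simp only [a, Fin.addCases_left, Fin.addCases_right, dA, Derivation.coe_restrictScalars,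
        Derivation.map_algebraMap, smul_zero, Finset.sum_const_zero, zero_add, hd] at h1
      intro j
      have h2 := congrFun h1 j
      simpa [Finset.sum_apply, Pi.single_apply] using h2
    intro i
    induction i using Fin.addCases with
    | right j => exact hright j
    | left l =>
      have h1 := congrArg ((E (et.symm l)).liftKaehlerDifferential.liftBaseChange κ) hw
      simp only [map_sum, map_smul, LinearMap.liftBaseChange_tmul, one_smul,
        Derivation.liftKaehlerDifferential_comp_D, map_zero] at h1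
      rw [Fin.sum_univ_add] at h1
      simpa [a, hright, hE, et.symm.injective.eq_iff] using h1
  have hφL : ∀ z, algebraMap R' κ z = algebraMap A κ (φ z) := fun z =>
    (IsScalarTower.algebraMap_apply A (A ⧸ P) κ (φ z)).symm
  have : CharP (ResidueField A) p := inferInstance
  obtain ⟨Δ, hΔ⟩ := exists_derivations_charP p (L₀ := FractionRing R') (κ := κ) P e φ hφL hφC hφX f hf hgen hns a ha
  let M := Matrix.of fun i j => Δ j (a i)
  let D' : Fin (t + m) → Derivation ℤ A A := fun i => ∑ j, M.adjugate j i • Δ j
  have hD' : ∀ i l, D' i (a l) = if l = i then M.det else 0 := by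
    intro i l
    simp only [D', sum_derivation_apply, Derivation.smul_apply, smul_eq_mul]
    have h2 := congrFun (congrFun (Matrix.mul_adjugate M) l) i
    rw [Matrix.mul_apply, Matrix.smul_apply, Matrix.one_apply, smul_eq_mul, mul_ite, mul_one, mul_zero] at h2
    rw [← h2]
    exact Finset.sum_congr rfl fun j _ => mul_comm _ _
  have hkill : ∀ (j : Fin m) (x : k), D' (Fin.natAdd t j) (algebraMap k A x) = 0 := by
    intro j
    let δ : Derivation ℤ k A := (D' (Fin.natAdd t j)).compAlgebraMap k
    have h0 : δ.liftKaehlerDifferential = 0 := bc.ext fun l => by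
      rw [LinearMap.zero_apply, show bc l = D ℤ k (c l) from Module.Basis.mk_apply hcli _ l,
        Derivation.liftKaehlerDifferential_comp_D]
      show D' (Fin.natAdd t j) (algebraMap k A (c l)) = 0
      have h1 := hD' (Fin.natAdd t j) (Fin.castAdd m (et l))
      simp only [a, Fin.addCases_left, Equiv.symm_apply_apply] at h1
      rw [h1, if_neg]
      intro h2
      have := congrArg Fin.val h2
      simp only [Fin.val_castAdd, Fin.val_natAdd] at this
      have := (et l).isLt
      omega
    intro x
    show δ x = 0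
    rw [← δ.liftKaehlerDifferential_comp_D x, h0, LinearMap.zero_apply]
  choose Df hDf using fun j => exists_rel_derivation (D' (Fin.natAdd t j)) (hkill j)
  refine ⟨m, Df, g, hgq, hgs, ?_⟩
  have hJ : (Matrix.of fun i j => Df i (g j)) = Matrix.diagonal fun _ : Fin m => M.det := by
    ext i j
    rw [Matrix.of_apply, hDf]
    have h1 := hD' (Fin.natAdd t i) (Fin.natAdd t j)
    simp only [a, Fin.addCases_right, Fin.natAdd_inj] at h1
    rw [h1, Matrix.diagonal_apply]
    by_cases hij : i = j
    · simp [hij]
    · simp [hij, Ne.symm hij]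
  rw [hJ, Matrix.det_diagonal, Finset.prod_const]
  exact fun hmem => hΔ (‹P.IsPrime›.mem_of_pow_mem _ hmem)

theorem jacobian_of_isAdicFormallySmooth (p : ℕ) [ExpChar k p]
    (hk : p = 1 ∨ Module.Finite (frobenius k p).fieldRange k)
    (hA : CAlgX.IsAdicFormallySmooth k A (maximalIdeal A))
    (q P : Ideal A) [P.IsPrime] (hqP : q ≤ P) [(P.map (Ideal.Quotient.mk q)).IsPrime] :
    CAlgX.IsAdicFormallySmooth k (Localization.AtPrime (P.map (Ideal.Quotient.mk q)))
        (maximalIdeal (Localization.AtPrime (P.map (Ideal.Quotient.mk q)))) ↔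
      ∃ (m : ℕ) (D : Fin m → Derivation k A A) (f : Fin m → A), (∀ i, f i ∈ q) ∧
        q.map (algebraMap A (Localization.AtPrime P)) =
          Ideal.span (Set.range fun i => algebraMap A (Localization.AtPrime P) (f i)) ∧
        Matrix.det (Matrix.of fun i j => D i (f j)) ∉ P := by
  constructor
  · intro h
    cases ‹ExpChar k p› with
    | zero => exact jacobian_charZero hA q P hqP h
    | prime hp =>
      have : Fact p.Prime := ⟨hp⟩
      exact jacobian_charP p (hk.resolve_left hp.ne_one) hA q P hqP h
  · rintro ⟨m, D, f, hf, hgen, hdet⟩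
    exact isAdicFormallySmooth_of_jacobian q P hqP (GeomFS13.isAdicFormallySmooth_atPrime hA P) D f hf hgen hdet

end Main

end Groth.Agent.EGA4Alg4.NagJac13
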