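import Groth.Agent.EGA4Alg4.NagJacFields
import Groth.Agent.EGA4H10.PSFamily
import Groth.Agent.EGA4H10.FormalDer
import Groth.Agent.OmegaHat14.CharP
import Mathlib.RingTheory.MvPowerSeries.Derivative

/-!
# Formal derivations of power series rings and the small constant fields
-/

set_option autoImplicit false
set_option maxHeartbeats 400000

universe u

open KaehlerDifferential IsLocalRing MvPowerSeries

namespace Groth.Agent.EGA4Alg4.NagJac13

/-- An additive map killing constants and linear over the variables vanishes. -/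
theorem eq_zero_of_decomp {R B : Type u} [CommRing R] [CommRing B] [IsLocalRing B] [IsNoetherianRing B]
    (f : R →+ B) (S : Set R) {s : ℕ} (x : Fin s → R) (y : Fin s → B) (hy : ∀ i, y i ∈ maximalIdeal B)
    (hdec : ∀ h ∈ S, ∃ (c : R) (hs : Fin s → R), (∀ i, hs i ∈ S) ∧ f c = 0 ∧ h = c + ∑ i, x i * hs i)
    (hmul : ∀ i, ∀ h ∈ S, f (x i * h) = y i * f h) : ∀ h ∈ S, f h = 0 := by
  have key : ∀ (n : ℕ), ∀ h ∈ S, f h ∈ maximalIdeal B ^ n := by
    intro n
    induction n with
    | zero => simp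
    | succ n ih =>
      intro h hh
      obtain ⟨c, hs, hsS, hc, rfl⟩ := hdec h hh
      rw [map_add, hc, zero_add, map_sum]
      refine sum_mem fun i _ => ?_
      rw [hmul i _ (hsS i), pow_succ']
      exact Ideal.mul_mem_mul (hy i) (ih _ (hsS i))
  intro h hh
  have := (Ideal.iInf_pow_eq_bot_of_isLocalRing (maximalIdeal B) (maximalIdeal.isMaximal B).ne_top).le
    (Submodule.mem_iInf _ |>.mpr fun n => key n h hh)
  simpa using this

theorem exists_decomp_step {K : Type u} [CommRing K] {s : ℕ} (q : ℕ) (hq : 0 < q) (h : MvPowerSeries (Fin s) K)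
    (hdiv : ∀ m, coeff m h ≠ 0 → ∀ i, q ∣ m i) :
    ∃ hs : Fin s → MvPowerSeries (Fin s) K, h = C (constantCoeff h) + ∑ i, X i ^ q * hs i ∧
      ∀ i m, coeff m (hs i) = 0 ∨ coeff m (hs i) = coeff (m + Finsupp.single i q) h := by
  classical
  let hs : Fin s → MvPowerSeries (Fin s) K := fun i m =>
    if ∀ j < i, m j = 0 then coeff (m + Finsupp.single i q) h else 0
  have hhs : ∀ i m, coeff m (hs i) = if ∀ j < i, m j = 0 then coeff (m + Finsupp.single i q) h else 0 :=
    fun i m => rfl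
  refine ⟨hs, ?_, fun i m => ?_⟩
  · ext n
    have hterm : ∀ i, coeff n (X i ^ q * hs i) =
        if q ≤ n i ∧ ∀ j < i, n j = 0 then coeff n h else 0 := by
      intro i
      rw [X_pow_eq, coeff_monomial_mul, one_mul, hhs]
      by_cases hle : Finsupp.single i q ≤ n
      · have hqi : q ≤ n i := by simpa using hle i
        rw [if_pos hle, tsub_add_cancel_of_le hle]
        refine if_congr ?_ rfl rfl
        simp only [hqi, true_and]
        exact forall₂_congr fun j hj => by simp [Finsupp.single_eq_of_ne hj.ne]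
      · have hqi : ¬ q ≤ n i := fun hq' => hle (Finsupp.single_le_iff.2 hq')
        rw [if_neg hle, if_neg fun h => hqi h.1]
    rw [map_add, map_sum, coeff_C]
    simp only [hterm]
    by_cases hn : n = 0
    · subst hn
      rw [if_pos rfl, Finset.sum_eq_zero fun i _ => ?_, add_zero, coeff_zero_eq_constantCoeff]
      rw [if_neg]
      intro h'
      simp at h'
      omega
    · rw [if_neg hn, zero_add]
      by_cases hc : coeff n h = 0
      · simp [hc]
      · have hne : (Finset.univ.filter fun j => n j ≠ 0).Nonempty := by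
          obtain ⟨j, hj⟩ := Finsupp.ne_iff.1 hn
          exact ⟨j, by simpa using hj⟩
        set i₀ := (Finset.univ.filter fun j => n j ≠ 0).min' hne
        have hi₀ : n i₀ ≠ 0 := (Finset.mem_filter.1 ((Finset.univ.filter fun j => n j ≠ 0).min'_mem hne)).2
        have hmin : ∀ j < i₀, n j = 0 := fun j hj => by
          by_contra h'
          exact absurd (Finset.min'_le _ j (by simpa using h')) (not_le.2 hj)
        rw [Finset.sum_eq_single i₀ (fun i _ hi => ?_) (fun h' => absurd (Finset.mem_univ _) h'), if_pos]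
        · exact ⟨Nat.le_of_dvd (Nat.pos_of_ne_zero hi₀) (hdiv n hc i₀), hmin⟩
        · rw [if_neg]
          rintro ⟨hqi, hlt⟩
          rcases lt_or_gt_of_ne hi with h' | h'
          · exact absurd (hmin i h') (by omega)
          · exact hi₀ (hlt i₀ h')
  · rw [hhs]
    split_ifs with h'
    · exact Or.inr rfl
    · exact Or.inl rfl

/-- The coefficientwise extension of a derivation. -/
theorem exists_mapDer {K : Type u} [CommRing K] {r : ℕ} (δ : Derivation ℤ K K) :
    ∃ Δ : Derivation ℤ (MvPowerSeries (Fin r) K) (MvPowerSeries (Fin r) K),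
      ∀ m f, coeff m (Δ f) = δ (coeff m f) := by
  classical
  let T : MvPowerSeries (Fin r) K → MvPowerSeries (Fin r) K := fun f m => δ (coeff m f)
  have hT : ∀ m f, coeff m (T f) = δ (coeff m f) := fun _ _ => rfl
  refine ⟨Derivation.mk' (AddMonoidHom.mk' T fun f g => ?_).toIntLinearMap fun f g => ?_, fun m f => rfl⟩
  · ext m
    simp [hT]
  · show T (f * g) = f * T g + g * T f
    ext m
    rw [mul_comm g (T f), map_add, hT, coeff_mul, coeff_mul, coeff_mul, map_sum, ← Finset.sum_add_distrib]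
    refine Finset.sum_congr rfl fun x _ => ?_
    rw [δ.leibniz, hT, hT, smul_eq_mul, smul_eq_mul, mul_comm (coeff x.2 g)]

section Residue

variable {A κ : Type u} [CommRing A] (P : Ideal A) [P.IsPrime] [Field κ] [Algebra A κ] [Algebra (A ⧸ P) κ]
  [IsScalarTower A (A ⧸ P) κ] [IsFractionRing (A ⧸ P) κ] {M : Type u} [AddCommGroup M]
  [Module κ M] [Module A M] [IsScalarTower A κ M]

omit [P.IsPrime] in
/-- Derivations killing a prime extend to its residue field. -/
theorem exists_derivation_residue (d : Derivation ℤ A M) (hd : ∀ x ∈ P, d x = 0) :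
    ∃ δ : Derivation ℤ κ M, ∀ a, δ (algebraMap A κ a) = d a := by
  let _ : Module κᵐᵒᵖ M := Module.compHom M ((RingHom.id κ).fromOpposite mul_comm)
  have : IsCentralScalar κ M := ⟨fun _ _ => rfl⟩
  obtain ⟨h, hh1, hh2⟩ := EGA4H10.exists_dualHom (T := κ) d
  let h' : A ⧸ P →+* TrivSqZeroExt κ M := Ideal.Quotient.lift P h fun x hx =>
    TrivSqZeroExt.ext (by
      rw [hh1, TrivSqZeroExt.fst_zero, IsScalarTower.algebraMap_apply A (A ⧸ P) κ, Ideal.Quotient.algebraMap_eq,
        Ideal.Quotient.eq_zero_iff_mem.mpr hx, map_zero])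
      (by rw [hh2, TrivSqZeroExt.snd_zero]; exact hd x hx)
  have hfst' : ∀ z, (h' z).fst = algebraMap (A ⧸ P) κ z := fun z => by
    obtain ⟨z, rfl⟩ := Ideal.Quotient.mk_surjective z
    rw [← Ideal.Quotient.algebraMap_eq, ← IsScalarTower.algebraMap_apply]
    exact hh1 z
  have hu : ∀ s : nonZeroDivisors (A ⧸ P), IsUnit (h' s) := fun s => by
    rw [TrivSqZeroExt.isUnit_iff_isUnit_fst, hfst']
    exact IsLocalization.map_units κ s
  let ψ : κ →+* TrivSqZeroExt κ M := IsLocalization.lift hu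
  have hψ : ∀ z, (ψ z).fst = z := by
    intro z
    have : (EGA4H10.fstRing κ M).comp ψ = RingHom.id κ := by
      refine IsLocalization.ringHom_ext (nonZeroDivisors (A ⧸ P)) (RingHom.ext fun c => ?_)
      simp only [RingHom.comp_apply, ψ, IsLocalization.lift_eq, EGA4H10.fstRing_apply, hfst', RingHom.id_apply]
    exact RingHom.congr_fun this z
  obtain ⟨d', hl, hd'⟩ := EGA4H10.exists_der_of_dual ψ hψ
  refine ⟨Derivation.mk' d'.toIntLinearMap hl, fun a => ?_⟩
  show d' (algebraMap A κ a) = d a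
  rw [hd', IsScalarTower.algebraMap_apply A (A ⧸ P) κ, IsLocalization.lift_eq, Ideal.Quotient.algebraMap_eq]
  exact hh2 a

end Residue

section Family

variable (p : ℕ) [Fact p.Prime] {K : Type u} [Field K] [CharP K p]

theorem exists_pow_of_forall {ι : Type u} [Nonempty ι] (kF : ι → Subfield K)
    (hroot : ∀ x, (∀ i, x ∈ kF i) → ∃ y, y ^ p = x) {s : ℕ} (h : MvPowerSeries (Fin s) K)
    (hh : ∀ i, h ∈ EGA4H10.psSub p K s (kF i)) : ∃ g, g ^ p = h := by
  classical
  have hp0 : p ≠ 0 := (Fact.out : p.Prime).ne_zero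
  choose g hg using fun m : Fin s →₀ ℕ => hroot (coeff (p • m) h) fun i => (hh i _).1
  let G : MvPowerSeries (Fin s) K := fun m => g m
  refine ⟨G, ?_⟩
  ext m
  rw [EGA4H10.pow_eq_expand p K s G, coeff_map]
  by_cases hd : ∀ i, p ∣ m i
  · obtain ⟨q, rfl⟩ : ∃ q, p • q = m :=
      ⟨m.mapRange (· / p) (by simp), by ext i; simp [Nat.mul_div_cancel' (hd i)]⟩
    rw [coeff_expand_smul]
    exact hg q
  · obtain ⟨j, hj⟩ := not_forall.1 hd
    obtain ⟨i⟩ := ‹Nonempty ι›
    rw [coeff_expand_of_not_dvd p hp0 _ hj, map_zero]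
    by_contra hc
    exact hj ((hh i m).2 (Ne.symm hc) j)

theorem pow_mem_psSub (k₁ : Subfield K) (hk₁ : ∀ x, x ^ p ∈ k₁) {s : ℕ} (g : MvPowerSeries (Fin s) K) :
    g ^ p ∈ EGA4H10.psSub p K s k₁ := by
  intro m
  rw [EGA4H10.pow_eq_expand p K s g, coeff_map]
  refine ⟨hk₁ _, fun hne j => ?_⟩
  by_contra hj
  exact hne (by rw [coeff_expand_of_not_dvd p (Fact.out : p.Prime).ne_zero g hj, map_zero])

omit [CharP K p] in
theorem psSub_decomp (k₁ : Subfield K) [Module.Finite k₁ K] {s : ℕ} (f : MvPowerSeries (Fin s) K) :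
    ∃ g : (Fin s → Fin p) × Fin (Module.finrank k₁ K) → MvPowerSeries (Fin s) K,
      (∀ x, g x ∈ EGA4H10.psSub p K s k₁) ∧
      f = ∑ x, g x * monomial (Finsupp.equivFunOnFinite.symm fun i => (x.1 i : ℕ)) (Module.finBasis k₁ K x.2) := by
  classical
  have hp : 0 < p := (Fact.out : p.Prime).pos
  let b := Module.finBasis k₁ K
  let ex : (Fin s → Fin p) → Fin s →₀ ℕ := fun e => Finsupp.equivFunOnFinite.symm fun i => (e i : ℕ)
  let g : (Fin s → Fin p) × Fin (Module.finrank k₁ K) → MvPowerSeries (Fin s) K := fun x m =>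
    if ∀ i, p ∣ m i then (b.repr (coeff (m + ex x.1) f) x.2 : K) else 0
  have hg : ∀ x m, coeff m (g x) = if ∀ i, p ∣ m i then (b.repr (coeff (m + ex x.1) f) x.2 : K) else 0 :=
    fun _ _ => rfl
  refine ⟨g, fun x m => ⟨?_, fun h => ?_⟩, ?_⟩
  · rw [hg]
    split_ifs
    · exact SetLike.coe_mem _
    · exact zero_mem _
  · by_contra hc
    exact h (by rw [hg, if_neg hc])
  ext m
  let e₀ : Fin s → Fin p := fun i => ⟨m i % p, Nat.mod_lt _ hp⟩
  have hle : ex e₀ ≤ m := fun i => Nat.mod_le _ _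
  rw [map_sum, Fintype.sum_prod_type]
  simp only [mul_comm (g _), coeff_monomial_mul]
  symm
  rw [Finset.sum_eq_single e₀ _ (fun h => absurd (Finset.mem_univ _) h)]
  · have hd : ∀ i, p ∣ (m - ex e₀) i := fun i => by simpa [ex, e₀] using Nat.dvd_sub_mod (n := p) (m i)
    conv_rhs => rw [← b.sum_repr (coeff m f)]
    refine Finset.sum_congr rfl fun l _ => ?_
    rw [if_pos (show Finsupp.equivFunOnFinite.symm (fun i => (e₀ i : ℕ)) ≤ m from hle), hg]
    simp only [ex] at hd hle ⊢
    rw [if_pos hd, tsub_add_cancel_of_le hle, Subfield.smul_def, smul_eq_mul, mul_comm]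
  · intro e _ hne
    refine Finset.sum_eq_zero fun l _ => ?_
    split_ifs with h1
    · rw [hg]
      split_ifs with h2
      · refine absurd (funext fun i => Fin.ext ?_) hne
        obtain ⟨a, ha⟩ := h2 i
        have h1i : (e i : ℕ) ≤ m i := by simpa using h1 i
        simp only [Finsupp.tsub_apply, Finsupp.coe_equivFunOnFinite_symm] at ha
        show (e i : ℕ) = m i % p
        rw [show m i = e i + p * a by omega, Nat.add_mul_mod_self_left, Nat.mod_eq_of_lt (e i).isLt]
      · rw [mul_zero]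
    · rfl

theorem finrank_le_pow_kaehler (k₁ : Subfield K) [Module.Finite k₁ K] (hk₁ : ∀ x, x ^ p ∈ k₁) :
    Module.finrank k₁ K ≤ p ^ Module.finrank K (Ω[K⁄k₁]) := by
  obtain ⟨τ, a, -, hspan, hli⟩ := exists_linearIndependent' K (D k₁ K)
  rw [KaehlerDifferential.span_range_derivation] at hspan
  let b := Module.Basis.mk hli hspan.ge
  have : Fintype τ := FiniteDimensional.fintypeBasisIndex b
  rw [Module.finrank_eq_card_basis b]
  exact OmegaHat14.finrank_le_pow_of_span p (fun y => ⟨⟨y ^ p, hk₁ y⟩, rfl⟩) a hspan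

set_option synthInstance.maxHeartbeats 100000 in
/-- The constant fields of a power series ring inside a finite extension of its fraction field. -/
theorem exists_small_constants {s : ℕ} {L₀ κ : Type u} [Field L₀] [Field κ]
    [Algebra (MvPowerSeries (Fin s) K) L₀] [IsFractionRing (MvPowerSeries (Fin s) K) L₀]
    [Algebra (MvPowerSeries (Fin s) K) κ] [Algebra L₀ κ] [IsScalarTower (MvPowerSeries (Fin s) K) L₀ κ]
    [FiniteDimensional L₀ κ] [CharP κ p] {σ : Type u} [Fintype σ] (b : σ → κ)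
    (hb : LinearIndependent κ (fun l => D ℤ κ (b l))) :
    ∃ k₁ : Subfield K, (∀ x, x ^ p ∈ k₁) ∧ Module.Finite k₁ K ∧
      LinearIndependent κ (fun l =>
        D (Subfield.closure (algebraMap (MvPowerSeries (Fin s) K) κ '' EGA4H10.psSub p K s k₁)) κ (b l)) ∧
      Module.Finite κ (Ω[κ⁄Subfield.closure (algebraMap (MvPowerSeries (Fin s) K) κ '' EGA4H10.psSub p K s k₁)]) ∧
      Module.finrank κ (Ω[κ⁄Subfield.closure (algebraMap (MvPowerSeries (Fin s) K) κ '' EGA4H10.psSub p K s k₁)]) ≤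
        s + Module.finrank K (Ω[K⁄k₁]) := by
  classical
  let R' := MvPowerSeries (Fin s) K
  obtain ⟨ι, hι, kF, hdir, hfin, hpow, hroot⟩ := EGA4H10.exists_field_family p K
  let ρ := algebraMap R' κ
  have hinj : Function.Injective ρ := by
    show Function.Injective (algebraMap R' κ)
    rw [IsScalarTower.algebraMap_eq R' L₀ κ]
    exact (algebraMap L₀ κ).injective.comp (IsFractionRing.injective R' L₀)
  have hp : p = p - 1 + 1 := (Nat.succ_pred_eq_of_pos (Fact.out : p.Prime).pos).symm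
  let Kf : ι → Subfield κ := fun i => Subfield.closure (ρ '' EGA4H10.psSub p K s (kF i))
  have hmem : ∀ i g, g ∈ EGA4H10.psSub p K s (kF i) → ρ g ∈ Kf i := fun i g hg =>
    Subfield.subset_closure ⟨g, hg, rfl⟩
  have hdirK : ∀ a b, ∃ c, Kf c ≤ Kf a ⊓ Kf b := fun a b => by
    obtain ⟨c, hc⟩ := hdir a b
    refine ⟨c, le_inf (Subfield.closure_mono (Set.image_mono ?_)) (Subfield.closure_mono (Set.image_mono ?_))⟩
    · exact fun f hf m => ⟨(hc.trans inf_le_left) (hf m).1, (hf m).2⟩
    · exact fun f hf m => ⟨(hc.trans inf_le_right) (hf m).1, (hf m).2⟩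
  have hfrac : ∀ i z, z ∈ Kf i → ∃ u ∈ EGA4H10.psSub p K s (kF i), ∃ v ∈ EGA4H10.psSub p K s (kF i),
      v ≠ 0 ∧ z * ρ v = ρ u := by
    intro i z hz
    obtain ⟨y, hy, w, hw, rfl⟩ := Subfield.mem_closure_iff.1 hz
    have hcl : Subring.closure (ρ '' EGA4H10.psSub p K s (kF i)) ≤ (EGA4H10.psSub p K s (kF i)).map ρ :=
      Subring.closure_le.2 (by rintro _ ⟨r, hr, rfl⟩; exact ⟨r, hr, rfl⟩)
    obtain ⟨u, hu, rfl⟩ := hcl hy
    obtain ⟨v, hv, rfl⟩ := hcl hw
    by_cases hv0 : v = 0
    · exact ⟨0, zero_mem _, 1, one_mem _, one_ne_zero, by simp [hv0]⟩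
    · exact ⟨u, hu, v, hv, hv0, div_mul_cancel₀ _ ((map_ne_zero_iff _ hinj).2 hv0)⟩
  have hpowK : ∀ i (c : L₀), algebraMap L₀ κ c ^ p ∈ Kf i := by
    intro i c
    obtain ⟨u, v, -, rfl⟩ := IsFractionRing.div_surjective (A := R') c
    rw [map_div₀, div_pow, ← IsScalarTower.algebraMap_apply, ← IsScalarTower.algebraMap_apply, ← map_pow,
      ← map_pow]
    exact div_mem (hmem i _ (pow_mem_psSub p (kF i) (hpow i) u)) (hmem i _ (pow_mem_psSub p (kF i) (hpow i) v))
  have hrootK : ∀ z : κ, (∀ i, z ∈ Kf i) → ∃ c : L₀, z = algebraMap L₀ κ c ^ p := by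
    intro z hz
    have i₁ : ι := Classical.arbitrary ι
    obtain ⟨u, hu, v, hv, hv0, huv⟩ := hfrac i₁ z (hz i₁)
    have hvL : ρ v ≠ 0 := (map_ne_zero_iff _ hinj).2 hv0
    obtain ⟨g, hg⟩ := exists_pow_of_forall p kF hroot (u * v ^ (p - 1)) fun j => by
      obtain ⟨u', hu', v', hv', hv0', huv'⟩ := hfrac j z (hz j)
      refine EGA4H10.saturated_psSub p K s (kF j) _ v' hv' hv0' ?_
      have : u * v ^ (p - 1) * v' = u' * v ^ p := hinj (by
        rw [hp]
        simp only [map_mul, map_pow, ← huv, ← huv', Nat.add_sub_cancel]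
        ring)
      rw [this]
      exact mul_mem hu' (pow_mem_psSub p (kF j) (hpow j) v)
    refine ⟨algebraMap R' L₀ g / algebraMap R' L₀ v, ?_⟩
    rw [map_div₀, ← IsScalarTower.algebraMap_apply, ← IsScalarTower.algebraMap_apply, div_pow,
      eq_div_iff (pow_ne_zero _ hvL), ← map_pow ρ g, hg, map_mul, ← huv, map_pow, mul_assoc]
    congr 1
    conv_lhs => rw [hp]
    exact pow_succ' _ _
  let N : ι → ℕ := fun i => s + Module.finrank K (Ω[K⁄kF i])
  let T : ι → Finset κ := fun i =>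
    (Finset.univ : Finset ((Fin s → Fin p) × Fin (Module.finrank (kF i) K))).image fun x =>
      ρ (monomial (Finsupp.equivFunOnFinite.symm fun j => (x.1 j : ℕ))
        ((have := hfin i; Module.finBasis (kF i) K) x.2))
  have hT : ∀ i, (T i).card ≤ p ^ N i := fun i => by
    have := hfin i
    refine Finset.card_image_le.trans ?_
    rw [Finset.card_univ, Fintype.card_prod, Fintype.card_fun, Fintype.card_fin, Fintype.card_fin,
      Fintype.card_fin, pow_add]
    exact Nat.mul_le_mul_left _ (finrank_le_pow_kaehler p (kF i) (hpow i))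
  have hspan : ∀ i (c : L₀), algebraMap L₀ κ c ∈ Submodule.span (Kf i) (T i : Set κ) := by
    intro i c
    have := hfin i
    obtain ⟨u, v, hv, rfl⟩ := IsFractionRing.div_surjective (A := R') c
    rw [map_div₀, ← IsScalarTower.algebraMap_apply, ← IsScalarTower.algebraMap_apply]
    obtain ⟨g, hg, hgf⟩ := psSub_decomp p (kF i) (u * v ^ (p - 1))
    have h1 : ρ (u * v ^ (p - 1)) ∈ Submodule.span (Kf i) (T i : Set κ) := by
      rw [hgf, map_sum]
      refine sum_mem fun x _ => ?_
      rw [map_mul]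
      exact Submodule.smul_mem _ (⟨_, hmem i _ (hg x)⟩ : Kf i)
        (Submodule.subset_span (Finset.mem_coe.2 (Finset.mem_image_of_mem _ (Finset.mem_univ x))))
    have h2 := Submodule.smul_mem _ (⟨(ρ (v ^ p))⁻¹, inv_mem (hmem i _ (pow_mem_psSub p (kF i) (hpow i) v))⟩ : Kf i) h1
    have h3 : algebraMap R' κ u / algebraMap R' κ v = (ρ (v ^ p))⁻¹ * ρ (u * v ^ (p - 1)) := by
      have hv0 : ρ v ≠ 0 := (map_ne_zero_iff _ hinj).2 (nonZeroDivisors.ne_zero hv)
      rw [map_mul, map_pow, map_pow, inv_mul_eq_div, eq_div_iff (pow_ne_zero _ hv0),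
        show ρ v ^ p = ρ v ^ (p - 1) * ρ v from by rw [← pow_succ, ← hp]]
      rw [← mul_assoc, mul_comm (_ / _) (ρ v ^ (p - 1)), mul_assoc, div_mul_cancel₀ _ hv0, mul_comm]
    rw [h3]
    exact h2
  obtain ⟨i, h1, h2, h3⟩ := exists_small (L₀ := L₀) p Kf hdirK hpowK hrootK N T hT hspan b hb
  exact ⟨kF i, hpow i, hfin i, h1, h2, h3⟩

end Family

end Groth.Agent.EGA4Alg4.NagJac13
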