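import Mathlib
import Groth.Agent.FSAdic12.LocSmooth

/-!
# The Zariski Jacobian criterion

For a Noetherian formally smooth `A`-algebra `B`, the localisation of `B/J` at a prime is formally smooth
over `A` if and only if `J` is locally generated by elements with a non-vanishing Jacobian determinant
for suitable `A`-derivations of `B`.
-/

set_option autoImplicit false

universe u

open TensorProduct KaehlerDifferential

namespace Groth.Agent.EGA4Alg4.ZJac13

/-- A finite generating family of minimal length has coefficients unique modulo the maximal ideal. -/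
theorem exists_minimal_generators {B R : Type u} [CommRing B] [CommRing R] [IsLocalRing R] [Algebra B R]
    (J : Ideal B) (hJ : J.FG) :
    ∃ (m : ℕ) (f : Fin m → B), (∀ i, f i ∈ J) ∧
      J.map (algebraMap B R) = Ideal.span (Set.range fun i => algebraMap B R (f i)) ∧
      ∀ r : Fin m → R, (∑ i, r i * algebraMap B R (f i)) ∈ IsLocalRing.maximalIdeal R • J.map (algebraMap B R) →
        ∀ i, r i ∈ IsLocalRing.maximalIdeal R := by
  classical
  let P : ℕ → Prop := fun m => ∃ f : Fin m → B, (∀ i, f i ∈ J) ∧
    J.map (algebraMap B R) = Ideal.span (Set.range fun i => algebraMap B R (f i))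
  have hP : ∃ m, P m := by
    obtain ⟨n, f, hf⟩ := Submodule.fg_iff_exists_fin_generating_family.mp hJ
    refine ⟨n, f, fun i => hf ▸ Submodule.subset_span (Set.mem_range_self i), ?_⟩
    rw [show J = Ideal.span (Set.range f) from hf.symm, Ideal.map_span, ← Set.range_comp]
    rfl
  obtain ⟨f, hfJ, hfs⟩ := Nat.find_spec hP
  refine ⟨Nat.find hP, f, hfJ, hfs, fun r hr i₀ => ?_⟩
  by_contra hi₀
  obtain ⟨m', hm'⟩ : ∃ m', Nat.find hP = m' + 1 := ⟨Nat.find hP - 1, by have := i₀.2; omega⟩
  let e : Fin m' → Fin (Nat.find hP) := fun i => Fin.cast hm'.symm ((Fin.cast hm' i₀).succAbove i)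
  refine Nat.find_min hP (m := m') (by omega) ⟨f ∘ e, fun i => hfJ _, ?_⟩
  set I := J.map (algebraMap B R) with hI
  set N := Ideal.span (Set.range fun i => algebraMap B R ((f ∘ e) i)) with hN
  refine le_antisymm ?_ ?_
  swap
  · rw [hN, Ideal.span_le]
    rintro _ ⟨i, rfl⟩
    exact Ideal.mem_map_of_mem _ (hfJ _)
  refine Submodule.le_of_le_smul_of_le_jacobson_bot (I := IsLocalRing.maximalIdeal R)
    ((hJ.map (algebraMap B R))) (IsLocalRing.maximalIdeal_le_jacobson _) ?_
  have hother : ∀ i, i ≠ i₀ → algebraMap B R (f i) ∈ N := by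
    intro i hi
    obtain ⟨j, hj⟩ := Fin.exists_succAbove_eq (x := Fin.cast hm' i) (y := Fin.cast hm' i₀)
      (fun h => hi (Fin.cast_injective _ h))
    refine Ideal.subset_span ⟨j, ?_⟩
    show algebraMap B R (f (Fin.cast hm'.symm ((Fin.cast hm' i₀).succAbove j))) = _
    rw [hj]
    rfl
  have hi0 : algebraMap B R (f i₀) ∈ N ⊔ IsLocalRing.maximalIdeal R • I := by
    obtain ⟨u, hu⟩ : IsUnit (r i₀) := by
      by_contra h
      exact hi₀ h
    have h1 : ∑ i ∈ Finset.univ.erase i₀, r i * algebraMap B R (f i) ∈ N :=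
      Submodule.sum_mem _ fun i hi => Ideal.mul_mem_left _ _ (hother i (Finset.ne_of_mem_erase hi))
    have h2 : r i₀ * algebraMap B R (f i₀) ∈ N ⊔ IsLocalRing.maximalIdeal R • I := by
      have h3 := Submodule.sub_mem _ (Submodule.mem_sup_right (S := N) hr) (Submodule.mem_sup_left h1)
      rw [← Finset.add_sum_erase _ _ (Finset.mem_univ i₀), add_sub_cancel_right] at h3
      exact h3
    rw [← hu] at h2
    have h4 := (N ⊔ IsLocalRing.maximalIdeal R • I).smul_mem ((u⁻¹ : Rˣ) : R) h2
    simpa [smul_eq_mul, ← mul_assoc] using h4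
  refine hfs.le.trans (Ideal.span_le.mpr ?_)
  rintro _ ⟨i, rfl⟩
  rcases eq_or_ne i i₀ with rfl | hi
  · exact hi0
  · exact Submodule.mem_sup_left (hother i hi)

/-- Independent finitely supported vectors have a non-singular square block of coordinates. -/
theorem exists_det_ne_zero {K : Type u} [Field K] {X : Type*} {m : ℕ} (v : Fin m → (X →₀ K))
    (hv : LinearIndependent K v) :
    ∃ a : Fin m → X, Matrix.det (Matrix.of fun i j => v i (a j)) ≠ 0 := by
  classical
  let col : X → (Fin m → K) := fun x i => v i x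
  have hspan : Submodule.span K (Set.range col) = ⊤ := by
    rw [← Submodule.dualAnnihilator_eq_bot_iff, eq_bot_iff]
    intro φ hφ
    rw [Submodule.mem_bot]
    have h0 : ∀ x, φ (col x) = 0 := fun x =>
      (Submodule.mem_dualAnnihilator φ).mp hφ _ (Submodule.subset_span (Set.mem_range_self x))
    have h1 : ∀ i, φ (Pi.single i 1) = 0 := by
      refine fun i => Fintype.linearIndependent_iff.mp hv (fun i => φ (Pi.single i 1)) ?_ i
      ext x
      have h2 := h0 x
      rw [pi_eq_sum_univ' (col x), map_sum] at h2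
      simp only [map_smul, smul_eq_mul] at h2
      simpa [Finsupp.finset_sum_apply, col, mul_comm] using h2
    refine (Pi.basisFun K (Fin m)).ext fun i => ?_
    simpa using h1 i
  obtain ⟨s, hs, hsspan, hsli⟩ := exists_linearIndependent K (Set.range col)
  rw [hspan] at hsspan
  let b : Module.Basis s K (Fin m → K) := Module.Basis.mk hsli (by rw [Subtype.range_coe]; exact hsspan.ge)
  let e : Fin m ≃ s := (Pi.basisFun K (Fin m)).indexEquiv b
  choose a ha using fun j : Fin m => hs (e j).2
  refine ⟨a, ?_⟩
  have hli : LinearIndependent K (fun j => (Matrix.of fun i j => v i (a j)).col j) := by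
    have : (fun j => (Matrix.of fun i j => v i (a j)).col j) = (Subtype.val : s → Fin m → K) ∘ e := by
      funext j
      exact ha j
    rw [this]
    exact hsli.comp _ e.injective
  exact isUnit_iff_ne_zero.mp
    ((Matrix.isUnit_iff_isUnit_det _).mp (Matrix.linearIndependent_cols_iff_isUnit.mp hli))

variable {A B : Type u} [CommRing A] [CommRing B] [Algebra A B]

/-- The functional on `κ ⊗ (C ⊗ Ω)` given by a derivation. -/
noncomputable def derFun {C κ : Type u} [CommRing C] [Algebra B C] [Field κ] [Algebra B κ] [Algebra C κ]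
    [IsScalarTower B C κ] (D' : Derivation A B B) : κ ⊗[B] (C ⊗[B] Ω[B⁄A]) →ₗ[κ] κ :=
  LinearMap.liftBaseChange κ
    (((((Algebra.linearMap B κ).comp D'.liftKaehlerDifferential)).liftBaseChange C).restrictScalars B)

theorem derFun_tmul {C κ : Type u} [CommRing C] [Algebra B C] [Field κ] [Algebra B κ] [Algebra C κ]
    [IsScalarTower B C κ] (D' : Derivation A B B) (x : B) :
    derFun (C := C) (κ := κ) D' (1 ⊗ₜ (1 ⊗ₜ D A B x)) = algebraMap B κ (D' x) := by
  simp [derFun]

/-- The Zariski Jacobian criterion. -/
theorem formallySmooth_iff_jacobian [Algebra.FormallySmooth A B] [IsNoetherianRing B] (J q : Ideal B)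
    [q.IsPrime] (hJq : J ≤ q) [(q.map (Ideal.Quotient.mk J)).IsPrime] :
    Algebra.FormallySmooth A (Localization.AtPrime (q.map (Ideal.Quotient.mk J))) ↔
      ∃ (m : ℕ) (f : Fin m → B) (D' : Fin m → Derivation A B B),
        (∀ i, f i ∈ J) ∧
        J.map (algebraMap B (Localization.AtPrime q)) =
          Ideal.span (Set.range fun i => algebraMap B (Localization.AtPrime q) (f i)) ∧
        Matrix.det (Matrix.of fun i j => D' j (f i)) ∉ q := by
  classical
  set p := q.map (Ideal.Quotient.mk J) with hp
  let C := B ⧸ J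
  have hsurj : Function.Surjective (algebraMap B C) := Ideal.Quotient.mk_surjective
  let K := RingHom.ker (algebraMap B C)
  have hK : ∀ x, x ∈ K ↔ x ∈ J := fun x => by
    rw [RingHom.mem_ker]
    exact Ideal.Quotient.eq_zero_iff_mem
  let κ := p.ResidueField
  have hq : ∀ x : B, algebraMap B κ x = 0 ↔ x ∈ q := by
    intro x
    rw [IsScalarTower.algebraMap_apply B C κ, Ideal.algebraMap_residueField_eq_zero, ← Ideal.mem_comap]
    rw [hp, Ideal.Quotient.algebraMap_eq, Ideal.comap_map_of_surjective _ Ideal.Quotient.mk_surjective,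
      ← RingHom.ker_eq_comap_bot, Ideal.mk_ker, sup_eq_left.mpr hJq]
  let R := Localization.AtPrime q
  have hu : ∀ y : q.primeCompl, IsUnit (algebraMap B κ y) := fun y =>
    isUnit_iff_ne_zero.mpr fun h => y.2 ((hq _).mp h)
  let ρ : R →+* κ := IsLocalization.lift hu
  have hρ : ∀ x, ρ (algebraMap B R x) = algebraMap B κ x := IsLocalization.lift_eq hu
  have hρm : ∀ r ∈ IsLocalRing.maximalIdeal R, ρ r = 0 := by
    intro r hr
    rw [← Localization.AtPrime.map_eq_maximalIdeal] at hr
    have hle : q.map (algebraMap B R) ≤ RingHom.ker ρ := Ideal.map_le_iff_le_comap.mpr fun x hx => by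
      rw [Ideal.mem_comap, RingHom.mem_ker, hρ]
      exact (hq x).mpr hx
    exact hle hr
  constructor
  · intro hFS
    have hinj := FSAdic12.injective_of_formallySmooth (A := A) hsurj p p.primeCompl le_rfl
      (Localization.AtPrime p)
    obtain ⟨m, f, hfJ, hfs, hmin⟩ := exists_minimal_generators (R := R) J (IsNoetherian.noetherian J)
    have hcoef : ∀ x : K, ∃ r : Fin m → R, ∑ i, r i * algebraMap B R (f i) = algebraMap B R (x : B) := by
      intro x
      have hx : algebraMap B R (x : B) ∈ Submodule.span R (Set.range fun i => algebraMap B R (f i)) :=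
        hfs.le (Ideal.mem_map_of_mem _ ((hK _).mp x.2))
      exact (Submodule.mem_span_range_iff_exists_fun R).mp hx
    choose r hr using hcoef
    have huniq : ∀ (x : K) (s : Fin m → R), ∑ i, s i * algebraMap B R (f i) = algebraMap B R (x : B) →
        ∀ i, ρ (r x i) = ρ (s i) := by
      intro x s hs i
      rw [← sub_eq_zero, ← map_sub]
      refine hρm _ (hmin (fun i => r x i - s i) ?_ i)
      simp [sub_mul, hr, hs]
    let φ : Fin m → (K →ₗ[B] κ) := fun i =>
      { toFun := fun x => ρ (r x i)
        map_add' := fun x y => by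
          rw [huniq (x + y) (r x + r y) (by simp [add_mul, Finset.sum_add_distrib, hr]) i, Pi.add_apply, map_add]
        map_smul' := fun b x => by
          rw [huniq (b • x) (fun j => algebraMap B R b * r x j)
            (by simp [mul_assoc, ← Finset.mul_sum, hr]) i, map_mul, hρ, RingHom.id_apply, Algebra.smul_def] }
    let ψ : Fin m → (κ ⊗[B] K.Cotangent →ₗ[κ] κ) := fun i =>
      LinearMap.liftBaseChange κ (Submodule.liftQ _ (φ i) (by
        rw [Submodule.smul_le]
        intro b hb x _
        rw [LinearMap.mem_ker, map_smul, Algebra.smul_def, (hq b).mpr (hJq ((hK _).mp hb)), zero_mul]))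
    let fK : Fin m → K := fun i => ⟨f i, (hK _).mpr (hfJ i)⟩
    let e : Fin m → κ ⊗[B] K.Cotangent := fun i => 1 ⊗ₜ K.toCotangent (fK i)
    have hψ : ∀ i j, ψ i (e j) = if j = i then 1 else 0 := by
      intro i j
      show LinearMap.liftBaseChange κ _ ((1 : κ) ⊗ₜ[B] K.toCotangent (fK j)) = _
      rw [LinearMap.liftBaseChange_tmul, one_smul]
      show ρ (r (fK j) i) = _
      rw [huniq (fK j) (fun l => if j = l then 1 else 0) (by simp [ite_mul, fK]) i]
      split <;> simp
    have he : LinearIndependent κ e := by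
      rw [Fintype.linearIndependent_iff]
      intro c hc i
      have h1 := congrArg (ψ i) hc
      simpa [hψ] using h1
    obtain ⟨s, hs⟩ := Module.projective_def.mp (inferInstance : Module.Projective B Ω[B⁄A])
    let σ : κ ⊗[B] (C ⊗[B] Ω[B⁄A]) →ₗ[κ] (Ω[B⁄A] →₀ κ) :=
      LinearMap.liftBaseChange κ
        ((((Finsupp.mapRange.linearMap (Algebra.linearMap B κ)).comp s).liftBaseChange C).restrictScalars B)
    let back : (Ω[B⁄A] →₀ κ) →ₗ[κ] κ ⊗[B] (C ⊗[B] Ω[B⁄A]) :=
      Finsupp.linearCombination κ (fun a => (1 : κ) ⊗ₜ[B] ((1 : C) ⊗ₜ[B] a))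
    have hσ : ∀ z, back (σ z) = z := by
      have key : ∀ ω, back (σ ((1 : κ) ⊗ₜ[B] ((1 : C) ⊗ₜ[B] ω))) = (1 : κ) ⊗ₜ[B] ((1 : C) ⊗ₜ[B] ω) := by
        intro ω
        simp only [σ, back, LinearMap.liftBaseChange_tmul, one_smul, LinearMap.comp_apply,
          LinearMap.restrictScalars_apply, Finsupp.mapRange.linearMap_apply, Algebra.coe_linearMap]
        rw [Finsupp.linearCombination_apply]
        refine (Finsupp.sum_mapRange_index (h := fun a c => c • ((1 : κ) ⊗ₜ[B] ((1 : C) ⊗ₜ[B] a)))
          (fun a => zero_smul κ _)).trans ?_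
        rw [Finsupp.sum]
        conv_rhs => rw [← hs ω, Finsupp.linearCombination_apply, Finsupp.sum]
        rw [TensorProduct.tmul_sum, TensorProduct.tmul_sum]
        refine Finset.sum_congr rfl fun a _ => ?_
        rw [id_eq, TensorProduct.tmul_smul, TensorProduct.tmul_smul, algebraMap_smul]
      intro z
      induction z with
      | zero => simp
      | add x y hx hy => rw [map_add, map_add, hx, hy]
      | tmul c w =>
        rw [show c ⊗ₜ[B] w = c • ((1 : κ) ⊗ₜ[B] w) by rw [TensorProduct.smul_tmul', smul_eq_mul, mul_one],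
          map_smul, map_smul]
        congr 1
        induction w with
        | zero => simp
        | add x y hx hy => rw [TensorProduct.tmul_add, map_add, map_add, hx, hy]
        | tmul c' ω =>
          obtain ⟨b, rfl⟩ := hsurj c'
          rw [show algebraMap B C b ⊗ₜ[B] ω = b • ((1 : C) ⊗ₜ[B] ω) by
              rw [TensorProduct.smul_tmul', Algebra.smul_def, mul_one],
            TensorProduct.tmul_smul, ← algebraMap_smul κ b, map_smul, map_smul, key]
    let F := (kerCotangentToTensor A B C).baseChange κ
    have hv : LinearIndependent κ (fun i => σ (F (e i))) := by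
      have h := he.map' (σ ∘ₗ F) (LinearMap.ker_eq_bot.mpr (by
        rw [LinearMap.coe_comp]
        exact (Function.LeftInverse.injective hσ).comp hinj))
      exact h
    obtain ⟨a, ha⟩ := exists_det_ne_zero _ hv
    let D' : Fin m → Derivation A B B := fun j => ((Finsupp.lapply (a j)).comp s).compDer (D A B)
    refine ⟨m, f, D', hfJ, hfs, fun hdet => ha ?_⟩
    have hM : (Matrix.of fun i j => σ (F (e i)) (a j))
        = (algebraMap B κ).mapMatrix (Matrix.of fun i j => D' j (f i)) := by
      ext i j
      show σ (F ((1 : κ) ⊗ₜ[B] K.toCotangent (fK i))) (a j) = algebraMap B κ (s (D A B (f i)) (a j))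
      rw [LinearMap.baseChange_tmul, kerCotangentToTensor_toCotangent]
      simp [σ, fK]
    rw [hM, ← RingHom.map_det]
    exact (hq _).mpr hdet
  · rintro ⟨m, f, D', hfJ, hfs, hdet⟩
    let fK : Fin m → K := fun i => ⟨f i, (hK _).mpr (hfJ i)⟩
    let e : Fin m → κ ⊗[B] K.Cotangent := fun i => 1 ⊗ₜ K.toCotangent (fK i)
    have hgen : ∀ x : K, (1 : κ) ⊗ₜ[B] K.toCotangent x ∈ Submodule.span κ (Set.range e) := by
      intro x
      have hx : algebraMap B R (x : B) ∈ (Ideal.span (Set.range f)).map (algebraMap B R) := by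
        rw [Ideal.map_span, ← Set.range_comp]
        exact hfs.le (Ideal.mem_map_of_mem _ ((hK _).mp x.2))
      obtain ⟨t, ht, htx⟩ := (IsLocalization.algebraMap_mem_map_algebraMap_iff q.primeCompl R _ _).mp hx
      obtain ⟨b, hb⟩ := (Submodule.mem_span_range_iff_exists_fun B).mp htx
      have h1 : t • x = ∑ i, b i • fK i := Subtype.ext (by simpa [fK] using hb.symm)
      have h2 : algebraMap B κ t • ((1 : κ) ⊗ₜ[B] K.toCotangent x) = ∑ i, algebraMap B κ (b i) • e i := by
        simp only [algebraMap_smul, e, ← TensorProduct.tmul_smul, ← map_smul, ← TensorProduct.tmul_sum,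
          ← map_sum, h1]
      have ht0 : algebraMap B κ t ≠ 0 := fun h => ht ((hq t).mp h)
      rw [← inv_smul_smul₀ ht0 ((1 : κ) ⊗ₜ[B] K.toCotangent x), h2]
      exact Submodule.smul_mem _ _ (Submodule.sum_mem _ fun i _ =>
        Submodule.smul_mem _ _ (Submodule.subset_span (Set.mem_range_self i)))
    have hall : ∀ z : κ ⊗[B] K.Cotangent, z ∈ Submodule.span κ (Set.range e) := by
      intro z
      induction z with
      | zero => exact zero_mem _
      | add x y hx hy => exact add_mem hx hy
      | tmul c w =>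
        obtain ⟨x, rfl⟩ := K.toCotangent_surjective w
        rw [show c ⊗ₜ[B] K.toCotangent x = c • ((1 : κ) ⊗ₜ[B] K.toCotangent x) by
          rw [TensorProduct.smul_tmul', smul_eq_mul, mul_one]]
        exact Submodule.smul_mem _ _ (hgen x)
    have hinj : Function.Injective ((kerCotangentToTensor A B C).lTensor κ) := by
      show Function.Injective ((kerCotangentToTensor A B C).baseChange κ)
      rw [injective_iff_map_eq_zero]
      intro z hz
      obtain ⟨c, rfl⟩ := (Submodule.mem_span_range_iff_exists_fun κ).mp (hall z)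
      let M := (algebraMap B κ).mapMatrix (Matrix.of fun i j => D' j (f i))
      have hMu : IsUnit M := by
        rw [Matrix.isUnit_iff_isUnit_det, isUnit_iff_ne_zero, ← RingHom.map_det]
        exact fun h => hdet ((hq _).mp h)
      have hc : Matrix.vecMul c M = 0 := by
        funext j
        have h1 := congrArg (derFun (C := C) (κ := κ) (D' j)) hz
        rw [map_zero, map_sum, map_sum] at h1
        rw [Matrix.vecMul, dotProduct, Pi.zero_apply]
        refine Eq.trans (Finset.sum_congr rfl fun i _ => ?_) h1
        rw [map_smul, map_smul, LinearMap.baseChange_tmul, kerCotangentToTensor_toCotangent, derFun_tmul,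
          smul_eq_mul]
        rfl
      have hc0 : c = 0 := Matrix.vecMul_injective_iff_isUnit.mpr hMu (hc.trans (Matrix.zero_vecMul M).symm)
      simp [hc0]
    have : Module.Finite B K := Module.Finite.iff_fg.mpr (IsNoetherian.noetherian K)
    have : Module.Finite B K.Cotangent := Module.Finite.of_surjective K.toCotangent K.toCotangent_surjective
    obtain ⟨g, hg, w, hw⟩ := FSAdic12.exists_smul_id_of_injective_residueField (A := A) hsurj p hinj
    exact FSAdic12.formallySmooth_of_smul_id hsurj g w hw p.primeCompl hg _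

end Groth.Agent.EGA4Alg4.ZJac13
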