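import Groth.Agent.EGA4Alg4.NagJacBase
import Groth.Agent.EGA4Alg4.ZJac

/-!
# Formal derivations detect independent differentials at a prime of a power series ring
-/

set_option autoImplicit false
set_option maxHeartbeats 400000
set_option linter.unusedVariables false
set_option linter.unusedSectionVars false

universe u

open KaehlerDifferential IsLocalRing TensorProduct

namespace Groth.Agent.EGA4Alg4.NagJac13

section Generic

variable {A κ : Type u} [CommRing A] (P : Ideal A) [P.IsPrime] [Field κ] [Algebra A κ] [Algebra (A ⧸ P) κ]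
  [IsScalarTower A (A ⧸ P) κ] [IsFractionRing (A ⧸ P) κ]

omit [P.IsPrime] in
theorem algebraMap_eq_zero_iff' (x : A) : algebraMap A κ x = 0 ↔ x ∈ P := by
  rw [IsScalarTower.algebraMap_apply A (A ⧸ P) κ, ← map_zero (algebraMap (A ⧸ P) κ),
    (IsFractionRing.injective (A ⧸ P) κ).eq_iff, Ideal.Quotient.algebraMap_eq, Ideal.Quotient.eq_zero_iff_mem]

/-- The vector of values at the point of a family of derivations. -/
noncomputable def vals {n : ℕ} (Δ : Fin n → Derivation ℤ A A) : Derivation ℤ A (Fin n → κ) :=
  (LinearMap.pi fun l => (Algebra.linearMap A κ).comp (LinearMap.proj l)).compDer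
    (Derivation.mk'
      { toFun := fun a l => Δ l a
        map_add' := fun a b => funext fun l => map_add _ _ _
        map_smul' := fun c a => funext fun l => map_zsmul (Δ l) c a }
      fun a b => funext fun l => (Δ l).leibniz a b)

omit [Algebra (A ⧸ P) κ] [IsScalarTower A (A ⧸ P) κ] in
theorem vals_apply {n : ℕ} (Δ : Fin n → Derivation ℤ A A) (a : A) (l : Fin n) :
    vals (κ := κ) Δ a l = algebraMap A κ (Δ l a) := rfl

omit [P.IsPrime] [Algebra (A ⧸ P) κ] [IsScalarTower A (A ⧸ P) κ] [IsFractionRing (A ⧸ P) κ] in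
theorem vals_span_eq_top {n : ℕ} (Δ : Fin n → Derivation ℤ A A) (x : Fin n → A)
    (hx : ∀ l m, Δ l (x m) = if l = m then 1 else 0) :
    Submodule.span κ (Set.range fun m => vals (κ := κ) Δ (x m)) = ⊤ := by
  classical
  rw [eq_top_iff]
  intro v _
  rw [pi_eq_sum_univ' v]
  refine sum_mem fun m _ => Submodule.smul_mem _ _ (Submodule.subset_span ⟨m, ?_⟩)
  funext l
  show vals (κ := κ) Δ (x m) l = _
  rw [vals_apply, hx]
  by_cases h : l = m <;> simp [h]

/-- A linear relation modulo a prime through generators of its localization. -/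
theorem derivation_mem_span {h : ℕ} (f : Fin h → A) (hf : ∀ i, f i ∈ P)
    (hgen : ∀ x ∈ P, ∃ s ∉ P, s * x ∈ Ideal.span (Set.range f)) {M : Type u} [AddCommGroup M] [Module κ M]
    [Module A M] [IsScalarTower A κ M] (d : Derivation ℤ A M) (x : A) (hx : x ∈ P) :
    d x ∈ Submodule.span κ (Set.range fun i => d (f i)) := by
  obtain ⟨s, hs, hsx⟩ := hgen x hx
  obtain ⟨b, hb⟩ := (Ideal.mem_span_range_iff_exists_fun).1 hsx
  have hz : ∀ y ∈ P, ∀ m : M, y • m = 0 := fun y hy m => by
    rw [← algebraMap_smul κ y m, (algebraMap_eq_zero_iff' P y).2 hy, zero_smul]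
  have h1 := congrArg d hb
  rw [map_sum, Derivation.leibniz, hz x hx, add_zero] at h1
  have h2 : algebraMap A κ s • d x ∈ Submodule.span κ (Set.range fun i => d (f i)) := by
    rw [algebraMap_smul, ← h1]
    refine sum_mem fun i _ => ?_
    rw [Derivation.leibniz, hz (f i) (hf i), add_zero, ← algebraMap_smul κ (b i)]
    exact Submodule.smul_mem _ _ (Submodule.subset_span ⟨i, rfl⟩)
  exact (Submodule.smul_mem_iff _ fun h0 => hs ((algebraMap_eq_zero_iff' P s).1 h0)).1 h2

theorem sum_derivation_apply {n : ℕ} (D : Fin n → Derivation ℤ A A) (y : A) :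
    (∑ l, D l) y = ∑ l, D l y := by
  classical
  induction (Finset.univ : Finset (Fin n)) using Finset.induction_on with
  | empty => simp
  | @insert i t hi ih => rw [Finset.sum_insert hi, Finset.sum_insert hi, Derivation.add_apply, ih]

/-- A non-vanishing minor. -/
theorem exists_det_notMem {n N : ℕ} (Δ : Fin n → Derivation ℤ A A) (a : Fin N → A)
    (h : LinearIndependent κ fun i => vals (κ := κ) Δ (a i)) :
    ∃ σ : Fin N → Fin n, Matrix.det (Matrix.of fun i j => Δ (σ j) (a i)) ∉ P := by
  classical
  obtain ⟨σ, hσ⟩ := ZJac13.exists_det_ne_zero _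
    (h.map' (Finsupp.linearEquivFunOnFinite κ κ (Fin n)).symm.toLinearMap (LinearEquiv.ker _))
  refine ⟨σ, fun hdet => hσ ?_⟩
  rw [← algebraMap_eq_zero_iff' (κ := κ) P, RingHom.map_det] at hdet
  exact hdet

end Generic

section Fields

variable {κ : Type u} [Field κ] {M : Type u} [AddCommGroup M] [Module κ M]

/-- A derivation vanishing on a set vanishes on the subfield it generates. -/
theorem derivation_closure_eq_zero (δ : Derivation ℤ κ M) (S : Set κ) (hS : ∀ z ∈ S, δ z = 0) :
    ∀ z ∈ Subfield.closure S, δ z = 0 := by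
  intro z hz
  induction hz using Subfield.closure_induction with
  | mem x hx => exact hS x hx
  | one => exact δ.map_one_eq_zero
  | add x y _ _ hx hy => rw [map_add, hx, hy, add_zero]
  | neg x _ hx => rw [map_neg, hx, neg_zero]
  | inv x _ hx => rw [Derivation.leibniz_inv, hx, smul_zero]
  | mul x y _ _ hx hy => rw [Derivation.leibniz, hx, hy, smul_zero, smul_zero, add_zero]

theorem exists_derivation_over (δ : Derivation ℤ κ M) (F : Subfield κ) (hF : ∀ z ∈ F, δ z = 0) :
    ∃ δ' : Derivation F κ M, ∀ z, δ' z = δ z :=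
  ⟨Derivation.mk'
    { toFun := δ
      map_add' := map_add δ
      map_smul' := fun c z => by
        rw [RingHom.id_apply, Subfield.smul_def, smul_eq_mul, Derivation.leibniz, hF _ c.2, smul_zero, add_zero]
        rfl }
    δ.leibniz, fun _ => rfl⟩

end Fields

section Separable

variable {K A κ L₀ : Type u} [Field K] [CommRing A] [IsLocalRing A] [IsNoetherianRing A] (P : Ideal A) [P.IsPrime]
  [Field κ] [Algebra A κ] [Algebra (A ⧸ P) κ] [IsScalarTower A (A ⧸ P) κ] [IsFractionRing (A ⧸ P) κ]
  [Field L₀] [Algebra L₀ κ] [Algebra.IsSeparable L₀ κ]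

/-- The case of a residue field separable over the fraction field of a normalisation. -/
theorem linearIndependent_vals_separable {n s h : ℕ} [Algebra (MvPowerSeries (Fin s) K) L₀]
    [IsFractionRing (MvPowerSeries (Fin s) K) L₀] (φ : MvPowerSeries (Fin s) K →+* A)
    (hφL : ∀ z, algebraMap L₀ κ (algebraMap (MvPowerSeries (Fin s) K) L₀ z) = algebraMap A κ (φ z))
    (hφX : ∀ i, φ (MvPowerSeries.X i) ∈ maximalIdeal A)
    (Δ : Fin n → Derivation ℤ A A) (x : Fin n → A) (hx : ∀ l m, Δ l (x m) = if l = m then 1 else 0)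
    (hΔC : ∀ l c, Δ l (φ (MvPowerSeries.C c)) = 0)
    (f : Fin h → A) (hf : ∀ i, f i ∈ P) (hgen : ∀ x ∈ P, ∃ s ∉ P, s * x ∈ Ideal.span (Set.range f))
    (hn : h + s = n) :
    LinearIndependent κ fun i => vals (κ := κ) Δ (f i) := by
  classical
  let R' := MvPowerSeries (Fin s) K
  let V := Submodule.span κ (Set.range (Sum.elim (fun i => vals (κ := κ) Δ (f i))
    fun i => vals (κ := κ) Δ (φ (MvPowerSeries.X i))))
  have hV : V = ⊤ := by
    refine Submodule.eq_top_iff'.2 fun v => ?_
    by_contra hv
    obtain ⟨lam, hlamv, hlam⟩ := Submodule.exists_dual_map_eq_bot_of_notMem hv inferInstance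
    have hlam' : ∀ w ∈ V, lam w = 0 := fun w hw => by
      have := Submodule.mem_map_of_mem (f := lam) hw
      rw [hlam] at this
      exact this
    obtain ⟨⟨c, hc⟩, hcint⟩ := IsLocalization.exist_integer_multiples_of_finite (nonZeroDivisors (A ⧸ P))
      (fun l : Fin n => lam (Pi.single l (1 : κ)))
    choose a ha using fun l => (Ideal.Quotient.mk_surjective.comp Function.surjective_id) (Classical.choose (hcint l))
    have ha' : ∀ l, algebraMap A κ (a l) = algebraMap (A ⧸ P) κ c * lam (Pi.single l (1 : κ)) := fun l => by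
      have h1 := Classical.choose_spec (hcint l)
      rw [IsScalarTower.algebraMap_apply A (A ⧸ P) κ, Ideal.Quotient.algebraMap_eq,
        show Ideal.Quotient.mk P (a l) = _ from ha l, h1, Algebra.smul_def]
    let E : Derivation ℤ A A := ∑ l, a l • Δ l
    have hD : ∀ y, algebraMap A κ (E y) = algebraMap (A ⧸ P) κ c * lam (vals (κ := κ) Δ y) := by
      intro y
      rw [show E y = ∑ l, a l * Δ l y by simp [E, sum_derivation_apply], map_sum,
        pi_eq_sum_univ' (vals (κ := κ) Δ y), map_sum, Finset.mul_sum]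
      refine Finset.sum_congr rfl fun l _ => ?_
      rw [map_mul, ha', map_smul, smul_eq_mul, vals_apply]
      ring
    have hDP : ∀ y ∈ P, algebraMap A κ (E y) = 0 := fun y hy => by
      rw [hD, hlam' _ (Submodule.span_mono (by rintro _ ⟨i, rfl⟩; exact ⟨Sum.inl i, rfl⟩)
        (derivation_mem_span P f hf hgen (vals (κ := κ) Δ) y hy)), mul_zero]
    have hDX : ∀ i, E (φ (MvPowerSeries.X i)) ∈ P := fun i => by
      rw [← algebraMap_eq_zero_iff' (κ := κ) P, hD,
        hlam' (vals (κ := κ) Δ (φ (MvPowerSeries.X i))) (Submodule.subset_span ⟨Sum.inr i, rfl⟩), mul_zero]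
    have hcl : ∀ z : R', Ideal.Quotient.mk P (E (φ z)) = 0 := by
      intro z
      refine eq_zero_of_decomp (B := A ⧸ P)
        (AddMonoidHom.mk' (fun z : R' => Ideal.Quotient.mk P (E (φ z))) fun a b => by simp only [map_add])
        Set.univ (fun i => MvPowerSeries.X i) (fun i => Ideal.Quotient.mk P (φ (MvPowerSeries.X i)))
        (fun i hu => ?_) (fun z _ => ?_) (fun i z _ => ?_) z trivial
      · have := hu
        obtain ⟨w, hw⟩ := hu.exists_right_inv
        obtain ⟨w, rfl⟩ := Ideal.Quotient.mk_surjective w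
        rw [← map_mul, ← map_one (Ideal.Quotient.mk P), Ideal.Quotient.eq] at hw
        exact (maximalIdeal.isMaximal A).ne_top ((Ideal.eq_top_iff_one _).2 (by
          have h2 := sub_mem (Ideal.mul_mem_right w _ (hφX i)) ((le_maximalIdeal Ideal.IsPrime.ne_top') hw)
          rwa [sub_sub_cancel] at h2))
      · obtain ⟨hs, hz, -⟩ := exists_decomp_step 1 Nat.one_pos z fun m _ i => one_dvd _
        refine ⟨_, hs, fun _ => trivial, ?_, by simpa using hz⟩
        show Ideal.Quotient.mk P (E (φ (MvPowerSeries.C _))) = 0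
        simp [E, hΔC, sum_derivation_apply]
      · show Ideal.Quotient.mk P (E (φ (MvPowerSeries.X i * z))) = _
        rw [map_mul, Derivation.leibniz, map_add, smul_eq_mul, smul_eq_mul, map_mul, map_mul,
          Ideal.Quotient.eq_zero_iff_mem.2 (hDX i), mul_zero, add_zero]
        rfl
    obtain ⟨δ, hδ⟩ := exists_derivation_residue (κ := κ) P ((Algebra.linearMap A κ).compDer E) hDP
    have hδ0 : ∀ z : L₀, δ (algebraMap L₀ κ z) = 0 := by
      intro z
      obtain ⟨u, w, -, rfl⟩ := IsFractionRing.div_surjective (A := R') z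
      have h0 : ∀ y : R', δ (algebraMap L₀ κ (algebraMap R' L₀ y)) = 0 := fun y => by
        rw [hφL, hδ]
        exact (algebraMap_eq_zero_iff' P _).2 (Ideal.Quotient.eq_zero_iff_mem.1 (hcl y))
      rw [map_div₀, Derivation.leibniz_div, h0, h0, smul_zero, smul_zero, sub_zero, smul_zero]
    let δ' : Derivation L₀ κ κ := Derivation.mk'
      { toFun := δ
        map_add' := map_add δ
        map_smul' := fun y z => by
          rw [RingHom.id_apply, Algebra.smul_def, Derivation.leibniz, hδ0, smul_zero, add_zero, smul_eq_mul,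
            Algebra.smul_def] }
      δ.leibniz
    have : Algebra.FormallyUnramified L₀ κ := Algebra.FormallyUnramified.of_isSeparable L₀ κ
    have hδ'0 : ∀ z : κ, δ z = 0 := fun z => by
      show δ' z = 0
      rw [← δ'.liftKaehlerDifferential_comp_D z, Subsingleton.elim (D L₀ κ z) 0, map_zero]
    have hc0 : algebraMap (A ⧸ P) κ c ≠ 0 := IsFractionRing.to_map_ne_zero_of_mem_nonZeroDivisors hc
    refine hlamv ?_
    have hall : ∀ m, lam (vals (κ := κ) Δ (x m)) = 0 := fun m => by
      have h1 := hδ (x m)
      rw [hδ'0] at h1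
      exact (mul_eq_zero.1 ((hD (x m)).symm.trans h1.symm)).resolve_left hc0
    have : Submodule.span κ (Set.range fun m => vals (κ := κ) Δ (x m)) ≤ LinearMap.ker lam :=
      Submodule.span_le.2 (by rintro _ ⟨m, rfl⟩; exact hall m)
    exact this ((vals_span_eq_top (κ := κ) Δ x hx).symm ▸ Submodule.mem_top)
  have hli : LinearIndependent κ (Sum.elim (fun i => vals (κ := κ) Δ (f i))
      fun i => vals (κ := κ) Δ (φ (MvPowerSeries.X i))) :=
    linearIndependent_of_top_le_span_of_card_eq_finrank hV.ge (by simp [hn])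
  exact hli.comp Sum.inl Sum.inl_injective

end Separable

section CharP

variable (p : ℕ) [Fact p.Prime] {K A κ L₀ : Type u} [Field K] [CharP K p] [CommRing A] [IsLocalRing A]
  [IsNoetherianRing A] (P : Ideal A) [P.IsPrime]
  [Field κ] [Algebra A κ] [Algebra (A ⧸ P) κ] [IsScalarTower A (A ⧸ P) κ] [IsFractionRing (A ⧸ P) κ]

include p in
/-- In characteristic `p`: formal derivations detect every finite independent family of absolute
differentials. -/
theorem exists_derivations_charP {r s h : ℕ} (e : MvPowerSeries (Fin r) K ≃+* A)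
    [Field L₀] [Algebra (MvPowerSeries (Fin s) K) L₀] [IsFractionRing (MvPowerSeries (Fin s) K) L₀]
    [Algebra (MvPowerSeries (Fin s) K) κ] [Algebra L₀ κ] [IsScalarTower (MvPowerSeries (Fin s) K) L₀ κ]
    [FiniteDimensional L₀ κ] (φ : MvPowerSeries (Fin s) K →+* A)
    (hφL : ∀ z, algebraMap (MvPowerSeries (Fin s) K) κ z = algebraMap A κ (φ z))
    (hφC : ∀ c, φ (MvPowerSeries.C c) = e (MvPowerSeries.C c))
    (hφX : ∀ i, φ (MvPowerSeries.X i) ∈ maximalIdeal A)
    (f : Fin h → A) (hf : ∀ i, f i ∈ P) (hgen : ∀ x ∈ P, ∃ s ∉ P, s * x ∈ Ideal.span (Set.range f))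
    (hn : h + s = r) {N : ℕ} (a : Fin N → A)
    (ha : LinearIndependent κ fun i => (1 : κ) ⊗ₜ[A] D ℤ A (a i)) :
    ∃ Δ : Fin N → Derivation ℤ A A, Matrix.det (Matrix.of fun i j => Δ j (a i)) ∉ P := by
  classical
  let R' := MvPowerSeries (Fin s) K
  have hcharA : CharP A p := charP_of_injective_ringHom (f := e.toRingHom.comp MvPowerSeries.C)
    (e.injective.comp MvPowerSeries.C_injective) p
  have hcharκ : CharP κ p := charP_of_injective_ringHom (f := (algebraMap R' κ).comp MvPowerSeries.C)
    (RingHom.injective _) p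
  -- a maximal independent subfamily at the residue field
  let v : ULift.{u} (Fin N) → Ω[κ⁄ℤ] := fun i => D ℤ κ (algebraMap A κ (a i.down))
  obtain ⟨τ, aτ, haτ, hτspan, hτli⟩ := exists_linearIndependent' κ v
  have : Fintype τ := Fintype.ofInjective aτ haτ
  let b : τ → κ := fun t => algebraMap A κ (a (aτ t).down)
  obtain ⟨k₁, hk₁, hk₁fin, hbF, hΩfin, hΩle⟩ := exists_small_constants p (K := K) (s := s) (L₀ := L₀) (κ := κ) b hτli
  set F := Subfield.closure (algebraMap R' κ '' EGA4H10.psSub p K s k₁)
  -- the formal derivations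
  obtain ⟨τK, aK, -, hKspan, hKli⟩ := exists_linearIndependent' K (D k₁ K)
  rw [KaehlerDifferential.span_range_derivation] at hKspan
  let bK := Module.Basis.mk hKli hKspan.ge
  have : Fintype τK := FiniteDimensional.fintypeBasisIndex bK
  let t := Module.finrank K (Ω[K⁄k₁])
  let eK : Fin t ≃ τK := (finCongr (Module.finrank_eq_card_basis bK)).trans (Fintype.equivFin τK).symm
  choose Δ₁ hΔ₁ using fun l : Fin t => exists_mapDer (r := r)
    (((bK.coord (eK l)).compDer (D k₁ K)).restrictScalars ℤ)
  let Δ₀ : Fin (t + r) → Derivation ℤ (MvPowerSeries (Fin r) K) (MvPowerSeries (Fin r) K) :=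
    Fin.addCases Δ₁ fun j => (MvPowerSeries.pderiv K j).restrictScalars ℤ
  let tr : Derivation ℤ (MvPowerSeries (Fin r) K) (MvPowerSeries (Fin r) K) → Derivation ℤ A A := fun δ =>
    Derivation.mk' (e.toAddMonoidHom.comp (δ.toLinearMap.toAddMonoidHom.comp e.symm.toAddMonoidHom)).toIntLinearMap
      fun y z => by
        show e (δ (e.symm (y * z))) = y • e (δ (e.symm z)) + z • e (δ (e.symm y))
        rw [map_mul, Derivation.leibniz, map_add, smul_eq_mul, smul_eq_mul, map_mul, map_mul,
          RingEquiv.apply_symm_apply, RingEquiv.apply_symm_apply]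
        rfl
  have htr : ∀ δ y, tr δ (e y) = e (δ y) := fun δ y => by
    show e (δ (e.symm (e y))) = _
    rw [RingEquiv.symm_apply_apply]
  let Δ : Fin (t + r) → Derivation ℤ A A := fun l => tr (Δ₀ l)
  let x : Fin (t + r) → A := Fin.addCases (fun l => e (MvPowerSeries.C (aK (eK l))))
    fun j => e (MvPowerSeries.X j)
  have hx : ∀ l m, Δ l (x m) = if l = m then 1 else 0 := by
    intro l m
    have hne : ∀ (i : Fin t) (j : Fin r), Fin.castAdd r i ≠ Fin.natAdd t j := fun i j h' => by
      have := congrArg Fin.val h'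
      simp only [Fin.val_castAdd, Fin.val_natAdd] at this
      omega
    induction l using Fin.addCases with
    | left l =>
      induction m using Fin.addCases with
      | left m =>
        simp only [Δ, Δ₀, x, Fin.addCases_left, htr, Fin.castAdd_inj]
        rw [← map_one e, ← map_zero e, ← apply_ite e]
        congr 1
        ext n
        rw [hΔ₁, MvPowerSeries.coeff_C]
        by_cases hn0 : n = 0
        · subst hn0
          rw [if_pos rfl]
          show bK.coord (eK l) (D k₁ K (aK (eK m))) = _
          rw [show D k₁ K (aK (eK m)) = bK (eK m) from (Module.Basis.mk_apply hKli _ (eK m)).symm,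
            Module.Basis.coord_apply, Module.Basis.repr_self, Finsupp.single_apply]
          by_cases hlm : l = m
          · simp [hlm]
          · simp [hlm, Ne.symm hlm]
        · rw [if_neg hn0, map_zero]
          split_ifs <;> simp [MvPowerSeries.coeff_one, hn0]
      | right m =>
        simp only [Δ, Δ₀, x, Fin.addCases_left, Fin.addCases_right, htr, if_neg (hne l m)]
        rw [← map_zero e]
        congr 1
        ext n
        rw [hΔ₁, MvPowerSeries.coeff_X, map_zero]
        split_ifs
        · exact ((bK.coord (eK l)).compDer (D k₁ K)).map_one_eq_zero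
        · exact map_zero _
    | right l =>
      induction m using Fin.addCases with
      | left m =>
        simp only [Δ, Δ₀, x, Fin.addCases_left, Fin.addCases_right, htr, if_neg (hne m l).symm,
          Derivation.coe_restrictScalars]
        rw [MvPowerSeries.pderiv_C, map_zero]
      | right m =>
        simp only [Δ, Δ₀, x, Fin.addCases_right, htr, Fin.natAdd_inj, Derivation.coe_restrictScalars]
        rw [MvPowerSeries.pderiv_X, Pi.single_apply, apply_ite e, map_one, map_zero]
        by_cases hlm : l = m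
        · simp [hlm]
        · simp [hlm, Ne.symm hlm]
  -- they kill the constants
  have hkillC : ∀ l (c : K), c ∈ k₁ → Δ l (e (MvPowerSeries.C c)) = 0 := by
    intro l c hc
    induction l using Fin.addCases with
    | left l =>
      simp only [Δ, Δ₀, Fin.addCases_left, htr]
      rw [← map_zero e]
      congr 1
      ext n
      rw [hΔ₁, MvPowerSeries.coeff_C, map_zero]
      split_ifs
      · exact ((bK.coord (eK l)).compDer (D k₁ K)).map_algebraMap ⟨c, hc⟩
      · exact map_zero _
    | right l =>
      simp only [Δ, Δ₀, Fin.addCases_right, htr, Derivation.coe_restrictScalars]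
      rw [MvPowerSeries.pderiv_C, map_zero]
  have hpow0 : ∀ l (y : A), Δ l (y ^ p) = 0 := fun l y => by
    rw [Derivation.leibniz_pow, nsmul_eq_mul, CharP.cast_eq_zero, zero_mul]
  have hkill : ∀ l, ∀ g ∈ EGA4H10.psSub p K s k₁, Δ l (φ g) = 0 := by
    intro l
    refine eq_zero_of_decomp
      (AddMonoidHom.mk' (fun g : R' => Δ l (φ g)) fun a b => by simp only [map_add])
      (EGA4H10.psSub p K s k₁ : Set R') (fun i => MvPowerSeries.X i ^ p) (fun i => φ (MvPowerSeries.X i) ^ p)
      (fun i => Ideal.pow_mem_of_mem _ (hφX i) p (Fact.out : p.Prime).pos) (fun g hg => ?_) (fun i g _ => ?_)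
    · obtain ⟨gs, hgeq, hgs⟩ := exists_decomp_step p (Fact.out : p.Prime).pos g fun m hm => (hg m).2 hm
      refine ⟨_, gs, fun i m => ?_, ?_, hgeq⟩
      · rcases hgs i m with h0 | h0
        · rw [h0]
          exact ⟨zero_mem _, fun h' => absurd rfl h'⟩
        · rw [h0]
          refine ⟨(hg _).1, fun h' j => ?_⟩
          have h2 := (hg _).2 h' j
          rw [Finsupp.add_apply] at h2
          refine (Nat.dvd_add_iff_left ?_).2 h2
          by_cases hji : j = i
          · subst hji; simp
          · simp [Finsupp.single_eq_of_ne hji]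
      · show Δ l (φ (MvPowerSeries.C _)) = 0
        rw [hφC]
        exact hkillC l _ (by rw [← MvPowerSeries.coeff_zero_eq_constantCoeff]; exact (hg 0).1)
    · show Δ l (φ (MvPowerSeries.X i ^ p * g)) = _
      rw [map_mul, map_pow, Derivation.leibniz, hpow0, smul_zero, add_zero]
      rfl
  -- the comparison with the differentials over the constants
  let W := Submodule.span κ (Set.range fun i => vals (κ := κ) Δ (f i))
  let d : Derivation ℤ A ((Fin (t + r) → κ) ⧸ W) := (W.mkQ.restrictScalars A).compDer (vals (κ := κ) Δ)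
  obtain ⟨δ, hδ⟩ := exists_derivation_residue (κ := κ) P d fun y hy =>
    (Submodule.Quotient.mk_eq_zero W).2 (derivation_mem_span P f hf hgen (vals (κ := κ) Δ) y hy)
  obtain ⟨δ', hδ'⟩ := exists_derivation_over δ F (derivation_closure_eq_zero δ _ (by
    rintro _ ⟨g, hg, rfl⟩
    rw [hφL, hδ]
    refine (Submodule.Quotient.mk_eq_zero W).2 ?_
    show vals (κ := κ) Δ (φ g) ∈ W
    rw [show vals (κ := κ) Δ (φ g) = 0 from funext fun l => by
      rw [vals_apply, hkill l g hg, map_zero]; rfl]
    exact zero_mem _))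
  let L := δ'.liftKaehlerDifferential
  have hL : ∀ y, L (D F κ (algebraMap A κ y)) = W.mkQ (vals (κ := κ) Δ y) := fun y => by
    rw [Derivation.liftKaehlerDifferential_comp_D, hδ', hδ]
    rfl
  have hLsurj : Function.Surjective L := by
    rw [← LinearMap.range_eq_top, eq_top_iff]
    have h1 : (⊤ : Submodule κ (Fin (t + r) → κ)).map W.mkQ = ⊤ := by
      rw [Submodule.map_top, Submodule.range_mkQ]
    rw [← h1, ← vals_span_eq_top (κ := κ) Δ x hx, Submodule.map_span, Submodule.span_le]
    rintro _ ⟨_, ⟨m, rfl⟩, rfl⟩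
    exact ⟨_, hL (x m)⟩
  have hWle : Module.finrank κ W ≤ h := (finrank_range_le_card _).trans_eq (Fintype.card_fin h)
  have hWQ := Submodule.finrank_quotient_add_finrank W
  rw [Module.finrank_fin_fun] at hWQ
  have hQle := LinearMap.finrank_le_finrank_of_surjective hLsurj
  have hLinj : Function.Injective L :=
    (LinearMap.injective_iff_surjective_of_finrank_eq_finrank (by omega)).2 hLsurj
  have hfli : LinearIndependent κ fun i => vals (κ := κ) Δ (f i) := by
    rw [linearIndependent_iff_card_eq_finrank_span, Set.finrank, Fintype.card_fin]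
    show h = Module.finrank κ W
    omega
  -- detection
  have hli : LinearIndependent κ fun i => vals (κ := κ) Δ (a i) := by
    rw [Fintype.linearIndependent_iff]
    intro c hc
    refine Fintype.linearIndependent_iff.1 ha c ?_
    have h1 : ∑ i, c i • D F κ (algebraMap A κ (a i)) = 0 := hLinj (by
      rw [map_sum, map_zero]
      simp only [map_smul, hL]
      simp only [← map_smul]
      rw [← map_sum, hc, map_zero])
    have h2 : ∑ i, c i • v ⟨i⟩ = 0 := by
      have hmem : ∑ i, c i • v ⟨i⟩ ∈ Submodule.span κ (Set.range (v ∘ aτ)) := by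
        rw [hτspan]
        exact sum_mem fun i _ => Submodule.smul_mem _ _ (Submodule.subset_span ⟨⟨i⟩, rfl⟩)
      obtain ⟨g, hg⟩ := (Submodule.mem_span_range_iff_exists_fun κ).1 hmem
      have h3 : ∑ q, g q • D F κ (b q) = 0 := by
        have h4 := congrArg (KaehlerDifferential.map ℤ F κ κ) hg
        simp only [map_sum, map_smul, v, Function.comp_apply, KaehlerDifferential.map_D, Algebra.algebraMap_self,
          RingHom.id_apply] at h4
        rw [← h1, ← h4]
      rw [← hg]
      simp [Fintype.linearIndependent_iff.1 hbF g h3]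
    -- exactness at the point
    let W₀ := Submodule.span κ (Set.range fun i => (1 : κ) ⊗ₜ[A] D ℤ A (f i))
    let d₀ : Derivation ℤ A ((κ ⊗[A] Ω[A⁄ℤ]) ⧸ W₀) :=
      ((W₀.mkQ.restrictScalars A).comp (TensorProduct.mk A κ _ 1)).compDer (D ℤ A)
    let d₁ : Derivation ℤ A (κ ⊗[A] Ω[A⁄ℤ]) := (TensorProduct.mk A κ _ 1).compDer (D ℤ A)
    obtain ⟨δ₀, hδ₀⟩ := exists_derivation_residue (κ := κ) P d₀ fun y hy =>
      (Submodule.Quotient.mk_eq_zero W₀).2 (derivation_mem_span P f hf hgen d₁ y hy)
    have h5 : W₀.mkQ (∑ i, c i • (1 : κ) ⊗ₜ[A] D ℤ A (a i)) = 0 := by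
      have h6 := congrArg δ₀.liftKaehlerDifferential h2
      simp only [map_sum, map_smul, v, Derivation.liftKaehlerDifferential_comp_D, hδ₀, map_zero] at h6
      rw [map_sum]
      simp only [map_smul]
      exact h6
    obtain ⟨g, hg⟩ := (Submodule.mem_span_range_iff_exists_fun κ).1 ((Submodule.Quotient.mk_eq_zero W₀).1 h5)
    have h7 := congrArg ((vals (κ := κ) Δ).liftKaehlerDifferential.liftBaseChange κ) hg
    simp only [map_sum, map_smul, LinearMap.liftBaseChange_tmul, one_smul,
      Derivation.liftKaehlerDifferential_comp_D, hc] at h7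
    rw [← hg]
    simp [Fintype.linearIndependent_iff.1 hfli g h7]
  obtain ⟨σ, hσ⟩ := exists_det_notMem P Δ a hli
  exact ⟨fun j => Δ (σ j), hσ⟩

end CharP

end Groth.Agent.EGA4Alg4.NagJac13
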