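import Groth.Agent.EGA4H10.SepFamily
import Groth.Agent.PBasis12.Field

/-!
# Small subfields keeping differentials independent

For a finite extension `κ/L₀` in characteristic `p` and a directed family of subfields with intersection
`L₀^p`, a finite family of elements of `κ` with independent absolute differentials keeps independent
differentials over some member `F`, and `dim Ω[κ⁄F]` is bounded by the logarithm of `[L₀ : F]`.
-/

set_option autoImplicit false
set_option maxHeartbeats 400000

universe u

open KaehlerDifferential EGA41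

namespace Groth.Agent.EGA4Alg4.NagJac13

/-- The exponent vector of a function with values below `p`. -/
noncomputable def expRed {p : ℕ} {σ : Type u} [Fintype σ] (e : σ → Fin p) : {e : σ →₀ ℕ // ∀ i, e i < p} :=
  ⟨Finsupp.equivFunOnFinite.symm fun i => (e i : ℕ), fun i => (e i).isLt⟩

theorem expRed_bijective {p : ℕ} {σ : Type u} [Fintype σ] : Function.Bijective (expRed (p := p) (σ := σ)) :=
  ⟨fun e e' h => funext fun i => Fin.ext (by simpa [expRed] using DFunLike.congr_fun (congrArg Subtype.val h) i),
    fun e => ⟨fun i => ⟨e.1 i, e.2 i⟩, Subtype.ext (Finsupp.ext fun i => by simp [expRed])⟩⟩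

variable {L₀ κ : Type u} [Field L₀] [Field κ] [Algebra L₀ κ] [FiniteDimensional L₀ κ]

theorem exists_small (p : ℕ) [Fact p.Prime] [CharP κ p] {ι : Type u} [Nonempty ι] (Kf : ι → Subfield κ)
    (hdir : ∀ a b, ∃ c, Kf c ≤ Kf a ⊓ Kf b)
    (hpow : ∀ i (c : L₀), algebraMap L₀ κ c ^ p ∈ Kf i)
    (hroot : ∀ z, (∀ i, z ∈ Kf i) → ∃ c : L₀, z = algebraMap L₀ κ c ^ p)
    (N : ι → ℕ) (T : ι → Finset κ) (hT : ∀ i, (T i).card ≤ p ^ N i)
    (hspan : ∀ i (c : L₀), algebraMap L₀ κ c ∈ Submodule.span (Kf i) (T i : Set κ))
    {σ : Type u} [Fintype σ] (b : σ → κ) (hb : LinearIndependent κ (fun l => D ℤ κ (b l))) :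
    ∃ i, LinearIndependent κ (fun l => D (Kf i) κ (b l)) ∧
      Module.Finite κ (Ω[κ⁄Kf i]) ∧ Module.finrank κ (Ω[κ⁄Kf i]) ≤ N i := by
  classical
  let m := Module.finrank L₀ κ
  let β := Module.finBasis L₀ κ
  -- the monomials in `b` are independent over `κ^p`
  let F0 : Subfield κ := (frobenius κ p).fieldRange
  have hpowF0 : ∀ y : κ, y ^ p ∈ Set.range (algebraMap F0 κ) := fun y => ⟨⟨y ^ p, ⟨y, rfl⟩⟩, rfl⟩
  have hbF0 : LinearIndependent κ (fun l => D F0 κ (b l)) := by
    let D0 : Derivation F0 κ (Ω[κ⁄ℤ]) := Derivation.mk'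
      { toFun := D ℤ κ
        map_add' := map_add _
        map_smul' := fun c x => by
          obtain ⟨y, hy⟩ := c.2
          rw [RingHom.id_apply, Subfield.smul_def, Subfield.smul_def, smul_eq_mul, Derivation.leibniz, ← hy,
            frobenius_def, Derivation.leibniz_pow, ← Nat.cast_smul_eq_nsmul κ, CharP.cast_eq_zero, zero_smul,
            smul_zero, add_zero] }
      (D ℤ κ).leibniz
    refine LinearIndependent.of_comp D0.liftKaehlerDifferential ?_
    convert hb using 1
    funext l
    simp [D0]
  let mon : (σ → Fin p) → κ := fun e => pMonomial b (expRed e).1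
  have hmon : LinearIndependent F0 mon :=
    ((PBasis12.isPIndependent_iff_li (algebraMap F0 κ).injective hpowF0 b).mp
      ((PBasis12.isPIndependent_iff_D b).mpr hbF0)).comp _ expRed_bijective.1
  let eW := Fintype.equivFin (Fin m × (σ → Fin p))
  let w : Fin (Fintype.card (Fin m × (σ → Fin p))) → κ := fun j =>
    β (eW.symm j).1 ^ p * mon (eW.symm j).2
  obtain ⟨i, hi⟩ := EGA4H10.exists_independent_of_directed Kf hdir w fun c hc hsum => by
    choose a ha using fun j => hroot (c j) (hc j)
    have h1 : ∑ x : Fin m × (σ → Fin p), algebraMap L₀ κ (a (eW x)) ^ p * (β x.1 ^ p * mon x.2) = 0 := by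
      rw [← hsum, ← eW.sum_comp]
      exact Finset.sum_congr rfl fun x _ => by simp [w, ha]
    rw [Fintype.sum_prod_type, Finset.sum_comm] at h1
    have h2 : ∑ e : σ → Fin p, (∑ l, a (eW (l, e)) • β l) ^ p * mon e = 0 := by
      rw [← h1]
      refine Finset.sum_congr rfl fun e _ => ?_
      rw [sum_pow_char, Finset.sum_mul]
      exact Finset.sum_congr rfl fun l _ => by rw [Algebra.smul_def, mul_pow, mul_assoc]
    have h3 := Fintype.linearIndependent_iff.1 hmon
      (fun e => ⟨(∑ l, a (eW (l, e)) • β l) ^ p, ⟨_, rfl⟩⟩) h2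
    funext j
    have h4 : ∑ l, a (eW (l, (eW.symm j).2)) • β l = 0 := by
      have := congrArg Subtype.val (h3 (eW.symm j).2)
      exact (pow_eq_zero_iff (Fact.out : p.Prime).ne_zero).1 this
    have h5 := Fintype.linearIndependent_iff.1 β.linearIndependent _ h4 (eW.symm j).1
    rw [Prod.mk.eta, Equiv.apply_symm_apply] at h5
    rw [ha, h5, map_zero, zero_pow (Fact.out : p.Prime).ne_zero]
    rfl
  let F := Kf i
  have hw : LinearIndependent F (fun x : Fin m × (σ → Fin p) => β x.1 ^ p * mon x.2) := by
    rw [Fintype.linearIndependent_iff]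
    intro g hg x
    have h0 := hi (fun j => (g (eW.symm j) : κ)) (fun j => (g (eW.symm j)).2) (by
      rw [← hg, ← eW.sum_comp]
      exact Finset.sum_congr rfl fun x _ => by simp [w, Subfield.smul_def])
    have h1 := congrFun h0 (eW x)
    simp only [Equiv.symm_apply_apply, Pi.zero_apply] at h1
    exact Subtype.ext h1
  have hp0 : 0 < p := (Fact.out : p.Prime).pos
  have hmon0 : mon (fun _ => ⟨0, hp0⟩) = 1 := by
    simp [mon, expRed, pMonomial, Finsupp.prod]
  have hβ : LinearIndependent F (fun l : Fin m => β l ^ p) := by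
    have := hw.comp (fun l => (l, fun _ => (⟨0, hp0⟩ : Fin p))) fun a b h => congrArg Prod.fst h
    convert this using 1
    funext l
    simp only [Function.comp_apply, hmon0, mul_one]
  let P := pPowerSubalgebra p F κ
  have hP : ∀ y ∈ P, ∃ c : Fin m → F, y = ∑ l, c l • β l ^ p := by
    intro y hy
    have hy' : y ∈ Subalgebra.toSubmodule (Algebra.adjoin F (Set.range fun z : κ => z ^ p)) := hy
    rw [Algebra.adjoin_eq_span] at hy'
    have hy'' : y ∈ Submodule.span F (Set.range fun l : Fin m => β l ^ p) := by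
      refine Submodule.span_le.2 ?_ hy'
      intro y hy
      obtain ⟨z, rfl⟩ : y ∈ MonoidHom.mrange (powMonoidHom p : κ →* κ) :=
        Submonoid.closure_le.2 (fun y hy => hy) hy
      rw [SetLike.mem_coe, powMonoidHom_apply, ← β.sum_repr z, sum_pow_char]
      refine sum_mem fun l _ => ?_
      rw [Algebra.smul_def, mul_pow]
      exact Submodule.smul_mem _ (⟨_, hpow i _⟩ : F) (Submodule.subset_span ⟨l, rfl⟩)
    obtain ⟨c, hc⟩ := (Submodule.mem_span_range_iff_exists_fun F).1 hy''
    exact ⟨c, hc.symm⟩
  have hindb : IsPIndependent p F b := by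
    have hP' : LinearIndependent P mon := by
      rw [Fintype.linearIndependent_iff]
      intro g hg e
      choose c hc using fun e => hP (g e : κ) (g e).2
      have h1 : ∑ x : Fin m × (σ → Fin p), c x.2 x.1 • (β x.1 ^ p * mon x.2) = 0 := by
        rw [Fintype.sum_prod_type, Finset.sum_comm, ← hg]
        refine Finset.sum_congr rfl fun e _ => ?_
        rw [Subalgebra.smul_def, smul_eq_mul, hc, Finset.sum_mul]
        exact Finset.sum_congr rfl fun l _ => (smul_mul_assoc _ _ _).symm
      refine Subtype.ext ((hc e).trans ?_)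
      refine Finset.sum_eq_zero fun l _ => ?_
      rw [Fintype.linearIndependent_iff.1 hw _ h1 (l, e), zero_smul]
    have := hP'.comp _ (Equiv.ofBijective _ expRed_bijective).symm.injective
    rw [IsPIndependent]
    convert this using 1
    funext e
    simp only [Function.comp_apply, mon]
    exact congrArg (fun z : {e : σ →₀ ℕ // ∀ i, e i < p} => pMonomial b z.1)
      ((Equiv.ofBijective _ (expRed_bijective (p := p) (σ := σ))).apply_symm_apply e).symm
  -- the degree bound
  let G : Finset κ := ((Finset.univ : Finset (Fin m)) ×ˢ T i).image fun x => β x.1 * x.2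
  have hG : Submodule.span F (G : Set κ) = ⊤ := by
    rw [eq_top_iff]
    intro z _
    rw [← β.sum_repr z]
    refine sum_mem fun l _ => ?_
    rw [Algebra.smul_def, mul_comm]
    have h1 := Submodule.mem_map_of_mem (f := LinearMap.mulLeft F (β l)) (hspan i (β.repr z l))
    rw [Submodule.map_span] at h1
    refine Submodule.span_mono ?_ h1
    rintro _ ⟨t, ht, rfl⟩
    exact Finset.mem_coe.2 (Finset.mem_image.2 ⟨(l, t), Finset.mem_product.2 ⟨Finset.mem_univ _, ht⟩, rfl⟩)
  have : Module.Finite F κ := ⟨⟨G, hG⟩⟩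
  have hdeg : Module.finrank F κ ≤ m * p ^ N i := by
    rw [← finrank_top F κ, ← hG]
    refine (finrank_span_finset_le_card G).trans (Finset.card_image_le.trans ?_)
    rw [Finset.card_product, Finset.card_univ, Fintype.card_fin]
    exact Nat.mul_le_mul_left _ (hT i)
  have : Module.Finite κ (Ω[κ⁄F]) := inferInstance
  refine ⟨i, (PBasis12.isPIndependent_iff_D b).mp hindb, this, ?_⟩
  obtain ⟨τ, a, -, haspan, hali⟩ := exists_linearIndependent' κ (D F κ)
  rw [KaehlerDifferential.span_range_derivation] at haspan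
  let bΩ := Module.Basis.mk hali haspan.ge
  have : Fintype τ := FiniteDimensional.fintypeBasisIndex bΩ
  rw [Module.finrank_eq_card_basis bΩ]
  have hinda : IsPIndependent p F (fun t : τ => a t) := (PBasis12.isPIndependent_iff_D _).mpr hali
  let mona : (τ → Fin p) → κ := fun e => pMonomial (fun t : τ => a t) (expRed e).1
  have hmona : LinearIndependent P mona := LinearIndependent.comp hinda _ expRed_bijective.1
  have hprod : LinearIndependent F (fun x : Fin m × (τ → Fin p) => β x.1 ^ p * mona x.2) := by
    rw [Fintype.linearIndependent_iff]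
    intro g hg x
    let q : (τ → Fin p) → P := fun e =>
      ⟨∑ l, g (l, e) • β l ^ p, sum_mem fun l _ => P.smul_mem (PBasis12.pow_mem_pPower _) _⟩
    have h1 : ∑ e, q e • mona e = 0 := by
      rw [← hg, Fintype.sum_prod_type, Finset.sum_comm]
      refine Finset.sum_congr rfl fun e _ => ?_
      rw [Subalgebra.smul_def, smul_eq_mul, Finset.sum_mul]
      exact Finset.sum_congr rfl fun l _ => smul_mul_assoc _ _ _
    have h2 : ∑ l, g (l, x.2) • β l ^ p = 0 :=
      congrArg Subtype.val (Fintype.linearIndependent_iff.1 hmona q h1 x.2)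
    exact Fintype.linearIndependent_iff.1 hβ _ h2 x.1
  have h3 := hprod.fintype_card_le_finrank.trans hdeg
  rw [Fintype.card_prod, Fintype.card_fin, Fintype.card_fun, Fintype.card_fin] at h3
  exact (Nat.pow_le_pow_iff_right (Fact.out : p.Prime).one_lt).1
    (Nat.le_of_mul_le_mul_left h3 Module.finrank_pos)

end Groth.Agent.EGA4Alg4.NagJac13
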