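import Groth.Agent.EGA4Alg4.NagJac

/-!
# Nagata's criterion over a separable subfield; openness of the formally smooth locus
-/

set_option autoImplicit false
set_option maxHeartbeats 400000

universe u

open IsLocalRing

namespace Groth.Agent.EGA4Alg4.NagJac13

theorem isAdicFormallySmooth_of_separable {k K₀ A : Type u} [Field k] [Field K₀] [Algebra k K₀]
    [Algebra.IsGeometricallyReduced k K₀] [CommRing A] [IsLocalRing A] [Algebra k A] [Algebra K₀ A]
    [IsScalarTower k K₀ A] (hA : CAlgX.IsAdicFormallySmooth K₀ A (maximalIdeal A)) :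
    CAlgX.IsAdicFormallySmooth k A (maximalIdeal A) := by
  have : Algebra.FormallySmooth k K₀ :=
    (Sep12.formallySmooth_iff_isGeometricallyReduced (k := k) (K := K₀)).mpr ‹_›
  exact Cohen12.isAdicFormallySmooth_trans _ hA

theorem isOpen_setOf_fs (p : ℕ) {k A : Type u} [Field k] [ExpChar k p]
    (hk : p = 1 ∨ Module.Finite (frobenius k p).fieldRange k) [CommRing A] [IsLocalRing A] [IsNoetherianRing A]
    [IsAdicComplete (maximalIdeal A) A] [Algebra k A] (hA : CAlgX.IsAdicFormallySmooth k A (maximalIdeal A))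
    (q : Ideal A) :
    IsOpen {n : PrimeSpectrum (A ⧸ q) | CAlgX.IsAdicFormallySmooth k (Localization.AtPrime n.asIdeal)
      (maximalIdeal (Localization.AtPrime n.asIdeal))} := by
  classical
  rw [isOpen_iff_forall_mem_open]
  intro n hn
  have transport : ∀ (I I' : Ideal (A ⧸ q)) [I.IsPrime] [I'.IsPrime], I = I' →
      CAlgX.IsAdicFormallySmooth k (Localization.AtPrime I) (maximalIdeal (Localization.AtPrime I)) →
      CAlgX.IsAdicFormallySmooth k (Localization.AtPrime I') (maximalIdeal (Localization.AtPrime I')) := by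
    intro I I' _ _ h hI
    subst h
    exact hI
  have hPeq : ∀ N : PrimeSpectrum (A ⧸ q),
      (N.asIdeal.comap (Ideal.Quotient.mk q)).map (Ideal.Quotient.mk q) = N.asIdeal := fun N =>
    Ideal.map_comap_of_surjective _ Ideal.Quotient.mk_surjective _
  have hqP : ∀ N : PrimeSpectrum (A ⧸ q), q ≤ N.asIdeal.comap (Ideal.Quotient.mk q) := fun N x hx => by
    rw [Ideal.mem_comap, Ideal.Quotient.eq_zero_iff_mem.2 hx]
    exact zero_mem _
  let P := n.asIdeal.comap (Ideal.Quotient.mk q)
  have : (P.map (Ideal.Quotient.mk q)).IsPrime := (hPeq n).symm ▸ n.2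
  obtain ⟨m, D, f, hfq, hgen, hdet⟩ := (jacobian_of_isAdicFormallySmooth p hk hA q P (hqP n)).1
    (transport _ _ (hPeq n).symm hn)
  obtain ⟨T, hT⟩ : q.FG := IsNoetherian.noetherian q
  replace hT : Ideal.span (T : Set A) = q := hT
  have hsx : ∀ x ∈ T, ∃ s ∉ P, s * x ∈ Ideal.span (Set.range f) := by
    intro x hx
    have h1 : algebraMap A (Localization.AtPrime P) x ∈
        (Ideal.span (Set.range f)).map (algebraMap A (Localization.AtPrime P)) := by
      rw [Ideal.map_span, ← Set.range_comp]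
      exact hgen.le (Ideal.mem_map_of_mem _ (hT ▸ Ideal.subset_span hx))
    obtain ⟨s, hs, hsx⟩ := (IsLocalization.algebraMap_mem_map_algebraMap_iff P.primeCompl _ _ _).1 h1
    exact ⟨s, hs, hsx⟩
  choose s hs hsx using fun x : T => hsx x x.2
  let a := Matrix.det (Matrix.of fun i j => D i (f j)) * ∏ x, s x
  refine ⟨PrimeSpectrum.basicOpen (Ideal.Quotient.mk q a), ?_, (PrimeSpectrum.basicOpen _).2, ?_⟩
  · intro n' hn'
    let P' := n'.asIdeal.comap (Ideal.Quotient.mk q)
    have : (P'.map (Ideal.Quotient.mk q)).IsPrime := (hPeq n').symm ▸ n'.2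
    have ha : a ∉ P' := hn'
    refine transport _ _ (hPeq n') ((jacobian_of_isAdicFormallySmooth p hk hA q P' (hqP n')).2
      ⟨m, D, f, hfq, le_antisymm ?_ (Ideal.span_le.2 ?_), fun h => ha (Ideal.mul_mem_right _ _ h)⟩)
    · rw [Ideal.map_le_iff_le_comap]
      refine hT.ge.trans (Ideal.span_le.2 fun x hx => ?_)
      have h1 := Ideal.mem_map_of_mem (algebraMap A (Localization.AtPrime P')) (hsx ⟨x, hx⟩)
      rw [map_mul, Ideal.map_span, ← Set.range_comp] at h1
      have hu : IsUnit (algebraMap A (Localization.AtPrime P') (s ⟨x, hx⟩)) :=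
        IsLocalization.map_units _ (⟨s ⟨x, hx⟩, fun h => ha (Ideal.mul_mem_left _ _
          (Ideal.prod_mem _ (Finset.mem_univ _) h))⟩ : P'.primeCompl)
      exact (Ideal.unit_mul_mem_iff_mem _ hu).1 h1
    · rintro _ ⟨i, rfl⟩
      exact Ideal.mem_map_of_mem _ (hfq i)
  · show a ∉ P
    intro h
    rcases (inferInstance : P.IsPrime).mem_or_mem h with h | h
    · exact hdet h
    · obtain ⟨x, -, hx⟩ := (inferInstance : P.IsPrime).prod_mem_iff.1 h
      exact hs x hx

end Groth.Agent.EGA4Alg4.NagJac13
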