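import Groth.Agent.EGA4Alg4.NagJac
import Groth.Agent.EGA4Alg4.ArtinRadicial
import Groth.Agent.EGA4Alg4.IntegralDim
import Groth.Agent.CAlg6.CompleteSurj

/-!
# Nagata's Jacobian criterion for power series rings with a separable normalisation
-/

set_option autoImplicit false
set_option maxHeartbeats 400000
set_option linter.unusedSectionVars false

universe u

open IsLocalRing

namespace Groth.Agent.EGA4Alg4.NagJac13

/-- A regular quotient of the local ring at `P` gives generators independent in the cotangent space. -/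
theorem exists_regular_generators {A : Type u} [CommRing A] (q P : Ideal A) [P.IsPrime] (hqP : q ≤ P)
    [(P.map (Ideal.Quotient.mk q)).IsPrime] [IsRegularLocalRing (Localization.AtPrime P)]
    [IsRegularLocalRing (Localization.AtPrime (P.map (Ideal.Quotient.mk q)))] :
    ∃ (m : ℕ) (g : Fin m → P) (lin : P →ₗ[A] CotangentSpace (Localization.AtPrime P)),
      (∀ i, (g i : A) ∈ q) ∧
      q.map (algebraMap A (Localization.AtPrime P)) =
        Ideal.span (Set.range fun i => algebraMap A (Localization.AtPrime P) (g i)) ∧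
      LinearIndependent P.ResidueField fun i => lin (g i) := by
  classical
  let AP := Localization.AtPrime P
  let P' := P.map (Ideal.Quotient.mk q)
  have hM : P = P'.comap (Ideal.Quotient.mk q) := by
    rw [Ideal.comap_map_quotientMk, sup_eq_right.2 hqP]
  obtain ⟨hsurj, hker⟩ := ArtinRadicial13.surjective_ker_localRingHom (Ideal.Quotient.mk q)
    Ideal.Quotient.mk_surjective P' P hM
  let θ := Localization.localRingHom P P' (Ideal.Quotient.mk q) hM
  rw [Ideal.mk_ker] at hker
  let I := q.map (algebraMap A AP)
  have : IsRegularLocalRing (AP ⧸ I) := IsRegularLocalRing.of_ringEquiv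
    ((Ideal.quotEquivOfEq hker.symm).trans (RingHom.quotientKerEquivOfSurjective hsurj)).symm
  obtain ⟨x, c, hc, hx, hI⟩ := CAlg1.exists_params_quotient AP _ rfl I
  have hxm : ∀ i, x i ∈ maximalIdeal AP := fun i => hx ▸ Ideal.subset_span ⟨i, rfl⟩
  have hli : LinearIndependent (ResidueField AP) fun i => (maximalIdeal AP).toCotangent ⟨x i, hxm i⟩ := by
    refine linearIndependent_of_top_le_span_of_card_eq_finrank ?_ ?_
    · have h := (span_eq_maximalIdeal_iff (Set.range fun i => (⟨x i, hxm i⟩ : maximalIdeal AP))).1 (by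
        rw [← Set.range_comp]; exact hx)
      rw [← Set.range_comp] at h
      exact h.ge
    · rw [Fintype.card_fin, spanFinrank_maximalIdeal_eq_finrank_cotangentSpace]
  have hmem : ∀ i : Fin c, x (Fin.castLE hc i) ∈ I := fun i => hI.ge (Ideal.subset_span ⟨i, rfl⟩)
  choose as has using fun i => (IsLocalization.mem_map_algebraMap_iff P.primeCompl AP).1 (hmem i)
  let g : Fin c → P := fun i => ⟨(as i).1, hqP (as i).1.2⟩
  have hmax : P.map (algebraMap A AP) = maximalIdeal AP := IsLocalization.AtPrime.map_eq_maximalIdeal P AP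
  let lin : P →ₗ[A] CotangentSpace AP :=
    { toFun := fun y => (maximalIdeal AP).toCotangent ⟨algebraMap A AP y, hmax ▸ Ideal.mem_map_of_mem _ y.2⟩
      map_add' := fun y z => by
        rw [← map_add]
        congr 1
        exact Subtype.ext (map_add _ _ _)
      map_smul' := fun a y => by
        show _ = a • (maximalIdeal AP).toCotangent _
        rw [← algebraMap_smul AP a ((maximalIdeal AP).toCotangent _), ← map_smul]
        congr 1
        exact Subtype.ext (map_mul _ _ _) }
  refine ⟨c, g, lin, fun i => (as i).1.2, le_antisymm ?_ (Ideal.span_le.2 ?_), ?_⟩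
  · refine hI.le.trans (Ideal.span_le.2 ?_)
    rintro _ ⟨i, rfl⟩
    have h1 : algebraMap A AP (g i) ∈ Ideal.span (Set.range fun i => algebraMap A AP (g i)) :=
      Ideal.subset_span ⟨i, rfl⟩
    rw [show algebraMap A AP (g i) = x (Fin.castLE hc i) * algebraMap A AP (as i).2 from (has i).symm] at h1
    exact (Ideal.mul_unit_mem_iff_mem _ (IsLocalization.map_units AP (as i).2)).1 h1
  · rintro _ ⟨i, rfl⟩
    exact Ideal.mem_map_of_mem _ (as i).1.2
  · let u : Fin c → (ResidueField AP)ˣ := fun i =>
      ((IsLocalization.map_units AP (as i).2).map (residue AP)).unit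
    have h2 := (hli.comp (Fin.castLE hc) (Fin.castLE_injective hc)).units_smul u
    convert h2 using 1
    funext i
    show (maximalIdeal AP).toCotangent _ =
      residue AP (algebraMap A AP (as i).2) • (maximalIdeal AP).toCotangent _
    rw [← ResidueField.algebraMap_eq, algebraMap_smul, ← map_smul]
    congr 1
    exact Subtype.ext ((has i).symm.trans (mul_comm _ _))

theorem isAdicFormallySmooth_powerSeries (k : Type u) [Field k] (r : ℕ) :
    CAlgX.IsAdicFormallySmooth k (MvPowerSeries (Fin r) k) (maximalIdeal (MvPowerSeries (Fin r) k)) := by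
  let A := MvPowerSeries (Fin r) k
  have : IsRegularLocalRing A := CAlg6.isRegularLocalRing_mvPowerSeries
  have hb : Function.Bijective (algebraMap k (ResidueField A)) := by
    refine ⟨RingHom.injective _, fun z => ?_⟩
    obtain ⟨z, rfl⟩ := residue_surjective z
    refine ⟨MvPowerSeries.constantCoeff z, ?_⟩
    rw [IsScalarTower.algebraMap_apply k A (ResidueField A), MvPowerSeries.algebraMap_apply, ← sub_eq_zero,
      ResidueField.algebraMap_eq, ← map_sub]
    exact (residue_eq_zero_iff _).2 ((mem_maximalIdeal _).2 fun hu =>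
      not_isUnit_zero (M₀ := k) (by simpa using MvPowerSeries.isUnit_iff_constantCoeff.1 hu))
  have : Algebra.FormallySmooth k (ResidueField A) :=
    Algebra.FormallySmooth.of_equiv (AlgEquiv.ofBijective (Algebra.ofId k (ResidueField A)) hb)
  have : Algebra.IsGeometricallyReduced k (ResidueField A) :=
    (Sep12.formallySmooth_iff_isGeometricallyReduced (k := k) (K := ResidueField A)).mp ‹_›
  exact Cohen12.isAdicFormallySmooth_of_regular

theorem jacobian_powerSeries {k : Type u} [Field k] (r : ℕ)
    (q p : Ideal (MvPowerSeries (Fin r) k)) [p.IsPrime] (hqp : q ≤ p) [(p.map (Ideal.Quotient.mk q)).IsPrime]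
    (s : ℕ) [Algebra (MvPowerSeries (Fin s) k) (MvPowerSeries (Fin r) k ⧸ p)]
    [IsScalarTower k (MvPowerSeries (Fin s) k) (MvPowerSeries (Fin r) k ⧸ p)]
    [Module.Finite (MvPowerSeries (Fin s) k) (MvPowerSeries (Fin r) k ⧸ p)]
    (hinj : Function.Injective (algebraMap (MvPowerSeries (Fin s) k) (MvPowerSeries (Fin r) k ⧸ p)))
    {L' L : Type u} [Field L'] [Field L]
    [Algebra (MvPowerSeries (Fin s) k) L'] [IsFractionRing (MvPowerSeries (Fin s) k) L']
    [Algebra (MvPowerSeries (Fin r) k ⧸ p) L] [IsFractionRing (MvPowerSeries (Fin r) k ⧸ p) L]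
    [Algebra L' L] [Algebra (MvPowerSeries (Fin s) k) L]
    [IsScalarTower (MvPowerSeries (Fin s) k) (MvPowerSeries (Fin r) k ⧸ p) L]
    [IsScalarTower (MvPowerSeries (Fin s) k) L' L] [Algebra.IsSeparable L' L]
    [IsRegularLocalRing (Localization.AtPrime (p.map (Ideal.Quotient.mk q)))] :
    ∃ (m : ℕ) (D : Fin m → Derivation k (MvPowerSeries (Fin r) k) (MvPowerSeries (Fin r) k))
        (f : Fin m → MvPowerSeries (Fin r) k), (∀ i, f i ∈ q) ∧
        q.map (algebraMap (MvPowerSeries (Fin r) k) (Localization.AtPrime p)) =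
          Ideal.span (Set.range fun i => algebraMap (MvPowerSeries (Fin r) k) (Localization.AtPrime p) (f i)) ∧
        Matrix.det (Matrix.of fun i j => D i (f j)) ∉ p := by
  classical
  let A := MvPowerSeries (Fin r) k
  let R' := MvPowerSeries (Fin s) k
  let B := A ⧸ p
  have : IsRegularLocalRing A := CAlg6.isRegularLocalRing_mvPowerSeries
  have : IsAdicComplete (maximalIdeal A) A := CAlg6.isAdicComplete_maximalIdeal
  have : IsRegularLocalRing (Localization.AtPrime p) := CAlg1.regular_localization A p
  have : IsLocalRing B := .of_surjective' _ Ideal.Quotient.mk_surjective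
  have : IsLocalHom (Ideal.Quotient.mk p) := .of_surjective _ Ideal.Quotient.mk_surjective
  have : Algebra.IsIntegral R' B := Algebra.IsIntegral.of_finite R' B
  have hmB : ∀ i : Fin s, algebraMap R' B (MvPowerSeries.X i) ∈ maximalIdeal B := by
    intro i
    have h1 : (maximalIdeal B).comap (algebraMap R' B) = maximalIdeal R' :=
      IsLocalRing.eq_maximalIdeal (Ideal.isMaximal_comap_of_isIntegral_of_isMaximal _)
    rw [← Ideal.mem_comap, h1]
    exact (mem_maximalIdeal _).2 fun hu =>
      not_isUnit_zero (M₀ := k) (by simpa using MvPowerSeries.isUnit_iff_constantCoeff.1 hu)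
  choose y hy using fun i => Ideal.Quotient.mk_surjective (I := p) (algebraMap R' B (MvPowerSeries.X i))
  have hym : ∀ i, y i ∈ maximalIdeal A := fun i => (mem_maximalIdeal _).2 fun hu =>
    (mem_maximalIdeal _).1 (hmB i) (hy i ▸ hu.map (Ideal.Quotient.mk p))
  obtain ⟨φ, hφC, hφX⟩ := LA18.exists_powerSeries_hom (maximalIdeal A) (algebraMap k A) y hym
  have hCA : ∀ c : k, algebraMap k A c = MvPowerSeries.C c := fun c => MvPowerSeries.algebraMap_apply
  have heq : (Ideal.Quotient.mk p).comp φ = algebraMap R' B := by
    refine powerSeries_hom_ext _ _ (fun c => ?_) (fun i => ?_) (fun i => ?_)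
    · rw [RingHom.comp_apply, hφC, show (MvPowerSeries.C c : R') = algebraMap k R' c from
        (MvPowerSeries.algebraMap_apply (R := k) (A := k) (r := c)).symm, ← IsScalarTower.algebraMap_apply]
      rfl
    · rw [RingHom.comp_apply, hφX, hy]
    · rw [RingHom.comp_apply, hφX]
      exact map_nonunit (Ideal.Quotient.mk p) _ (hym i)
  have hs : ringKrullDim B = s := by
    rw [ringKrullDim_eq_of_integral R' B hinj, CAlg6.ringKrullDim_mvPowerSeries]
  obtain ⟨m, g, lin, hgq, hgs, hgli⟩ := exists_regular_generators q p hqp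
  let : Algebra A L := ((algebraMap B L).comp (Ideal.Quotient.mk p)).toAlgebra
  have : IsScalarTower A B L := ⟨fun a b z => by
    obtain ⟨b, rfl⟩ := Ideal.Quotient.mk_surjective b
    show Ideal.Quotient.mk p (a * b) • z = a • Ideal.Quotient.mk p b • z
    rw [Algebra.smul_def, Algebra.smul_def a, Algebra.smul_def]
    show _ = algebraMap B L (Ideal.Quotient.mk p a) * _
    rw [map_mul, map_mul, mul_assoc]⟩
  have : IsScalarTower A p.ResidueField (CotangentSpace (Localization.AtPrime p)) :=
    IsScalarTower.of_algebraMap_smul fun a v => by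
      rw [IsScalarTower.algebraMap_apply A (Localization.AtPrime p) p.ResidueField,
        algebraMap_smul p.ResidueField (algebraMap A (Localization.AtPrime p) a) v, algebraMap_smul]
  obtain ⟨D, hD⟩ := exists_derivations_separable (k := k) (L₀ := L') (L := L) (RingEquiv.refl A)
    (fun c => ⟨c, hCA c⟩) p hs φ (fun c => (hφC c).trans (hCA c)) (fun i => hφX i ▸ hym i)
    (fun z => ((IsScalarTower.algebraMap_apply R' L' L z).symm.trans
      (IsScalarTower.algebraMap_apply R' B L z)).trans (congrArg (algebraMap B L) (RingHom.congr_fun heq z).symm))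
    lin g hgli
  exact ⟨m, D, fun i => g i, hgq, hgs, hD⟩

end Groth.Agent.EGA4Alg4.NagJac13
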