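import Groth.Agent.EGA4Alg4.NagJacDetect
import Groth.Agent.Cohen12.Finite
import Groth.Agent.Cohen12.Structure
import Groth.Agent.LC16.CanonLocal
import Groth.Agent.EGA4H10.CompleteUC
import Groth.Agent.CAlg6.CompleteSurj
import Groth.Agent.LA18.ColonKilling

/-!
# Normalisation and generators at a prime of a power series ring
-/

set_option autoImplicit false
set_option maxHeartbeats 400000

set_option linter.unusedSectionVars false

universe u

open IsLocalRing KaehlerDifferential

namespace Groth.Agent.EGA4Alg4.NagJac13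

/-- Homomorphisms out of power series rings agreeing on constants and variables are equal. -/
theorem powerSeries_hom_ext {K B : Type u} [CommRing K] [CommRing B] [IsLocalRing B] [IsNoetherianRing B] {s : ℕ}
    (φ ψ : MvPowerSeries (Fin s) K →+* B) (hC : ∀ c, φ (MvPowerSeries.C c) = ψ (MvPowerSeries.C c))
    (hX : ∀ i, φ (MvPowerSeries.X i) = ψ (MvPowerSeries.X i))
    (hm : ∀ i, φ (MvPowerSeries.X i) ∈ maximalIdeal B) : φ = ψ := by
  refine RingHom.ext fun z => sub_eq_zero.1 (eq_zero_of_decomp (φ.toAddMonoidHom - ψ.toAddMonoidHom) Set.univ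
    (fun i => MvPowerSeries.X i) (fun i => φ (MvPowerSeries.X i)) hm (fun z _ => ?_) (fun i z _ => ?_) z trivial)
  · obtain ⟨hs, hz, -⟩ := exists_decomp_step 1 Nat.one_pos z fun m _ i => one_dvd _
    exact ⟨_, hs, fun _ => trivial, sub_eq_zero.2 (hC _), by simpa using hz⟩
  · show φ (MvPowerSeries.X i * z) - ψ (MvPowerSeries.X i * z) = φ (MvPowerSeries.X i) * (φ z - ψ z)
    rw [map_mul, map_mul, hX, mul_sub]

variable {K A : Type u} [Field K] [CommRing A] [IsLocalRing A] [IsNoetherianRing A]

theorem isRegularLocalRing_of_equiv {r : ℕ} (e : MvPowerSeries (Fin r) K ≃+* A) : IsRegularLocalRing A :=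
  have := CAlg6.isRegularLocalRing_mvPowerSeries (k := K) (d := r)
  IsRegularLocalRing.of_ringEquiv e

theorem exists_normalisation [IsAdicComplete (maximalIdeal A) A] {r : ℕ} (e : MvPowerSeries (Fin r) K ≃+* A)
    (P : Ideal A) [P.IsPrime] :
    ∃ (s : ℕ) (φ : MvPowerSeries (Fin s) K →+* A), ringKrullDim (A ⧸ P) = s ∧
      (∀ c, φ (MvPowerSeries.C c) = e (MvPowerSeries.C c)) ∧ (∀ i, φ (MvPowerSeries.X i) ∈ maximalIdeal A) ∧
      Function.Injective ((Ideal.Quotient.mk P).comp φ) ∧ ((Ideal.Quotient.mk P).comp φ).Finite := by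
  classical
  let B := A ⧸ P
  have : IsLocalRing B := .of_surjective' _ Ideal.Quotient.mk_surjective
  have : IsAdicComplete (maximalIdeal B) B := Cohen12.isAdicComplete_quotient P
  let κ₀ : K →+* B := (Ideal.Quotient.mk P).comp (e.toRingHom.comp MvPowerSeries.C)
  let : Algebra K B := κ₀.toAlgebra
  have : IsLocalHom (Ideal.Quotient.mk P) := .of_surjective _ Ideal.Quotient.mk_surjective
  have hsurj : Function.Surjective (algebraMap K (ResidueField B)) := by
    intro z
    obtain ⟨z, rfl⟩ := residue_surjective z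
    obtain ⟨y, rfl⟩ := Ideal.Quotient.mk_surjective z
    obtain ⟨y, rfl⟩ := e.surjective y
    refine ⟨MvPowerSeries.constantCoeff y, ?_⟩
    rw [IsScalarTower.algebraMap_apply K B (ResidueField B)]
    show residue B (Ideal.Quotient.mk P (e (MvPowerSeries.C (MvPowerSeries.constantCoeff y)))) = _
    rw [← sub_eq_zero, ← map_sub (residue B), ← map_sub (Ideal.Quotient.mk P), ← map_sub e]
    refine (residue_eq_zero_iff _).2 (map_nonunit (Ideal.Quotient.mk P) _ ?_)
    exact (IsLocalRing.mem_maximalIdeal _).2 fun hu =>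
      not_isUnit_zero (M₀ := K) (by simpa using MvPowerSeries.isUnit_iff_constantCoeff.1 ((isUnit_map_iff e _).1 hu))
  have : Module.Finite K (ResidueField B) := Module.Finite.of_surjective (Algebra.linearMap K _) hsurj
  obtain ⟨s, w, hdim, hinj, hloc, hfin⟩ := Cohen12.exists_finite_powerSeries (k₀ := K) (A := B)
  choose g hg using fun i => Ideal.Quotient.mk_surjective (I := P) (w (MvPowerSeries.X i))
  have hgm : ∀ i, g i ∈ maximalIdeal A := fun i => by
    refine (IsLocalRing.mem_maximalIdeal _).2 fun hu => ?_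
    have h1 : IsUnit (w.toRingHom (MvPowerSeries.X i)) := hg i ▸ hu.map (Ideal.Quotient.mk P)
    exact not_isUnit_zero ((MvPowerSeries.constantCoeff_X (R := K) i) ▸
      MvPowerSeries.isUnit_iff_constantCoeff.1 (isUnit_of_map_unit w.toRingHom _ h1))
  obtain ⟨φ, hφC, hφX⟩ := LA18.exists_powerSeries_hom (maximalIdeal A) (e.toRingHom.comp MvPowerSeries.C) g hgm
  have heq : (Ideal.Quotient.mk P).comp φ = w.toRingHom := by
    refine powerSeries_hom_ext _ _ (fun c => ?_) (fun i => ?_) (fun i => ?_)
    · rw [RingHom.comp_apply, hφC]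
      exact (w.commutes c).symm.trans (congrArg w MvPowerSeries.algebraMap_apply)
    · rw [RingHom.comp_apply, hφX, hg]
      rfl
    · rw [RingHom.comp_apply, hφX]
      exact map_nonunit (Ideal.Quotient.mk P) _ (hgm i)
  exact ⟨s, φ, hdim, hφC, fun i => hφX i ▸ hgm i, heq ▸ hinj, heq ▸ hfin⟩

theorem exists_prime_generators {r s : ℕ} (e : MvPowerSeries (Fin r) K ≃+* A) (P : Ideal A) [P.IsPrime]
    (hs : ringKrullDim (A ⧸ P) = s) :
    ∃ (h : ℕ) (f : Fin h → A), (∀ i, f i ∈ P) ∧
      (∀ x ∈ P, ∃ t ∉ P, t * x ∈ Ideal.span (Set.range f)) ∧ h + s = r := by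
  classical
  have := isRegularLocalRing_of_equiv e
  let AP := Localization.AtPrime P
  have : IsRegularLocalRing AP := CAlg1.regular_localization A P
  obtain ⟨S, hcard, hS⟩ := Submodule.FG.exists_span_finset_card_eq_spanFinrank
    (maximalIdeal AP).fg_of_isNoetherianRing
  let y : Fin S.card → AP := fun i => S.equivFin.symm i
  choose xs hxs using fun i => IsLocalization.surj P.primeCompl (y i)
  let f : Fin S.card → A := fun i => (xs i).1
  have hmax : P.map (algebraMap A AP) = maximalIdeal AP := IsLocalization.AtPrime.map_eq_maximalIdeal P AP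
  have hy : ∀ i, y i ∈ maximalIdeal AP := fun i => hS ▸ Submodule.subset_span (S.equivFin.symm i).2
  have hfP : ∀ i, f i ∈ P := fun i => by
    rw [← IsLocalization.AtPrime.to_map_mem_maximal_iff AP P, ← hxs i]
    exact Ideal.mul_mem_right _ _ (hy i)
  have hspan : maximalIdeal AP ≤ (Ideal.span (Set.range f)).map (algebraMap A AP) := by
    rw [← hS, Submodule.span_le]
    intro z hz
    obtain ⟨i, rfl⟩ : ∃ i, y i = z := ⟨S.equivFin ⟨z, hz⟩, by simp [y]⟩
    have h1 : algebraMap A AP (f i) ∈ (Ideal.span (Set.range f)).map (algebraMap A AP) :=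
      Ideal.mem_map_of_mem _ (Ideal.subset_span ⟨i, rfl⟩)
    rw [← hxs i] at h1
    exact (Ideal.mul_unit_mem_iff_mem _ (IsLocalization.map_units AP (xs i).2)).1 h1
  refine ⟨S.card, f, hfP, fun x hx => ?_, ?_⟩
  · obtain ⟨t, ht, htx⟩ := (IsLocalization.algebraMap_mem_map_algebraMap_iff P.primeCompl AP _ _).1
      (hspan (hmax ▸ Ideal.mem_map_of_mem _ hx))
    exact ⟨t, ht, htx⟩
  · have := EGA4H10.isCohenMacaulayLocalRing_of_regular A
    refine LC16.CanonLocal.height_add_dim_quotient P ?_ ?_ hs
    · rw [← ringKrullDim_eq_of_ringEquiv e, CAlg6.ringKrullDim_mvPowerSeries]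
    · rw [← IsRegularLocalRing.spanFinrank_maximalIdeal (R := AP), hcard]

section Transfer

variable {κ : Type u} [Field κ] [Algebra A κ] (P : Ideal A) [P.IsPrime] [Algebra (A ⧸ P) κ]
  [IsScalarTower A (A ⧸ P) κ] [IsFractionRing (A ⧸ P) κ]

theorem linearMap_mem_span {h : ℕ} (f : Fin h → A) (hf : ∀ i, f i ∈ P)
    (hgen : ∀ x ∈ P, ∃ t ∉ P, t * x ∈ Ideal.span (Set.range f)) {M : Type u} [AddCommGroup M] [Module κ M]
    [Module A M] [IsScalarTower A κ M] (L : P →ₗ[A] M) (h0 : ∀ i, L ⟨f i, hf i⟩ = 0) (x : P) : L x = 0 := by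
  obtain ⟨t, ht, htx⟩ := hgen x x.2
  obtain ⟨b, hb⟩ := Ideal.mem_span_range_iff_exists_fun.1 htx
  have h1 : t • x = ∑ i, b i • (⟨f i, hf i⟩ : P) := Subtype.ext (by simpa using hb.symm)
  have h2 := congrArg L h1
  simp only [map_sum, map_smul, h0, smul_zero, Finset.sum_const_zero] at h2
  rw [← algebraMap_smul κ t, smul_eq_zero] at h2
  exact h2.resolve_left fun h3 => ht ((algebraMap_eq_zero_iff' P t).1 h3)

/-- Independence detected by any linear map on `P` is detected by derivations which are independent on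
generators. -/
theorem vals_li_transfer {n h m : ℕ} (Δ : Fin n → Derivation ℤ A A) (f : Fin h → A) (hf : ∀ i, f i ∈ P)
    (hgen : ∀ x ∈ P, ∃ t ∉ P, t * x ∈ Ideal.span (Set.range f))
    (hΔf : LinearIndependent κ fun i => vals (κ := κ) Δ (f i))
    {M : Type u} [AddCommGroup M] [Module κ M] [Module A M] [IsScalarTower A κ M] (L : P →ₗ[A] M)
    (g : Fin m → P) (hg : LinearIndependent κ fun i => L (g i)) :
    LinearIndependent κ fun i => vals (κ := κ) Δ (g i : A) := by
  classical
  obtain ⟨T₀, hT₀⟩ := (Fintype.linearCombination κ fun i => vals (κ := κ) Δ (f i)).exists_leftInverse_of_injective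
    (LinearMap.ker_eq_bot.2 (linearIndependent_iff_injective_fintypeLinearCombination.1 hΔf))
  let T : (Fin n → κ) →ₗ[κ] M := Fintype.linearCombination κ (fun i => L ⟨f i, hf i⟩) ∘ₗ T₀
  let ΦP : P →ₗ[A] (Fin n → κ) :=
    { toFun := fun x => vals (κ := κ) Δ (x : A)
      map_add' := fun x y => map_add _ _ _
      map_smul' := fun c x => by
        rw [RingHom.id_apply, Submodule.coe_smul, smul_eq_mul, Derivation.leibniz]
        refine add_eq_left.2 ?_
        rw [← algebraMap_smul κ (x : A), (algebraMap_eq_zero_iff' P _).2 x.2, zero_smul] }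
  have hzero : ∀ x, (L - (T.restrictScalars A).comp ΦP) x = 0 := by
    refine linearMap_mem_span (κ := κ) P f hf hgen _ fun i => ?_
    have h1 := LinearMap.congr_fun hT₀ (Pi.single i 1)
    simp only [LinearMap.comp_apply, Fintype.linearCombination_apply_single, one_smul, LinearMap.id_apply] at h1
    simp only [LinearMap.sub_apply, LinearMap.comp_apply, LinearMap.restrictScalars_apply, T, sub_eq_zero]
    show _ = Fintype.linearCombination κ _ (T₀ (vals (κ := κ) Δ (f i)))
    rw [h1, Fintype.linearCombination_apply_single, one_smul]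
  refine LinearIndependent.of_comp T ?_
  convert hg using 1
  funext i
  exact (sub_eq_zero.1 (hzero (g i))).symm

theorem vals_li_of_det {n h : ℕ} (Δ : Fin n → Derivation ℤ A A) (f : Fin h → A) (σ : Fin h → Fin n)
    (hdet : Matrix.det (Matrix.of fun i j => Δ (σ j) (f i)) ∉ P) :
    LinearIndependent κ fun i => vals (κ := κ) Δ (f i) := by
  classical
  let M := (algebraMap A κ).mapMatrix (Matrix.of fun i j => Δ (σ j) (f i))
  have hM : IsUnit M := by
    rw [Matrix.isUnit_iff_isUnit_det, isUnit_iff_ne_zero, ← RingHom.map_det]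
    exact fun h0 => hdet ((algebraMap_eq_zero_iff' P _).1 h0)
  refine LinearIndependent.of_comp (LinearMap.funLeft κ κ σ) ?_
  have : (LinearMap.funLeft κ κ σ ∘ fun i => vals (κ := κ) Δ (f i)) = M.row := rfl
  rw [this]
  exact Matrix.linearIndependent_rows_iff_isUnit.2 hM

end Transfer

/-- Derivations killing the base are derivations over it. -/
theorem exists_rel_derivation {k B : Type u} [CommRing k] [CommRing B] [Algebra k B] (D : Derivation ℤ B B)
    (h : ∀ c, D (algebraMap k B c) = 0) : ∃ D' : Derivation k B B, ∀ b, D' b = D b :=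
  ⟨Derivation.mk'
    { toFun := D
      map_add' := map_add D
      map_smul' := fun c b => by
        rw [RingHom.id_apply, Algebra.smul_def, Derivation.leibniz, h, smul_zero, add_zero, smul_eq_mul,
          ← Algebra.smul_def] }
    D.leibniz, fun _ => rfl⟩

end Groth.Agent.EGA4Alg4.NagJac13
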