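import Mathlib
import Groth.Agent.EGA4H10.ProjDim

/-! Row S5782: projective dimension over `A/aA` of `E/aE`. -/

set_option autoImplicit false

universe u

open CategoryTheory TensorProduct
open scoped Pointwise

namespace Groth.Agent.EGA4Alg4.PDQuot13

variable {A : Type u} [CommRing A]

/-- `(A/J) ⊗ M ≅ M/JM` over `A/J`. -/
noncomputable def quotTensorEquiv (J : Ideal A) (M : Type u) [AddCommGroup M] [Module A M] :
    (A ⧸ J) ⊗[A] M ≃ₗ[A ⧸ J] M ⧸ (J • ⊤ : Submodule A M) :=
  LinearEquiv.extendScalarsOfSurjective Ideal.Quotient.mk_surjective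
    (TensorProduct.quotTensorEquivQuotSMul M J)

theorem mem_span_smul_iff (a : A) {M : Type u} [AddCommGroup M] [Module A M] (x : M) :
    x ∈ Ideal.span {a} • (⊤ : Submodule A M) ↔ ∃ y, a • y = x := by
  rw [Submodule.ideal_span_singleton_smul, Submodule.mem_smul_pointwise_iff_exists]
  simp

theorem hasPD_succ_step (a : A) (n : ℕ) {K F E : Type u} [AddCommGroup K] [Module A K] [AddCommGroup F]
    [Module A F] [Module.Projective A F] [AddCommGroup E] [Module A E] (i : K →ₗ[A] F) (π : F →ₗ[A] E)
    (hi : Function.Injective i) (hex0 : Function.Exact i π) (hπ : Function.Surjective π) (hE : IsSMulRegular E a)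
    (hK' : HasProjectiveDimensionLE
      (ModuleCat.of (A ⧸ Ideal.span {a}) (K ⧸ (Ideal.span {a} • (⊤ : Submodule A K)))) n) :
    HasProjectiveDimensionLE
      (ModuleCat.of (A ⧸ Ideal.span {a}) (E ⧸ (Ideal.span {a} • (⊤ : Submodule A E)))) (n + 1) := by
  set J : Ideal A := Ideal.span {a} with hJ
  have : Module.Projective (A ⧸ J) (F ⧸ (J • ⊤ : Submodule A F)) :=
    Module.Projective.of_equiv (quotTensorEquiv J F)
  let g : (K ⧸ (J • ⊤ : Submodule A K)) →ₗ[A ⧸ J] (F ⧸ (J • ⊤ : Submodule A F)) :=
    LinearMap.extendScalarsOfSurjective Ideal.Quotient.mk_surjective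
      (Submodule.mapQ _ _ i (by
        rw [← Submodule.map_le_iff_le_comap, Submodule.map_smul'']
        exact Submodule.smul_mono le_rfl le_top))
  let f : (F ⧸ (J • ⊤ : Submodule A F)) →ₗ[A ⧸ J] (E ⧸ (J • ⊤ : Submodule A E)) :=
    LinearMap.extendScalarsOfSurjective Ideal.Quotient.mk_surjective
      (Submodule.mapQ _ _ π (by
        rw [← Submodule.map_le_iff_le_comap, Submodule.map_smul'']
        exact Submodule.smul_mono le_rfl le_top))
  have hgm : ∀ k : K, g (Submodule.Quotient.mk k) = Submodule.Quotient.mk (i k) := fun _ => rfl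
  have hfm : ∀ x : F, f (Submodule.Quotient.mk x) = Submodule.Quotient.mk (π x) := fun _ => rfl
  have hgi : Function.Injective g := (injective_iff_map_eq_zero g).2 fun q hq => by
    obtain ⟨k, rfl⟩ := Submodule.Quotient.mk_surjective _ q
    rw [hgm, Submodule.Quotient.mk_eq_zero, hJ, mem_span_smul_iff] at hq
    obtain ⟨y, hy⟩ := hq
    have h0 : π y = 0 := hE.right_eq_zero_of_smul (by
      rw [← map_smul, hy]; exact hex0.apply_apply_eq_zero k)
    obtain ⟨z, rfl⟩ := (hex0 y).1 h0
    exact (Submodule.Quotient.mk_eq_zero _).2 ((mem_span_smul_iff a k).2 ⟨z, hi (by rw [map_smul, hy])⟩)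
  have hex : Function.Exact g f := by
    intro q
    obtain ⟨x, rfl⟩ := Submodule.Quotient.mk_surjective _ q
    constructor
    · intro hq
      rw [hfm, Submodule.Quotient.mk_eq_zero, hJ, mem_span_smul_iff] at hq
      obtain ⟨e, he⟩ := hq
      obtain ⟨y, rfl⟩ := hπ e
      obtain ⟨k, hk⟩ := (hex0 (x - a • y)).1 (by rw [map_sub, map_smul, he, sub_self])
      refine ⟨Submodule.Quotient.mk k, ?_⟩
      rw [hgm, Submodule.Quotient.eq, hJ, mem_span_smul_iff, hk]
      exact ⟨-y, by rw [smul_neg, sub_sub_cancel_left]⟩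
    · rintro ⟨k, hk⟩
      obtain ⟨k, rfl⟩ := Submodule.Quotient.mk_surjective _ k
      rw [← hk, hgm, hfm, hex0.apply_apply_eq_zero k]
      rfl
  have hfs : Function.Surjective f := fun q => by
    obtain ⟨e, rfl⟩ := Submodule.Quotient.mk_surjective _ q
    obtain ⟨x, rfl⟩ := hπ e
    exact ⟨Submodule.Quotient.mk x, hfm x⟩
  exact (EGA4H10.hasPD_succ_iff g f hgi hex hfs n).2 hK'

theorem hasPD_quotient (a : A) (hA : IsSMulRegular A a) (n : ℕ) :
    ∀ (E : Type u) [AddCommGroup E] [Module A E], IsSMulRegular E a →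
      HasProjectiveDimensionLE (ModuleCat.of A E) n →
      HasProjectiveDimensionLE
        (ModuleCat.of (A ⧸ Ideal.span {a}) (E ⧸ (Ideal.span {a} • (⊤ : Submodule A E)))) n := by
  induction n with
  | zero =>
    intro E _ _ _ h
    have : Module.Projective A E := (EGA4H10.hasPD_zero_iff E).1 h
    exact (EGA4H10.hasPD_zero_iff _).2 (Module.Projective.of_equiv (quotTensorEquiv (Ideal.span {a}) E))
  | succ n ih =>
    intro E _ _ hE h
    let π : (E →₀ A) →ₗ[A] E := Finsupp.linearCombination A id
    have hπ : Function.Surjective π := Finsupp.linearCombination_surjective A Function.surjective_id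
    let K : Submodule A (E →₀ A) := LinearMap.ker π
    have hF : IsSMulRegular (E →₀ A) a := fun x y hxy =>
      Finsupp.ext fun e => hA (by simpa using DFunLike.congr_fun hxy e)
    have hK : IsSMulRegular K a := fun x y hxy => Subtype.ext (hF (congrArg Subtype.val hxy))
    exact hasPD_succ_step a n K.subtype π Subtype.val_injective π.exact_subtype_ker_map hπ hE
      (ih K hK ((EGA4H10.hasPD_succ_iff K.subtype π Subtype.val_injective π.exact_subtype_ker_map hπ n).1 h))

theorem projectiveDimension_le (E : Type u) [AddCommGroup E] [Module A E] (a : A)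
    (hA : IsSMulRegular A a) (hE : IsSMulRegular E a) :
    projectiveDimension (ModuleCat.of (A ⧸ Ideal.span {a}) (E ⧸ (Ideal.span {a} • (⊤ : Submodule A E)))) ≤
      projectiveDimension (ModuleCat.of A E) := by
  refine EGA4H10.le_of_forall_nat_imp (fun h => ?_) fun n hn => ?_
  · rw [projectiveDimension_eq_bot_iff, ModuleCat.isZero_iff_subsingleton] at h ⊢
    have : Subsingleton E := h
    exact (Submodule.Quotient.mk_surjective _).subsingleton
  · exact (projectiveDimension_le_iff _ n).2 (hasPD_quotient a hA n E hE ((projectiveDimension_le_iff _ n).1 hn))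

end Groth.Agent.EGA4Alg4.PDQuot13
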