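import Mathlib
import Groth.Prelude.Def_EGA41
import Groth.Agent.EGA4Alg4.EisPoly

/-!
# Quotients by `p`-polynomials with `p`-independent constant terms
-/

set_option autoImplicit false

universe u

namespace Groth.Agent.EGA4Alg4.PPoly13

open IsLocalRing

theorem quot_smul_def {A : Type u} [CommRing A] {ι : Type u} {I : Ideal (MvPolynomial ι A)} (a : A)
    (x : MvPolynomial ι A ⧸ I) : a • x = algebraMap A (MvPolynomial ι A ⧸ I) a * x :=
  Algebra.smul_def a x

section Span

variable {A : Type u} [CommRing A] {ι : Type u} [Fintype ι]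

/-- The reduced monomial in `t` with exponent `e`. -/
noncomputable abbrev mon {S : Type u} [CommRing S] (t : ι → S) {p : ℕ} (e : ι → Fin p) : S :=
  ∏ i, t i ^ (e i : ℕ)

theorem mon_update {S : Type u} [CommRing S] [DecidableEq ι] (t : ι → S) {p : ℕ} (e : ι → Fin p) (i : ι)
    (m : Fin p) : mon t (Function.update e i m) = t i ^ (m : ℕ) * ∏ j ∈ Finset.univ.erase i, t j ^ (e j : ℕ) := by
  rw [mon, ← Finset.mul_prod_erase _ _ (Finset.mem_univ i), Function.update_self]
  congr 1
  exact Finset.prod_congr rfl fun j hj => by rw [Function.update_of_ne (Finset.ne_of_mem_erase hj)]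

theorem span_mon_eq_top {p : ℕ} [NeZero p] (I : Ideal (MvPolynomial ι A)) (g : ι → Fin p → A)
    (h : ∀ i, (Ideal.Quotient.mk I (MvPolynomial.X i)) ^ p =
      ∑ m : Fin p, g i m • (Ideal.Quotient.mk I (MvPolynomial.X i)) ^ (m : ℕ)) :
    Submodule.span A (Set.range fun e : ι → Fin p =>
      mon (fun i => (Ideal.Quotient.mk I (MvPolynomial.X i) : MvPolynomial ι A ⧸ I)) e) = ⊤ := by
  classical
  set t : ι → MvPolynomial ι A ⧸ I := fun i => Ideal.Quotient.mk I (MvPolynomial.X i)
  set N : Submodule A (MvPolynomial ι A ⧸ I) := Submodule.span A (Set.range fun e : ι → Fin p => mon t e)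
  have hmul : ∀ i, ∀ y ∈ N, y * t i ∈ N := by
    intro i y hy
    induction hy using Submodule.span_induction with
    | zero => rw [zero_mul]; exact zero_mem _
    | add a b _ _ ha hb => rw [add_mul]; exact add_mem ha hb
    | smul a b _ hb => rw [smul_mul_assoc]; exact Submodule.smul_mem _ _ hb
    | mem y hy =>
      obtain ⟨e, rfl⟩ := hy
      have he : mon t e = t i ^ (e i : ℕ) * ∏ j ∈ Finset.univ.erase i, t j ^ (e j : ℕ) :=
        (Finset.mul_prod_erase _ _ (Finset.mem_univ i)).symm
      show mon t e * t i ∈ N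
      rw [he, mul_right_comm, ← pow_succ]
      rcases Nat.lt_or_ge ((e i : ℕ) + 1) p with hlt | hge
      · rw [← mon_update t e i ⟨_, hlt⟩]
        exact Submodule.subset_span ⟨_, rfl⟩
      · rw [show (e i : ℕ) + 1 = p by have := (e i).isLt; omega, h i, Finset.sum_mul]
        refine Submodule.sum_mem _ fun m _ => ?_
        rw [smul_mul_assoc, ← mon_update t e i m]
        exact Submodule.smul_mem _ _ (Submodule.subset_span ⟨_, rfl⟩)
  rw [eq_top_iff]
  rintro x -
  obtain ⟨x, rfl⟩ := Ideal.Quotient.mk_surjective x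
  induction x using MvPolynomial.induction_on with
  | C a =>
    have h0 : mon t (fun _ => (0 : Fin p)) = 1 := by simp [mon]
    have h1 : (Ideal.Quotient.mk I (MvPolynomial.C a) : MvPolynomial ι A ⧸ I) = a • mon t (fun _ => (0 : Fin p)) := by
      rw [h0, quot_smul_def, mul_one]
      rfl
    rw [h1]
    exact Submodule.smul_mem _ _ (Submodule.subset_span ⟨_, rfl⟩)
  | add a b ha hb => rw [map_add]; exact add_mem ha hb
  | mul_X a i ha => rw [map_mul]; exact hmul i _ ha

end Span

variable {A : Type u} [CommRing A] [IsLocalRing A] {ι : Type u} [Fintype ι] (p : ℕ) [Fact p.Prime]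
  [CharP (ResidueField A) p] (c : ι → Fin p → A) (f : ι → A)

/-- The `p`-polynomials. -/
noncomputable abbrev ppoly (i : ι) : MvPolynomial ι A :=
  MvPolynomial.X i ^ p + (p : MvPolynomial ι A) * (Finset.univ.sum fun j : Fin p =>
    if (j : ℕ) = 0 then 0 else MvPolynomial.C (c i j) * MvPolynomial.X i ^ (p - (j : ℕ))) - MvPolynomial.C (f i)

/-- The quotient ring. -/
abbrev PRing : Type u := MvPolynomial ι A ⧸ Ideal.span (Set.range (ppoly p c f))

omit [IsLocalRing A] [CharP (ResidueField A) p] [Fintype ι] in
theorem exists_reduction (i : ι) : ∃ g : Fin p → A,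
    (Ideal.Quotient.mk _ (MvPolynomial.X i) : PRing p c f) ^ p =
      ∑ m : Fin p, g m • (Ideal.Quotient.mk _ (MvPolynomial.X i) : PRing p c f) ^ (m : ℕ) := by
  have hp : 0 < p := (Fact.out : p.Prime).pos
  set t : PRing p c f := Ideal.Quotient.mk _ (MvPolynomial.X i)
  let N : Submodule A (PRing p c f) := Submodule.span A (Set.range fun m : Fin p => t ^ (m : ℕ))
  suffices h : t ^ p ∈ N by
    obtain ⟨g, hg⟩ := (Submodule.mem_span_range_iff_exists_fun _).1 h
    exact ⟨g, hg.symm⟩
  have h0 : Ideal.Quotient.mk (Ideal.span (Set.range (ppoly p c f))) (ppoly p c f i) = 0 :=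
    Ideal.Quotient.eq_zero_iff_mem.2 (Ideal.subset_span ⟨i, rfl⟩)
  simp only [ppoly, map_sub, map_add, map_mul, map_pow, map_natCast, map_sum, sub_eq_zero] at h0
  have h1 : t ^ p = Ideal.Quotient.mk _ (MvPolynomial.C (f i)) -
      (p : PRing p c f) * ∑ j : Fin p, Ideal.Quotient.mk _
        (if (j : ℕ) = 0 then 0 else MvPolynomial.C (c i j) * MvPolynomial.X i ^ (p - (j : ℕ))) :=
    eq_sub_of_add_eq h0
  rw [h1, Finset.mul_sum]
  refine sub_mem ?_ (Submodule.sum_mem _ fun j _ => ?_)
  · have : (Ideal.Quotient.mk _ (MvPolynomial.C (f i)) : PRing p c f) = f i • t ^ ((⟨0, hp⟩ : Fin p) : ℕ) := by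
      rw [pow_zero, quot_smul_def, mul_one]
      rfl
    rw [this]
    exact Submodule.smul_mem _ _ (Submodule.subset_span ⟨_, rfl⟩)
  · split_ifs with hj
    · rw [map_zero, mul_zero]; exact zero_mem _
    · have hlt : p - (j : ℕ) < p := by omega
      have : ((p : PRing p c f) * Ideal.Quotient.mk _ (MvPolynomial.C (c i j) * MvPolynomial.X i ^ (p - (j : ℕ)))) =
          ((p : A) * c i j) • t ^ ((⟨p - (j : ℕ), hlt⟩ : Fin p) : ℕ) := by
        rw [map_mul, map_pow, quot_smul_def, map_mul, map_natCast, mul_assoc]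
        rfl
      rw [this]
      exact Submodule.smul_mem _ _ (Submodule.subset_span ⟨_, rfl⟩)

theorem isLocalRing_and_maximalIdeal
    (hind : LinearIndependent (↥(frobenius (ResidueField A) p).fieldRange)
      (fun e : {e : ι →₀ ℕ // ∀ i, e i < p} => EGA41.pMonomial (fun i => residue A (f i)) e.1)) :
    IsLocalRing (PRing p c f) ∧ ∀ [IsLocalRing (PRing p c f)],
      maximalIdeal (PRing p c f) = (maximalIdeal A).map (algebraMap A (PRing p c f)) := by
  classical
  haveI : NeZero p := ⟨(Fact.out : p.Prime).ne_zero⟩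
  let K := ResidueField A
  let Ω := AlgebraicClosure K
  haveI : CharP Ω p := charP_of_injective_algebraMap (algebraMap K Ω).injective p
  choose b hb using fun i : ι => IsAlgClosed.exists_pow_nat_eq (algebraMap A Ω (f i)) (NeZero.pos p)
  let ψ : PRing p c f →ₐ[A] Ω := Ideal.Quotient.liftₐ _ (MvPolynomial.aeval b) fun a ha => by
    refine (Ideal.span_le (I := RingHom.ker (MvPolynomial.aeval b).toRingHom)).2 ?_ ha
    rintro _ ⟨i, rfl⟩
    change MvPolynomial.aeval b (ppoly p c f i) = 0
    simp [ppoly, hb, CharP.cast_eq_zero Ω p]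
  let t : ι → PRing p c f := fun i => Ideal.Quotient.mk _ (MvPolynomial.X i)
  choose g hg using exists_reduction p c f
  have htop := span_mon_eq_top (Ideal.span (Set.range (ppoly p c f))) g hg
  haveI : Module.Finite A (PRing p c f) := .of_fg_top ⟨(Set.finite_range _).toFinset, by
    rw [Set.Finite.coe_toFinset]; exact htop⟩
  have hψt : ∀ e : ι → Fin p, ψ (mon t e) = mon b e := by
    intro e
    simp only [mon, map_prod, map_pow]
    exact Finset.prod_congr rfl fun i _ => by rw [show ψ (t i) = b i from MvPolynomial.aeval_X b i]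
  have hker : RingHom.ker ψ = (maximalIdeal A).map (algebraMap A (PRing p c f)) := by
    refine le_antisymm (fun x hx => ?_) ?_
    · obtain ⟨a, ha⟩ := (Submodule.mem_span_range_iff_exists_fun _).1 (htop.ge (Submodule.mem_top (x := x)))
      have h0 : ∑ e, algebraMap K Ω (residue A (a e)) * mon b e = 0 := by
        have h := congrArg ψ ha
        rw [RingHom.mem_ker] at hx
        rw [hx, map_sum] at h
        refine Eq.trans (Finset.sum_congr rfl fun e _ => ?_) h
        rw [map_smul, show ψ (mon t e) = mon b e from hψt e, Algebra.smul_def,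
          IsScalarTower.algebraMap_apply A K Ω]
        rfl
      have h1 : ∑ e, residue A (a e) ^ p * mon (fun i => residue A (f i)) e = 0 := by
        apply (algebraMap K Ω).injective
        rw [map_zero, map_sum, ← zero_pow (M₀ := Ω) (NeZero.ne p), ← h0, sum_pow_char]
        refine Finset.sum_congr rfl fun e _ => ?_
        rw [mul_pow, map_mul, map_pow, mon, mon, map_prod, ← Finset.prod_pow]
        congr 1
        refine Finset.prod_congr rfl fun i _ => ?_
        rw [map_pow, ← pow_mul, mul_comm (e i : ℕ) p, pow_mul, hb, IsScalarTower.algebraMap_apply A K Ω]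
        rfl
      let E : (ι → Fin p) → {e : ι →₀ ℕ // ∀ i, e i < p} := fun e =>
        ⟨Finsupp.equivFunOnFinite.symm fun i => (e i : ℕ), fun i => by simp⟩
      have hE : Function.Injective E := fun e e' h => by
        funext i
        exact Fin.ext (by simpa [E] using DFunLike.congr_fun (congrArg Subtype.val h) i)
      have hmon : ∀ e, EGA41.pMonomial (fun i => residue A (f i)) (E e).1 = mon (fun i => residue A (f i)) e := by
        intro e
        rw [EGA41.pMonomial, Finsupp.prod_fintype _ _ (fun i => pow_zero _)]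
        simp [E, mon]
      have ha0 : ∀ e, a e ∈ maximalIdeal A := by
        intro e
        have h2 := Fintype.linearIndependent_iff.1 (hind.comp E hE)
          (fun e => (⟨frobenius K p (residue A (a e)), ⟨_, rfl⟩⟩ : (frobenius K p).fieldRange)) ?_ e
        · have h3 : residue A (a e) ^ p = 0 := congrArg Subtype.val h2
          exact (residue_eq_zero_iff _).1 (eq_zero_of_pow_eq_zero h3)
        · refine Eq.trans (Finset.sum_congr rfl fun e _ => ?_) h1
          rw [Function.comp_apply, hmon]
          rfl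
      rw [← ha]
      refine Ideal.sum_mem _ fun e _ => ?_
      rw [quot_smul_def]
      exact Ideal.mul_mem_right _ _ (Ideal.mem_map_of_mem _ (ha0 e))
    · rw [Ideal.map_le_iff_le_comap]
      intro x hx
      rw [Ideal.mem_comap, RingHom.mem_ker, AlgHom.commutes, IsScalarTower.algebraMap_apply A K Ω,
        show algebraMap A K x = 0 from (residue_eq_zero_iff _).2 hx, map_zero]
  haveI : Algebra.IsIntegral A (PRing p c f) := inferInstance
  refine Eis13.isLocalRing_of_isIntegral _ ?_ fun M _ hM => hM
  have hP : (RingHom.ker ψ).IsPrime := RingHom.ker_isPrime _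
  have hc : (RingHom.ker ψ).comap (algebraMap A (PRing p c f)) = maximalIdeal A := by
    refine le_antisymm (le_maximalIdeal (Ideal.comap_ne_top _ hP.ne_top)) ?_
    rw [← Ideal.map_le_iff_le_comap]
    exact hker.ge
  rw [← hker]
  exact Ideal.isMaximal_of_isIntegral_of_isMaximal_comap (RingHom.ker ψ) (hc ▸ maximalIdeal.isMaximal A)

end Groth.Agent.EGA4Alg4.PPoly13
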