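import Mathlib

/-! Quasi-regularity of a single element versus regularity. -/

set_option autoImplicit false
universe u
open scoped Pointwise

namespace Groth.Agent.EGA4Alg4

section
variable {A : Type u} [CommRing A] {M : Type u} [AddCommGroup M] [Module A M]

theorem qreg_of_reg {f : A} (h : IsSMulRegular M f) (k : ℕ) (x : M)
    (hx : f ^ k • x ∈ f ^ (k + 1) • (⊤ : Submodule A M)) : x ∈ f • (⊤ : Submodule A M) := by
  obtain ⟨y, -, hy⟩ := (Submodule.mem_smul_pointwise_iff_exists _ _ _).mp hx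
  rw [pow_succ, mul_smul] at hy
  exact (Submodule.mem_smul_pointwise_iff_exists _ _ _).mpr ⟨y, trivial, (h.pow k hy)⟩

theorem mem_iInf_of_qreg {f : A}
    (h : ∀ (k : ℕ) (x : M), f ^ k • x ∈ f ^ (k + 1) • (⊤ : Submodule A M) → x ∈ f • (⊤ : Submodule A M))
    (x : M) (hx : f • x = 0) (k : ℕ) : x ∈ f ^ k • (⊤ : Submodule A M) := by
  induction k with
  | zero => simp
  | succ k ih =>
    obtain ⟨y, -, rfl⟩ := (Submodule.mem_smul_pointwise_iff_exists _ _ _).mp ih
    have : f ^ (k+1) • y = 0 := by rw [pow_succ', mul_smul, hx]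
    obtain ⟨z, -, rfl⟩ := (Submodule.mem_smul_pointwise_iff_exists _ _ _).mp
      (h (k+1) y (by rw [this]; exact zero_mem _))
    exact (Submodule.mem_smul_pointwise_iff_exists _ _ _).mpr ⟨z, trivial, by rw [pow_succ, mul_smul]⟩

theorem regular_imp_qreg_and_conv (f : A) :
    (IsSMulRegular M f →
        ∀ (k : ℕ) (x : M), f ^ k • x ∈ f ^ (k + 1) • (⊤ : Submodule A M) → x ∈ f • (⊤ : Submodule A M)) ∧
      ((⨅ k : ℕ, f ^ k • (⊤ : Submodule A M)) = ⊥ →
        (∀ (k : ℕ) (x : M), f ^ k • x ∈ f ^ (k + 1) • (⊤ : Submodule A M) → x ∈ f • (⊤ : Submodule A M)) →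
          IsSMulRegular M f) := by
  refine ⟨fun h => qreg_of_reg h, fun hb h => ?_⟩
  rw [isSMulRegular_iff_right_eq_zero_of_smul]
  intro x hx
  rw [← Submodule.mem_bot A, ← hb, Submodule.mem_iInf]
  exact mem_iInf_of_qreg h x hx

theorem regular_iff_qreg [IsNoetherianRing A] [Module.Finite A M] (f : A) :
    IsSMulRegular M f ↔
      ∀ (k : ℕ) (x : M), f ^ k • x ∈ f ^ (k + 1) • (⊤ : Submodule A M) → x ∈ f • (⊤ : Submodule A M) := by
  refine ⟨fun h => qreg_of_reg h, fun h => ?_⟩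
  rw [isSMulRegular_iff_right_eq_zero_of_smul]
  intro x hx
  have : x ∈ (⨅ k : ℕ, Ideal.span {f} ^ k • ⊤ : Submodule A M) := by
    rw [Submodule.mem_iInf]; intro k
    rw [Ideal.span_singleton_pow, Submodule.ideal_span_singleton_smul]
    exact mem_iInf_of_qreg h x hx k
  obtain ⟨⟨r, hr⟩, hrx⟩ := (Ideal.mem_iInf_smul_pow_eq_bot_iff _ _).mp this
  obtain ⟨a, rfl⟩ := Ideal.mem_span_singleton'.mp hr
  rw [← hrx]; simp [mul_smul, hx]
end


end Groth.Agent.EGA4Alg4
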