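import Mathlib
import Groth.Prelude.Def_Found
import Groth.Agent.EGA4Alg4.GeomRegFS
import Groth.Agent.Cohen12.Fibre
import Groth.Agent.CAlg1.FSFlat
import Groth.Agent.CAlg5.RegularHom

/-!
# The local homomorphisms of a regular homomorphism are formally smooth
-/

set_option autoImplicit false

universe u

open IsLocalRing TensorProduct

namespace Groth.Agent.EGA4Alg4.RegHomLoc13

/-- For a regular homomorphism `X → Y`, a prime `q` of `Y` over `r`: `X_r → Y_q` is formally smooth. -/
theorem isFormallySmoothAdic_localization {X Y : Type u} [CommRing X] [IsNoetherianRing X] [CommRing Y]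
    [IsNoetherianRing Y] [Algebra X Y] (H : CAlg.IsRegularHom X Y) (q : Ideal Y) [q.IsPrime]
    (r : Ideal X) [r.IsPrime] (hr : r = q.comap (algebraMap X Y))
    [Algebra (Localization.AtPrime r) (Localization.AtPrime q)]
    [IsScalarTower X (Localization.AtPrime r) (Localization.AtPrime q)] :
    EGA41.IsFormallySmoothAdic (Localization.AtPrime r) (maximalIdeal (Localization.AtPrime r))
      (Localization.AtPrime q) (maximalIdeal (Localization.AtPrime q)) := by
  let Xr := Localization.AtPrime r
  let Yq := Localization.AtPrime q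
  haveI : IsNoetherianRing Xr := IsLocalization.isNoetherianRing r.primeCompl _ inferInstance
  haveI : IsNoetherianRing Yq := IsLocalization.isNoetherianRing q.primeCompl _ inferInstance
  haveI hloc : IsLocalHom (algebraMap Xr Yq) := by
    refine ⟨fun z hz => ?_⟩
    obtain ⟨x, s, rfl⟩ := IsLocalization.exists_mk'_eq r.primeCompl z
    rw [IsLocalization.AtPrime.isUnit_mk'_iff Xr r x s]
    intro hx
    have h1 : algebraMap X Yq x ∈ maximalIdeal Yq := by
      rw [IsScalarTower.algebraMap_apply X Y Yq, IsLocalization.AtPrime.to_map_mem_maximal_iff Yq q]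
      rw [hr] at hx
      exact hx
    rw [IsScalarTower.algebraMap_apply X Xr Yq, ← IsLocalization.mk'_spec Xr x s, map_mul] at h1
    exact (IsLocalRing.mem_maximalIdeal _).mp h1 (hz.mul ((IsLocalization.map_units Xr s).map _))
  haveI : Module.Flat X Y := H.1
  haveI : Module.Flat X Yq := Module.Flat.trans X Y _
  haveI : Module.Flat Xr Yq := (Module.flat_iff_of_isLocalization Xr r.primeCompl Yq).2 inferInstance
  set M₀ := (maximalIdeal Xr).map (algebraMap Xr Yq) with hM₀
  have hle : M₀ ≤ maximalIdeal Yq := ((local_hom_TFAE (algebraMap Xr Yq)).out 0 2).mp hloc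
  let F := Yq ⧸ M₀
  haveI : Nontrivial F := Ideal.Quotient.nontrivial_iff.mpr fun ht =>
    (maximalIdeal.isMaximal Yq).ne_top (top_le_iff.mp (ht ▸ hle))
  haveI : IsLocalRing F := IsLocalRing.of_surjective' (Ideal.Quotient.mk _) Ideal.Quotient.mk_surjective
  haveI hmk : IsLocalHom (Ideal.Quotient.mk M₀) := IsLocalHom.of_surjective _ Ideal.Quotient.mk_surjective
  have hmF : (maximalIdeal Yq).map (Ideal.Quotient.mk M₀) = maximalIdeal F := by
    refine le_antisymm (Ideal.map_le_iff_le_comap.mpr fun b hb => map_nonunit _ b hb) fun x hx => ?_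
    obtain ⟨b, rfl⟩ := Ideal.Quotient.mk_surjective x
    exact Ideal.mem_map_of_mem _ ((mem_maximalIdeal _).mpr fun hu => (mem_maximalIdeal _).mp hx (hu.map _))
  refine Cohen12.isFormallySmoothAdic_of_flat_fibre ?_
  rw [hmF]
  let κ := r.ResidueField
  letI : Field (Xr ⧸ maximalIdeal Xr) := Ideal.Quotient.field _
  suffices hgeo : CAlg.IsGeometricallyRegular (Xr ⧸ maximalIdeal Xr) F from
    GeomFS13.isAdicFormallySmooth_iff_isGeometricallyRegular.2 hgeo
  letI : Algebra κ F := (inferInstance : Algebra (Xr ⧸ maximalIdeal Xr) F)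
  show CAlg.IsGeometricallyRegular κ F
  let S' : Submonoid (κ ⊗[X] Y) := q.primeCompl.map (Algebra.TensorProduct.includeRight (R := X) (A := κ))
  have hF0 : CAlg.IsGeometricallyRegular κ (Localization S') :=
    GeomFS13.isGeometricallyRegular_localization S' (H.2 r).2
  obtain ⟨θ, hθ⟩ := Cohen12.exists_fibre_equiv (A := Xr) (A₀ := κ) (B := Yq) (B₀ := F)
    IsLocalRing.residue_surjective (Ideal.Quotient.mk M₀) Ideal.Quotient.mk_surjective
    (by rw [Ideal.mk_ker, show RingHom.ker (algebraMap Xr κ) = maximalIdeal Xr from Ideal.mk_ker])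
    (fun a => rfl)
  let e₁ : κ ⊗[X] Yq ≃ₐ[κ] Localization S' :=
    IsLocalization.tensorProductEquivOfMapIncludeRight X κ q.primeCompl Yq (Localization S')
  let e₃ : κ ⊗[Xr] Yq ≃+* κ ⊗[X] Yq :=
    (IsLocalization.algebraTensorEquiv r.primeCompl Xr κ Yq).toRingEquiv
  let e₃' : κ ⊗[Xr] Yq ≃ₐ[κ] κ ⊗[X] Yq := AlgEquiv.ofRingEquiv (f := e₃) fun c => rfl
  exact CAlg5.isGeometricallyRegular_of_algEquiv ((e₁.symm.trans e₃'.symm).trans θ) hF0

end Groth.Agent.EGA4Alg4.RegHomLoc13
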