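import Groth.Agent.EGA4Alg4.SymGrField
import Groth.Agent.Sep12.Admissible

/-!
# Injectivity of `Ω_k ⊗ K → Ω_A ⊗ K` through a filtered family of subfields
-/

set_option autoImplicit false

universe u

open TensorProduct KaehlerDifferential IsLocalRing

namespace Groth.Agent.EGA4Alg4.KCrit13

section relative

variable {F k A : Type u} [CommRing F] [CommRing k] [CommRing A] [IsLocalRing A] [Algebra F k] [Algebra F A]
  [Algebra k A] [IsScalarTower F k A]

theorem exists_extension_of_injective
    (h : Function.Injective ((mapBaseChange F k A).lTensor (ResidueField A)))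
    (δ : Derivation F k (ResidueField A)) :
    ∃ E : Derivation F A (ResidueField A), ∀ c, E (algebraMap k A c) = δ c := by
  let Φ : ResidueField A ⊗[A] (A ⊗[k] Ω[k⁄F]) →ₗ[ResidueField A] ResidueField A :=
    (δ.liftKaehlerDifferential.liftBaseChange A).liftBaseChange (ResidueField A)
  obtain ⟨g, hg⟩ := ((mapBaseChange F k A).baseChange (ResidueField A)).exists_leftInverse_of_injective
    (LinearMap.ker_eq_bot.mpr h)
  let Ψ : Ω[A⁄F] →ₗ[A] ResidueField A :=
    ((Φ ∘ₗ g).restrictScalars A) ∘ₗ TensorProduct.mk A (ResidueField A) Ω[A⁄F] 1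
  refine ⟨Ψ.compDer (D F A), fun c => ?_⟩
  have hd : D F A (algebraMap k A c) = mapBaseChange F k A ((1 : A) ⊗ₜ D F k c) := by
    rw [mapBaseChange_tmul, one_smul, map_D]
  change Φ (g ((1 : ResidueField A) ⊗ₜ[A] D F A (algebraMap k A c))) = δ c
  rw [hd, show (1 : ResidueField A) ⊗ₜ[A] mapBaseChange F k A ((1 : A) ⊗ₜ D F k c) =
    (mapBaseChange F k A).baseChange (ResidueField A) ((1 : ResidueField A) ⊗ₜ[A] ((1 : A) ⊗ₜ D F k c)) from rfl,
    ← LinearMap.comp_apply g, hg]
  simp [Φ]

theorem injective_of_extension
    (h : ∀ δ : Derivation F k (ResidueField A),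
      ∃ E : Derivation ℤ A (ResidueField A), ∀ c, E (algebraMap k A c) = δ c) :
    Function.Injective ((mapBaseChange F k A).lTensor (ResidueField A)) := by
  rw [injective_iff_map_eq_zero]
  intro z hz
  refine (Module.forall_dual_apply_eq_zero_iff (ResidueField A) z).1 fun φ => ?_
  let φ' : Ω[k⁄F] →ₗ[k] ResidueField A :=
    ((φ.restrictScalars A) ∘ₗ TensorProduct.mk A (ResidueField A) (A ⊗[k] Ω[k⁄F]) 1).restrictScalars k ∘ₗ
      TensorProduct.mk k A Ω[k⁄F] 1
  obtain ⟨E, hE⟩ := h (φ'.compDer (D F k))
  have hEF : ∀ r : F, E (algebraMap F A r) = 0 := fun r => by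
    rw [IsScalarTower.algebraMap_apply F k A, hE]
    exact Derivation.map_algebraMap _ r
  let E' : Derivation F A (ResidueField A) := Derivation.mk'
    { toFun := E
      map_add' := map_add E
      map_smul' := fun r a => by
        rw [RingHom.id_apply, Algebra.smul_def r a, Derivation.leibniz, hEF, smul_zero, add_zero,
          algebraMap_smul] }
    (fun a b => E.leibniz a b)
  have h2 : (φ'.compDer (D F k)).liftKaehlerDifferential = φ' := by
    apply Derivation.liftKaehlerDifferential_unique
    ext c
    simp
  have h3 : (φ'.liftBaseChange A).liftBaseChange (ResidueField A) = φ := by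
    apply TensorProduct.AlgebraTensorModule.curry_injective
    apply LinearMap.ext_ring
    apply TensorProduct.AlgebraTensorModule.curry_injective
    apply LinearMap.ext_ring
    ext w
    simp [φ']
  have h4 : (φ'.liftBaseChange A).liftBaseChange (ResidueField A) =
      (E'.liftKaehlerDifferential.liftBaseChange (ResidueField A)) ∘ₗ
        (mapBaseChange F k A).baseChange (ResidueField A) := by
    apply TensorProduct.AlgebraTensorModule.curry_injective
    apply LinearMap.ext_ring
    apply TensorProduct.AlgebraTensorModule.curry_injective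
    apply LinearMap.ext_ring
    apply Derivation.liftKaehlerDifferential_unique
    ext c
    simpa [E'] using (hE c).symm
  rw [← h3, h4, LinearMap.comp_apply,
    show (mapBaseChange F k A).baseChange (ResidueField A) z = 0 from hz, map_zero]

/-- Formal smoothness gives injectivity relative to any base. -/
theorem injective_rel_of_isAdicFormallySmooth (h : CAlgX.IsAdicFormallySmooth k A (maximalIdeal A)) :
    Function.Injective ((mapBaseChange F k A).lTensor (ResidueField A)) :=
  injective_of_extension fun δ => extDer_of_isAdicFormallySmooth_residueField h (δ.restrictScalars ℤ)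

end relative

section family

variable {k A : Type u} [Field k] [CommRing A] [IsLocalRing A] [Algebra k A]

theorem injective_of_family (p : ℕ) [Fact p.Prime] [CharP k p]
    {ι : Type u} [Preorder ι] [IsDirected ι (fun a b => a ≤ b)] [Nonempty ι] (kα : ι → Subfield k)
    (hanti : Antitone kα) (hint : ⨅ α, (kα α ⊔ (frobenius k p).fieldRange) = (frobenius k p).fieldRange)
    (α₀ : ι) (hinj : ∀ α : ι, α₀ ≤ α →
      Function.Injective ((mapBaseChange (kα α) k A).lTensor (ResidueField A))) :
    Function.Injective ((mapBaseChange ℤ k A).lTensor (ResidueField A)) := by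
  let P := Sep12.prime k
  have hbot : ∀ (G : Subfield k) (x : P), algebraMap P k x ∈ G := fun G x => (bot_le : (⊥ : Subfield k) ≤ G) x.2
  let kI : ι → IntermediateField P k := fun α => (kα α).toIntermediateField (hbot _)
  have hkI : Antitone kI := fun a b hab x hx => hanti hab hx
  have hpow : (Sep12.powField p P k).toSubfield = (frobenius k p).fieldRange := by
    refine le_antisymm ?_ ?_
    · have h1 : Sep12.powField p P k ≤ (frobenius k p).fieldRange.toIntermediateField (hbot _) := by
        rw [Sep12.powField, IntermediateField.adjoin_le_iff]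
        rintro _ ⟨y, rfl⟩
        exact ⟨y, frobenius_def (R := k) p y⟩
      exact fun x hx => h1 hx
    · rintro _ ⟨y, rfl⟩
      rw [IntermediateField.mem_toSubfield, frobenius_def]
      exact IntermediateField.subset_adjoin _ _ ⟨y, rfl⟩
  have hI : (⨅ i, kI i ⊔ Sep12.powField p P k) = Sep12.powField p P k := by
    apply IntermediateField.toSubfield_injective
    rw [IntermediateField.iInf_toSubfield]
    simp only [IntermediateField.sup_toSubfield, hpow]
    exact hint
  refine injective_of_forall_derivation fun δ z hz => ?_
  let c : ResidueField A ⊗[A] (A ⊗[k] Ω[k⁄ℤ]) →ₗ[ResidueField A] ResidueField A ⊗[k] Ω[k⁄P] :=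
    (((TensorProduct.mk k (ResidueField A) Ω[k⁄P] 1).comp (KaehlerDifferential.map ℤ P k k)).liftBaseChange
      A).liftBaseChange (ResidueField A)
  have hc : ∀ (φ : ResidueField A ⊗[k] Ω[k⁄P] →ₗ[ResidueField A] ResidueField A)
      (d : Derivation ℤ k (ResidueField A)), (∀ x, φ (1 ⊗ₜ[k] D P k x) = d x) →
      (d.liftKaehlerDifferential.liftBaseChange A).liftBaseChange (ResidueField A) = φ ∘ₗ c := by
    intro φ d hφ
    apply TensorProduct.AlgebraTensorModule.curry_injective
    apply LinearMap.ext_ring
    apply TensorProduct.AlgebraTensorModule.curry_injective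
    apply LinearMap.ext_ring
    apply Derivation.liftKaehlerDifferential_unique
    ext x
    simp [c, hφ]
  suffices hcz : c z = 0 by
    have hP : ∀ r : P, δ (algebraMap P k r) = 0 := fun r => Sep12.derivation_prime_eq_zero δ r
    let δP : Derivation P k (ResidueField A) := Derivation.mk'
      { toFun := δ
        map_add' := map_add δ
        map_smul' := fun r a => by
          rw [RingHom.id_apply, Algebra.smul_def r a, Derivation.leibniz, hP, smul_zero, add_zero,
            algebraMap_smul] }
      (fun a b => δ.leibniz a b)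
    rw [hc (δP.liftKaehlerDifferential.liftBaseChange (ResidueField A)) δ
      (fun x => by simp [δP]), LinearMap.comp_apply, hcz, map_zero]
  obtain ⟨i, hi⟩ := Sep12.exists_forall_eq_zero (p := p) kI hkI hI (Submodule.span (ResidueField A) {c z})
  obtain ⟨j, hij, hj⟩ := exists_ge_ge i α₀
  refine hi _ (Submodule.subset_span rfl) ?_
  rw [Sep12.map_baseChange_eq_zero_iff]
  have hsub : (fun x : k => (1 : ResidueField A) ⊗ₜ[k] D P k x) '' (kα j : Set k)
      ⊆ (fun x : k => (1 : ResidueField A) ⊗ₜ[k] D P k x) '' (kI i : Set k) :=
    Set.image_mono fun x hx => hanti hij hx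
  refine Submodule.span_mono hsub ?_
  rw [← Submodule.Quotient.mk_eq_zero, ← Module.forall_dual_apply_eq_zero_iff (ResidueField A)]
  intro ψ
  let S := Submodule.span (ResidueField A) ((fun x : k => (1 : ResidueField A) ⊗ₜ[k] D P k x) '' (kα j : Set k))
  let φ : ResidueField A ⊗[k] Ω[k⁄P] →ₗ[ResidueField A] ResidueField A := ψ ∘ₗ S.mkQ
  let d : Derivation P k (ResidueField A) :=
    ((φ.restrictScalars k) ∘ₗ TensorProduct.mk k (ResidueField A) Ω[k⁄P] 1).compDer (D P k)
  have hd : ∀ x ∈ kα j, d x = 0 := by
    intro x hx
    show ψ (S.mkQ ((1 : ResidueField A) ⊗ₜ[k] D P k x)) = 0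
    rw [Submodule.mkQ_apply, (Submodule.Quotient.mk_eq_zero S).mpr (Submodule.subset_span (Set.mem_image_of_mem _ hx)),
      map_zero]
  let dF : Derivation (kα j) k (ResidueField A) := Derivation.mk'
    { toFun := d
      map_add' := map_add d
      map_smul' := fun r a => by
        rw [RingHom.id_apply, Algebra.smul_def r a, Derivation.leibniz,
          show d (algebraMap (kα j) k r) = 0 from hd _ r.2, smul_zero, add_zero, algebraMap_smul] }
    (fun a b => d.leibniz a b)
  obtain ⟨E, hE⟩ := exists_extension_of_injective (hinj j hj) dF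
  have h4 : ((d.restrictScalars ℤ).liftKaehlerDifferential.liftBaseChange A).liftBaseChange (ResidueField A) =
      ((E.restrictScalars ℤ).liftKaehlerDifferential.liftBaseChange (ResidueField A)) ∘ₗ
        (mapBaseChange ℤ k A).baseChange (ResidueField A) := by
    apply TensorProduct.AlgebraTensorModule.curry_injective
    apply LinearMap.ext_ring
    apply TensorProduct.AlgebraTensorModule.curry_injective
    apply LinearMap.ext_ring
    apply Derivation.liftKaehlerDifferential_unique
    ext x
    simp
    exact (hE x).symm
  show φ (c z) = 0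
  rw [← LinearMap.comp_apply φ c, ← hc φ (d.restrictScalars ℤ) (fun x => rfl), h4, LinearMap.comp_apply,
    show (mapBaseChange ℤ k A).baseChange (ResidueField A) z = 0 from hz, map_zero]

end family

end Groth.Agent.EGA4Alg4.KCrit13
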