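import Groth.Prelude.Def_PP16
import Groth.Prelude.Def_CAlgX
import Mathlib.RingTheory.Ideal.Cotangent
import Mathlib.LinearAlgebra.TensorPower.Symmetric
import Mathlib.LinearAlgebra.Multilinear.Basic

/-!
# Symmetric powers: universal property, and the canonical map onto the graded pieces of an ideal
-/

universe u v w

namespace Groth.Agent.EGA4Alg4

namespace SymGr13

open scoped Pointwise

section symmetricPower

variable {R ι : Type u} [CommRing R] {M : Type v} [AddCommGroup M] [Module R M]
  {N : Type w} [AddCommGroup N] [Module R N]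

/-- Linear map out of a symmetric power attached to a symmetric multilinear map. -/
noncomputable def symLift (g : MultilinearMap R (fun _ : ι => M) N)
    (hg : ∀ (e : Equiv.Perm ι) (f : ι → M), g (fun i => f (e i)) = g f) :
    SymmetricPower R ι M →ₗ[R] N where
  toFun := (addConGen (SymmetricPower.Rel R ι M)).lift (PiTensorProduct.lift g).toAddMonoidHom
    (AddCon.addConGen_le.2 fun x y h => by
      cases h with
      | perm e f =>
        rw [AddCon.ker_apply]
        simp [hg e f])
  map_add' := map_add _
  map_smul' r x := by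
    induction x using AddCon.induction_on with
    | _ x => exact map_smul (PiTensorProduct.lift g) r x

theorem symLift_tprod (g : MultilinearMap R (fun _ : ι => M) N)
    (hg : ∀ (e : Equiv.Perm ι) (f : ι → M), g (fun i => f (e i)) = g f) (f : ι → M) :
    symLift g hg (SymmetricPower.tprod R f) = g f := by
  show PiTensorProduct.lift g (PiTensorProduct.tprod R f) = g f
  simp

theorem sym_induction {motive : SymmetricPower R ι M → Prop}
    (tprod : ∀ f, motive (SymmetricPower.tprod R f)) (zero : motive 0)
    (add : ∀ x y, motive x → motive y → motive (x + y))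
    (smul : ∀ (r : R) x, motive x → motive (r • x)) (z : SymmetricPower R ι M) : motive z := by
  have hz : z ∈ Submodule.span R (Set.range (SymmetricPower.tprod R (ι := ι) (M := M))) := by
    rw [SymmetricPower.span_tprod_eq_top]; trivial
  induction hz using Submodule.span_induction with
  | mem x hx => obtain ⟨f, rfl⟩ := hx; exact tprod f
  | zero => exact zero
  | add x y _ _ hx hy => exact add x y hx hy
  | smul r x _ hx => exact smul r x hx

/-- Symmetric product map attached to a linear map into a commutative algebra. -/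
noncomputable def symProd [Fintype ι] {S : Type w} [CommRing S] [Algebra R S] (f : M →ₗ[R] S) :
    SymmetricPower R ι M →ₗ[R] S :=
  symLift ((MultilinearMap.mkPiAlgebra R ι S).compLinearMap (fun _ => f))
    (fun e m => by
      simp only [MultilinearMap.compLinearMap_apply, MultilinearMap.mkPiAlgebra_apply]
      exact Equiv.prod_comp e (fun i => f (m i)))

theorem symProd_tprod [Fintype ι] {S : Type w} [CommRing S] [Algebra R S] (f : M →ₗ[R] S) (m : ι → M) :
    symProd f (SymmetricPower.tprod R m) = ∏ i, f (m i) := by
  rw [symProd, symLift_tprod]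
  simp

end symmetricPower

section products

variable {R : Type u} [CommRing R]

/-- Products of congruent elements of an ideal are congruent one degree higher. -/
theorem prod_sub_prod_mem {ι : Type v} (s : Finset ι) (I : Ideal R) (a b : ι → R)
    (ha : ∀ i ∈ s, a i ∈ I) (hb : ∀ i ∈ s, b i ∈ I) (hab : ∀ i ∈ s, a i - b i ∈ I ^ 2) :
    (∏ i ∈ s, a i) - ∏ i ∈ s, b i ∈ I ^ (s.card + 1) := by
  classical
  induction s using Finset.induction_on with
  | empty => simp
  | insert j s hj ih =>
    rw [Finset.prod_insert hj, Finset.prod_insert hj, Finset.card_insert_of_notMem hj]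
    have e : a j * ∏ i ∈ s, a i - b j * ∏ i ∈ s, b i
        = (a j - b j) * ∏ i ∈ s, a i + b j * ((∏ i ∈ s, a i) - ∏ i ∈ s, b i) := by ring
    rw [e]
    refine Ideal.add_mem _ ?_ ?_
    · have h1 : ∏ i ∈ s, a i ∈ I ^ s.card := by
        rw [← Finset.prod_const]
        exact Ideal.prod_mem_prod (fun i hi => ha i (Finset.mem_insert_of_mem hi))
      have h2 := Ideal.mul_mem_mul (hab j (Finset.mem_insert_self j s)) h1
      rw [← pow_add] at h2
      exact Ideal.pow_le_pow_right (by omega) h2
    · rw [pow_succ' I (s.card + 1)]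
      exact Ideal.mul_mem_mul (hb j (Finset.mem_insert_self j s))
        (ih (fun i hi => ha i (Finset.mem_insert_of_mem hi)) (fun i hi => hb i (Finset.mem_insert_of_mem hi))
          (fun i hi => hab i (Finset.mem_insert_of_mem hi)))

variable (J : Ideal R)

theorem zetaJ_congr {ι : Type u} [Fintype ι] (x y : ι → ↥J)
    (h : ∀ i, J.toCotangent (x i) = J.toCotangent (y i)) : PP16.zetaJ R J x = PP16.zetaJ R J y := by
  rw [PP16.zetaJ, PP16.zetaJ, Submodule.Quotient.eq, Submodule.mem_comap]
  simpa using prod_sub_prod_mem Finset.univ J (fun i => (x i : R)) (fun i => (y i : R))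
    (fun i _ => (x i).2) (fun i _ => (y i).2) (fun i _ => (Ideal.toCotangent_eq J).mp (h i))

/-- A section of `toCotangent`. -/
noncomputable def rep (m : J.Cotangent) : ↥J := Function.surjInv J.toCotangent_surjective m

theorem toCotangent_rep (m : J.Cotangent) : J.toCotangent (rep J m) = m :=
  Function.surjInv_eq J.toCotangent_surjective m

theorem zetaJ_rep_update_add {ι : Type u} [Fintype ι] [DecidableEq ι] (m : ι → J.Cotangent) (i : ι)
    (a b : J.Cotangent) :
    PP16.zetaJ R J (fun j => rep J (Function.update m i (a + b) j))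
      = PP16.zetaJ R J (fun j => rep J (Function.update m i a j))
        + PP16.zetaJ R J (fun j => rep J (Function.update m i b j)) := by
  let r : ι → ↥J := fun j => rep J (m j)
  have key : ∀ (c : J.Cotangent) (w : ↥J), J.toCotangent w = c →
      PP16.zetaJ R J (fun j => rep J (Function.update m i c j)) = PP16.zetaJ R J (Function.update r i w) := by
    intro c w hw
    refine zetaJ_congr J _ _ fun j => ?_
    rcases eq_or_ne j i with rfl | hj
    · simp [toCotangent_rep, hw]
    · simp [Function.update_of_ne hj, r, toCotangent_rep]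
  rw [key (a + b) (rep J a + rep J b) (by rw [map_add, toCotangent_rep, toCotangent_rep]),
    key a (rep J a) (toCotangent_rep J a), key b (rep J b) (toCotangent_rep J b)]
  rw [PP16.zetaJ, PP16.zetaJ, PP16.zetaJ, ← Submodule.Quotient.mk_add]
  congr 1
  apply Subtype.ext
  have h : ∀ w : ↥J, (fun j => ((Function.update r i w j : ↥J) : R))
      = Function.update (fun j => (r j : R)) i (w : R) := fun w => by
    funext j
    exact Function.apply_update (fun _ (y : ↥J) => (y : R)) r i w j
  simp [h, Finset.prod_update_of_mem, add_mul]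

theorem zetaJ_rep_update_smul {ι : Type u} [Fintype ι] [DecidableEq ι] (m : ι → J.Cotangent) (i : ι)
    (c : R) (a : J.Cotangent) :
    PP16.zetaJ R J (fun j => rep J (Function.update m i (c • a) j))
      = c • PP16.zetaJ R J (fun j => rep J (Function.update m i a j)) := by
  let r : ι → ↥J := fun j => rep J (m j)
  have key : ∀ (d : J.Cotangent) (w : ↥J), J.toCotangent w = d →
      PP16.zetaJ R J (fun j => rep J (Function.update m i d j)) = PP16.zetaJ R J (Function.update r i w) := by
    intro d w hw
    refine zetaJ_congr J _ _ fun j => ?_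
    rcases eq_or_ne j i with rfl | hj
    · simp [toCotangent_rep, hw]
    · simp [Function.update_of_ne hj, r, toCotangent_rep]
  rw [key (c • a) (c • rep J a) (by rw [map_smul, toCotangent_rep]),
    key a (rep J a) (toCotangent_rep J a)]
  rw [PP16.zetaJ, PP16.zetaJ, ← Submodule.Quotient.mk_smul]
  congr 1
  apply Subtype.ext
  have h : ∀ w : ↥J, (fun j => ((Function.update r i w j : ↥J) : R))
      = Function.update (fun j => (r j : R)) i (w : R) := fun w => by
    funext j
    exact Function.apply_update (fun _ (y : ↥J) => (y : R)) r i w j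
  simp [h, Finset.prod_update_of_mem, mul_assoc]

/-- The multilinear map `(m_i) ↦ ∏ m_i` into `J^n/J^(n+1)`. -/
noncomputable def zetaMul (ι : Type u) [Fintype ι] :
    MultilinearMap R (fun _ : ι => J.Cotangent) (PP16.grJ R J (Fintype.card ι)) where
  toFun m := PP16.zetaJ R J fun j => rep J (m j)
  map_update_add' := by intro _ m i a b; exact zetaJ_rep_update_add J m i a b
  map_update_smul' := by intro _ m i c a; exact zetaJ_rep_update_smul J m i c a

theorem zetaMul_symm (ι : Type u) [Fintype ι] (e : Equiv.Perm ι) (f : ι → J.Cotangent) :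
    zetaMul J ι (fun i => f (e i)) = zetaMul J ι f := by
  show PP16.zetaJ R J (fun j => rep J (f (e j))) = PP16.zetaJ R J (fun j => rep J (f j))
  rw [PP16.zetaJ, PP16.zetaJ]
  congr 1
  exact Subtype.ext (Equiv.prod_comp e (fun j => ((rep J (f j) : ↥J) : R)))

/-- The canonical map `Sym^n (J/J²) → J^n/J^(n+1)`. -/
noncomputable def symGrMap (ι : Type u) [Fintype ι] :
    SymmetricPower R ι J.Cotangent →ₗ[R] PP16.grJ R J (Fintype.card ι) :=
  symLift (zetaMul J ι) (zetaMul_symm J ι)

theorem symGrMap_tprod (ι : Type u) [Fintype ι] (x : ι → ↥J) :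
    symGrMap J ι (SymmetricPower.tprod R (fun i => J.toCotangent (x i))) = PP16.zetaJ R J x := by
  rw [symGrMap, symLift_tprod]
  exact zetaJ_congr J _ _ fun i => toCotangent_rep J _

theorem prod_fin_mem_range (ι : Type u) [Fintype ι] (w : R) (hw : w ∈ J ^ Fintype.card ι) :
    ∃ z, symGrMap J ι z = Submodule.Quotient.mk ⟨w, hw⟩ := by
  classical
  have hspan : J ^ Fintype.card ι = Ideal.span ((J : Set R) ^ Fintype.card ι) := by
    conv_lhs => rw [← Ideal.span_eq J]
    exact Submodule.span_pow _ _
  have hw' : w ∈ Ideal.span ((J : Set R) ^ Fintype.card ι) := hspan ▸ hw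
  suffices h : ∀ w ∈ Ideal.span ((J : Set R) ^ Fintype.card ι), ∃ (hw : w ∈ J ^ Fintype.card ι), ∃ z,
      symGrMap J ι z = Submodule.Quotient.mk ⟨w, hw⟩ by
    obtain ⟨_, z, hz⟩ := h w hw'
    exact ⟨z, hz⟩
  intro w hw
  induction hw using Submodule.span_induction with
  | mem x hx =>
    refine ⟨hspan ▸ Ideal.subset_span hx, ?_⟩
    rw [Set.mem_pow_iff_prod] at hx
    obtain ⟨f, hf, hfp⟩ := hx
    let e := Fintype.equivFin ι
    refine ⟨SymmetricPower.tprod R (fun i => J.toCotangent ⟨f (e i), hf (e i)⟩), ?_⟩
    rw [symGrMap_tprod, PP16.zetaJ]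
    congr 1
    apply Subtype.ext
    show ∏ i, f (e i) = x
    rw [Equiv.prod_comp e f, hfp]
  | zero =>
    exact ⟨Ideal.zero_mem _, 0, by rw [map_zero]; rfl⟩
  | add x y _ _ hx hy =>
    obtain ⟨hx', z, hz⟩ := hx
    obtain ⟨hy', z', hz'⟩ := hy
    exact ⟨Ideal.add_mem _ hx' hy', z + z', by rw [map_add, hz, hz']; rfl⟩
  | smul a x _ hx =>
    obtain ⟨hx', z, hz⟩ := hx
    exact ⟨Ideal.mul_mem_left _ a hx', a • z, by rw [map_smul, hz]; rfl⟩

theorem symGrMap_surjective (ι : Type u) [Fintype ι] : Function.Surjective (symGrMap J ι) := by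
  intro y
  obtain ⟨⟨w, hw⟩, rfl⟩ := Submodule.Quotient.mk_surjective _ y
  exact prod_fin_mem_range J ι w hw

/-- It suffices to prove injectivity of the canonical maps. -/
theorem symGrBijective_iff :
    PP16.SymGrBijective R J ↔
      ∀ (ι : Type u) [Fintype ι] [Nonempty ι], Function.Injective (symGrMap J ι) := by
  constructor
  · intro h ι _ _
    obtain ⟨φ, hφ, hbij⟩ := h ι
    have : symGrMap J ι = φ := LinearMap.ext fun z => by
      induction z using sym_induction with
      | tprod f =>
        have hf : f = fun i => J.toCotangent (rep J (f i)) := funext fun i => (toCotangent_rep J _).symm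
        rw [hf, symGrMap_tprod, hφ]
      | zero => simp
      | add x y hx hy => simp [hx, hy]
      | smul r x hx => simp [hx]
    rw [this]
    exact hbij.1
  · intro h ι _ _
    exact ⟨symGrMap J ι, symGrMap_tprod J ι, h ι, symGrMap_surjective J ι⟩

end products

end SymGr13

end Groth.Agent.EGA4Alg4
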