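import Groth.Agent.EGA4Alg4.SymGrTo
import Groth.Agent.EGA4Alg4.KaehlerCrit
import Groth.Agent.Cohen12.FSBase
import Groth.Agent.Sep12.Basic

/-!
# Formal smoothness of a local algebra over a field, via the graded ring and differentials
-/

universe u

namespace Groth.Agent.EGA4Alg4

namespace SymGr13

open IsLocalRing KaehlerDifferential

/-- Over the prime field, adic formal smoothness of a local ring is the symmetric graded ring condition. -/
theorem isAdicFormallySmooth_prime_iff {k A : Type u} [Field k] [CommRing A] [IsLocalRing A] [Algebra k A] :
    CAlgX.IsAdicFormallySmooth (Sep12.prime k) A (maximalIdeal A) ↔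
      PP16.SymGrBijective A (maximalIdeal A) := by
  have : Algebra.FormallySmooth (Sep12.prime k) (A ⧸ maximalIdeal A) :=
    Sep12.formallySmooth_of_perfectField (Sep12.prime k) (ResidueField A)
  rw [isAdicFormallySmooth_iff_symGr (maximalIdeal A)]
  refine and_iff_right ?_
  letI : Field (A ⧸ maximalIdeal A) := Ideal.Quotient.field _
  exact Module.Projective.of_free

/-- Formal smoothness of a local algebra over a field. -/
theorem isAdicFormallySmooth_field_iff {k A : Type u} [Field k] [CommRing A] [IsLocalRing A] [Algebra k A] :
    CAlgX.IsAdicFormallySmooth k A (maximalIdeal A) ↔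
      (PP16.SymGrBijective A (maximalIdeal A) ∧
        Function.Injective ((mapBaseChange ℤ k A).lTensor (ResidueField A))) := by
  have : Algebra.FormallySmooth (Sep12.prime k) k := Sep12.formallySmooth_of_perfectField (Sep12.prime k) k
  constructor
  · intro h
    exact ⟨(isAdicFormallySmooth_prime_iff (k := k)).mp (Cohen12.isAdicFormallySmooth_trans (P := Sep12.prime k) (maximalIdeal A) h),
      KCrit13.injective_of_isAdicFormallySmooth h⟩
  · rintro ⟨h1, h2⟩
    exact KCrit13.isAdicFormallySmooth_of_extDer ((isAdicFormallySmooth_prime_iff (k := k)).mpr h1)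
      (KCrit13.extDer_of_injective h2)

end SymGr13

end Groth.Agent.EGA4Alg4
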