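import Groth.Agent.EGA4Alg4.SymGrBasic
import Mathlib.LinearAlgebra.SymmetricAlgebra.Basic
import Mathlib.RingTheory.Smooth.Basic
import Mathlib.RingTheory.Ideal.Quotient.Operations

/-!
# Projective cotangent module and symmetric graded ring imply adic formal smoothness
-/

universe u

namespace Groth.Agent.EGA4Alg4

namespace SymGr13

open scoped Pointwise

variable {A B : Type u} [CommRing A] [CommRing B] [Algebra A B] (𝔍 : Ideal B)

instance isScalarTower_cotangent : IsScalarTower A (B ⧸ 𝔍) 𝔍.Cotangent :=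
  IsScalarTower.of_algebraMap_smul fun a m => by
    rw [IsScalarTower.algebraMap_apply A B (B ⧸ 𝔍), algebraMap_smul, algebraMap_smul]

/-- The augmentation ideal of the symmetric algebra of `𝔍/𝔍²`. -/
noncomputable def augIdeal : Ideal (SymmetricAlgebra (B ⧸ 𝔍) 𝔍.Cotangent) :=
  Ideal.span (Set.range (SymmetricAlgebra.ι (B ⧸ 𝔍) 𝔍.Cotangent))

theorem exists_sub_algebraMap_mem (p : SymmetricAlgebra (B ⧸ 𝔍) 𝔍.Cotangent) :
    ∃ c : B ⧸ 𝔍, p - algebraMap _ _ c ∈ augIdeal 𝔍 := by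
  induction p using SymmetricAlgebra.induction with
  | algebraMap r => exact ⟨r, by simp⟩
  | ι x => exact ⟨0, by
      rw [map_zero, sub_zero]
      exact Ideal.subset_span (Set.mem_range_self x)⟩
  | mul a b ha hb =>
    obtain ⟨c, hc⟩ := ha
    obtain ⟨d, hd⟩ := hb
    refine ⟨c * d, ?_⟩
    have e : a * b - algebraMap _ (SymmetricAlgebra (B ⧸ 𝔍) 𝔍.Cotangent) (c * d)
        = (a - algebraMap _ _ c) * b + algebraMap _ _ c * (b - algebraMap _ _ d) := by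
      rw [map_mul]; ring
    rw [e]
    exact Ideal.add_mem _ (Ideal.mul_mem_right _ _ hc) (Ideal.mul_mem_left _ _ hd)
  | add a b ha hb =>
    obtain ⟨c, hc⟩ := ha
    obtain ⟨d, hd⟩ := hb
    refine ⟨c + d, ?_⟩
    have e : a + b - algebraMap _ (SymmetricAlgebra (B ⧸ 𝔍) 𝔍.Cotangent) (c + d)
        = (a - algebraMap _ _ c) + (b - algebraMap _ _ d) := by
      rw [map_add]; ring
    rw [e]
    exact Ideal.add_mem _ hc hd

/-- `ι` as a `B`-linear map. -/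
noncomputable abbrev iotaB : 𝔍.Cotangent →ₗ[B] SymmetricAlgebra (B ⧸ 𝔍) 𝔍.Cotangent :=
  (SymmetricAlgebra.ι (B ⧸ 𝔍) 𝔍.Cotangent).restrictScalars B

theorem exists_symProd_sub_mem (j : ℕ) {x : SymmetricAlgebra (B ⧸ 𝔍) 𝔍.Cotangent}
    (hx : x ∈ augIdeal 𝔍 ^ j) :
    ∃ z : SymmetricPower B (ULift.{u} (Fin j)) 𝔍.Cotangent,
      x - symProd (iotaB 𝔍) z ∈ augIdeal 𝔍 ^ (j + 1) := by
  have hspan : augIdeal 𝔍 ^ j = Ideal.span
      ((Set.range (SymmetricAlgebra.ι (B ⧸ 𝔍) 𝔍.Cotangent)) ^ j) := Submodule.span_pow _ _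
  rw [hspan] at hx
  induction hx using Submodule.span_induction with
  | mem x hx =>
    rw [Set.mem_pow_iff_prod] at hx
    obtain ⟨f, hf, rfl⟩ := hx
    choose m hm using hf
    refine ⟨SymmetricPower.tprod B (fun i => m i.down), ?_⟩
    have e : ∏ i : ULift.{u} (Fin j), SymmetricAlgebra.ι (B ⧸ 𝔍) 𝔍.Cotangent (m i.down) = ∏ i, f i := by
      rw [← Equiv.prod_comp (Equiv.ulift.symm : Fin j ≃ ULift.{u} (Fin j))]
      exact Finset.prod_congr rfl fun i _ => hm i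
    rw [symProd_tprod]
    simp only [LinearMap.restrictScalars_apply]
    rw [e, sub_self]
    exact Ideal.zero_mem _
  | zero => exact ⟨0, by simp⟩
  | add x y _ _ hx hy =>
    obtain ⟨z, hz⟩ := hx
    obtain ⟨z', hz'⟩ := hy
    refine ⟨z + z', ?_⟩
    rw [map_add]
    convert Ideal.add_mem _ hz hz' using 1
    ring
  | smul a x hx' hx =>
    obtain ⟨z, hz⟩ := hx
    obtain ⟨c, hc⟩ := exists_sub_algebraMap_mem 𝔍 a
    obtain ⟨b, rfl⟩ := Ideal.Quotient.mk_surjective c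
    refine ⟨b • z, ?_⟩
    have hx'' : x ∈ augIdeal 𝔍 ^ j := hspan ▸ hx'
    have e : a • x - symProd (iotaB 𝔍) (b • z)
        = (a - algebraMap (B ⧸ 𝔍) _ (Ideal.Quotient.mk 𝔍 b)) * x
          + algebraMap (B ⧸ 𝔍) _ (Ideal.Quotient.mk 𝔍 b) * (x - symProd (iotaB 𝔍) z) := by
      rw [map_smul, ← algebraMap_smul (B ⧸ 𝔍) b (symProd (iotaB 𝔍) z), smul_eq_mul,
        Ideal.Quotient.algebraMap_eq, Algebra.smul_def]
      ring
    rw [e]
    refine Ideal.add_mem _ ?_ (Ideal.mul_mem_left _ _ hz)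
    rw [pow_succ']
    exact Ideal.mul_mem_mul hc hx''

variable {n : ℕ}

/-- The image of `𝔍` in `B/𝔍^n`. -/
noncomputable abbrev imgIdeal (n : ℕ) : Ideal (B ⧸ 𝔍 ^ n) := 𝔍.map (Ideal.Quotient.mk (𝔍 ^ n))

theorem mk_mem_imgIdeal_pow {m : ℕ} {w : B} (hw : w ∈ 𝔍 ^ m) :
    Ideal.Quotient.mk (𝔍 ^ n) w ∈ imgIdeal 𝔍 n ^ m := by
  rw [← Ideal.map_pow]
  exact Ideal.mem_map_of_mem _ hw

theorem exists_of_mem_imgIdeal_pow {m : ℕ} {e : B ⧸ 𝔍 ^ n} (he : e ∈ imgIdeal 𝔍 n ^ m) :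
    ∃ w ∈ 𝔍 ^ m, Ideal.Quotient.mk (𝔍 ^ n) w = e := by
  rw [← Ideal.map_pow] at he
  exact (Ideal.mem_map_iff_of_surjective _ Ideal.Quotient.mk_surjective).mp he

theorem imgIdeal_pow_eq_bot {m : ℕ} (h : n ≤ m) : imgIdeal 𝔍 n ^ m = ⊥ := by
  rw [← Ideal.map_pow]
  exact eq_bot_iff.mpr ((Ideal.map_mono (Ideal.pow_le_pow_right h)).trans (Ideal.map_quotient_self _).le)

section presentation

variable [Algebra (B ⧸ 𝔍) (B ⧸ 𝔍 ^ n)]
  (hσ : ∀ b : B, algebraMap (B ⧸ 𝔍) (B ⧸ 𝔍 ^ n) (Ideal.Quotient.mk 𝔍 b) - Ideal.Quotient.mk _ b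
    ∈ imgIdeal 𝔍 n)
  (l : 𝔍.Cotangent →ₗ[B ⧸ 𝔍] B ⧸ 𝔍 ^ n)
  (hl : ∀ x : 𝔍, l (𝔍.toCotangent x) - Ideal.Quotient.mk (𝔍 ^ n) (x : B) ∈ imgIdeal 𝔍 n ^ 2)

include hl in
theorem l_mem (m : 𝔍.Cotangent) : l m ∈ imgIdeal 𝔍 n := by
  obtain ⟨x, rfl⟩ := 𝔍.toCotangent_surjective m
  have h := Ideal.add_mem _ (Ideal.pow_le_self two_ne_zero (hl x))
    (Ideal.mem_map_of_mem (Ideal.Quotient.mk (𝔍 ^ n)) x.2)
  simpa using h

include hl in
theorem lift_mem_pow {j : ℕ} {p : SymmetricAlgebra (B ⧸ 𝔍) 𝔍.Cotangent} (hp : p ∈ augIdeal 𝔍 ^ j) :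
    SymmetricAlgebra.lift l p ∈ imgIdeal 𝔍 n ^ j := by
  have h1 : (augIdeal 𝔍).map (SymmetricAlgebra.lift l).toRingHom ≤ imgIdeal 𝔍 n := by
    rw [augIdeal, Ideal.map_span, Ideal.span_le]
    rintro _ ⟨_, ⟨m, rfl⟩, rfl⟩
    simpa using l_mem 𝔍 l hl m
  have h2 := Ideal.mem_map_of_mem (SymmetricAlgebra.lift l).toRingHom hp
  rw [Ideal.map_pow] at h2
  exact Ideal.pow_right_mono h1 j h2

include hσ hl in
theorem exists_lift_approx {j : ℕ} {e : B ⧸ 𝔍 ^ n} (he : e ∈ imgIdeal 𝔍 n ^ j) :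
    ∃ p ∈ augIdeal 𝔍 ^ j, e - SymmetricAlgebra.lift l p ∈ imgIdeal 𝔍 n ^ (j + 1) := by
  induction j generalizing e with
  | zero =>
    obtain ⟨b, rfl⟩ := Ideal.Quotient.mk_surjective e
    refine ⟨algebraMap _ _ (Ideal.Quotient.mk 𝔍 b), by simp, ?_⟩
    rw [AlgHom.commutes, zero_add, pow_one]
    simpa using neg_mem (hσ b)
  | succ j ih =>
    rw [pow_succ] at he
    induction he using Submodule.mul_induction_on' with
    | mem_mul_mem a ha b hb =>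
      obtain ⟨p, hp, hpa⟩ := ih ha
      obtain ⟨w, hw, rfl⟩ := (Ideal.mem_map_iff_of_surjective _ Ideal.Quotient.mk_surjective).mp hb
      let q := SymmetricAlgebra.ι (B ⧸ 𝔍) 𝔍.Cotangent (𝔍.toCotangent ⟨w, hw⟩)
      have hq : q ∈ augIdeal 𝔍 := Ideal.subset_span ⟨_, rfl⟩
      refine ⟨p * q, by rw [pow_succ]; exact Ideal.mul_mem_mul hp hq, ?_⟩
      have hqb : Ideal.Quotient.mk (𝔍 ^ n) w - SymmetricAlgebra.lift l q ∈ imgIdeal 𝔍 n ^ 2 := by
        simpa [q] using neg_mem (hl ⟨w, hw⟩)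
      have e : a * Ideal.Quotient.mk (𝔍 ^ n) w - SymmetricAlgebra.lift l (p * q)
          = (a - SymmetricAlgebra.lift l p) * Ideal.Quotient.mk (𝔍 ^ n) w
            + SymmetricAlgebra.lift l p * (Ideal.Quotient.mk (𝔍 ^ n) w - SymmetricAlgebra.lift l q) := by
        rw [map_mul]; ring
      rw [e]
      refine Ideal.add_mem _ ?_ ?_
      · rw [pow_succ _ (j + 1)]
        exact Ideal.mul_mem_mul hpa hb
      · rw [add_assoc, pow_add]
        exact Ideal.mul_mem_mul (lift_mem_pow 𝔍 l hl hp) hqb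
    | add x _ y _ hx hy =>
      obtain ⟨p, hp, hpx⟩ := hx
      obtain ⟨q, hq, hqy⟩ := hy
      refine ⟨p + q, Ideal.add_mem _ hp hq, ?_⟩
      convert Ideal.add_mem _ hpx hqy using 1
      rw [map_add]; ring

include hσ hl in
theorem lift_surjective : Function.Surjective (SymmetricAlgebra.lift l) := by
  suffices h : ∀ d j, n ≤ j + d → ∀ e ∈ imgIdeal 𝔍 n ^ j, ∃ p, SymmetricAlgebra.lift l p = e by
    intro e
    exact h n 0 (by omega) e (by simp)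
  intro d
  induction d with
  | zero =>
    intro j hj e he
    rw [imgIdeal_pow_eq_bot 𝔍 (by omega : n ≤ j)] at he
    exact ⟨0, by rw [map_zero]; exact ((Submodule.mem_bot _).mp he).symm⟩
  | succ d ih =>
    intro j hj e he
    obtain ⟨p, _, hp⟩ := exists_lift_approx 𝔍 hσ l hl he
    obtain ⟨q, hq⟩ := ih (j + 1) (by omega) _ hp
    exact ⟨p + q, by rw [map_add, hq]; ring⟩

include hσ hl in
theorem exists_class_of_symProd {ι : Type u} [Fintype ι] (z : SymmetricPower B ι 𝔍.Cotangent) :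
    ∃ w : ↥(𝔍 ^ Fintype.card ι), symGrMap 𝔍 ι z = Submodule.Quotient.mk w ∧
      SymmetricAlgebra.lift l (symProd (iotaB 𝔍) z) - Ideal.Quotient.mk (𝔍 ^ n) (w : B)
        ∈ imgIdeal 𝔍 n ^ (Fintype.card ι + 1) := by
  induction z using sym_induction with
  | tprod f =>
    let x : ι → ↥𝔍 := fun i => rep 𝔍 (f i)
    have hf : f = fun i => 𝔍.toCotangent (x i) := funext fun i => (toCotangent_rep 𝔍 _).symm
    rw [hf, symGrMap_tprod, symProd_tprod]
    refine ⟨⟨∏ i, (x i : B), ?_⟩, rfl, ?_⟩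
    · simpa using PP16.prod_mem_pow 𝔍 Finset.univ (fun i => (x i : B)) (fun i _ => (x i).2)
    · simp only [map_prod, LinearMap.restrictScalars_apply, SymmetricAlgebra.lift_ι_apply]
      refine prod_sub_prod_mem Finset.univ (imgIdeal 𝔍 n) _ _ (fun i _ => l_mem 𝔍 l hl _)
        (fun i _ => Ideal.mem_map_of_mem _ (x i).2) (fun i _ => hl (x i))
  | zero => exact ⟨0, by simp, by simp⟩
  | add x y hx hy =>
    obtain ⟨w, hw, hw'⟩ := hx
    obtain ⟨v, hv, hv'⟩ := hy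
    refine ⟨w + v, by rw [map_add, hw, hv]; rfl, ?_⟩
    convert Ideal.add_mem _ hw' hv' using 1
    simp only [map_add, Submodule.coe_add]; ring
  | smul r x hx =>
    obtain ⟨w, hw, hw'⟩ := hx
    refine ⟨r • w, by rw [map_smul, hw]; rfl, ?_⟩
    have hmem : SymmetricAlgebra.lift l (symProd (iotaB 𝔍) x) ∈ imgIdeal 𝔍 n ^ Fintype.card ι := by
      have h := Ideal.add_mem _ (Ideal.pow_le_pow_right (Nat.le_succ _) hw')
        (mk_mem_imgIdeal_pow 𝔍 (n := n) w.2)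
      simpa using h
    rw [map_smul, ← algebraMap_smul (B ⧸ 𝔍) r (symProd (iotaB 𝔍) x), Algebra.smul_def, map_mul,
      AlgHom.commutes, Ideal.Quotient.algebraMap_eq, Submodule.coe_smul, smul_eq_mul, map_mul]
    set c := algebraMap (B ⧸ 𝔍) (B ⧸ 𝔍 ^ n) (Ideal.Quotient.mk 𝔍 r)
    set y := SymmetricAlgebra.lift l (symProd (iotaB 𝔍) x)
    have e : c * y - Ideal.Quotient.mk (𝔍 ^ n) r * Ideal.Quotient.mk (𝔍 ^ n) (w : B)
        = (c - Ideal.Quotient.mk (𝔍 ^ n) r) * y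
          + Ideal.Quotient.mk (𝔍 ^ n) r * (y - Ideal.Quotient.mk (𝔍 ^ n) (w : B)) := by ring
    rw [e, pow_succ']
    refine Ideal.add_mem _ (Ideal.mul_mem_mul (hσ r) hmem) (Ideal.mul_mem_left _ _ ?_)
    rw [← pow_succ']
    exact hw'

include hσ hl in
theorem lift_ker_le (hn : 1 ≤ n) (hgr : PP16.SymGrBijective B 𝔍) {p : SymmetricAlgebra (B ⧸ 𝔍) 𝔍.Cotangent}
    (hp : SymmetricAlgebra.lift l p = 0) : p ∈ augIdeal 𝔍 ^ n := by
  have h1 : p ∈ augIdeal 𝔍 := by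
    obtain ⟨c, hc⟩ := exists_sub_algebraMap_mem 𝔍 p
    obtain ⟨b, rfl⟩ := Ideal.Quotient.mk_surjective c
    have h := lift_mem_pow 𝔍 l hl (j := 1) (by rwa [pow_one])
    rw [map_sub, hp, zero_sub, pow_one, AlgHom.commutes] at h
    have h2 : Ideal.Quotient.mk (𝔍 ^ n) b ∈ imgIdeal 𝔍 n := by
      have := Ideal.sub_mem _ (neg_mem_iff.mp h) (hσ b)
      simpa using this
    obtain ⟨w, hw, hwb⟩ := (Ideal.mem_map_iff_of_surjective _ Ideal.Quotient.mk_surjective).mp h2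
    have hb : b ∈ 𝔍 := by
      have h3 := Ideal.pow_le_self (by omega : n ≠ 0) (Ideal.Quotient.eq.mp hwb)
      simpa using Ideal.sub_mem _ hw h3
    rw [Ideal.Quotient.eq_zero_iff_mem.mpr hb, map_zero, sub_zero] at hc
    exact hc
  suffices h : ∀ j, j < n → p ∈ augIdeal 𝔍 ^ (j + 1) by
    have := h (n - 1) (by omega)
    rwa [Nat.sub_add_cancel hn] at this
  intro j
  induction j with
  | zero => intro _; simpa using h1
  | succ j ih =>
    intro hj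
    have hpj := ih (by omega)
    obtain ⟨z, hz⟩ := exists_symProd_sub_mem 𝔍 (j + 1) hpj
    obtain ⟨w, hw, hw'⟩ := exists_class_of_symProd 𝔍 hσ l hl z
    have hcard : Fintype.card (ULift.{u} (Fin (j + 1))) = j + 1 := by simp
    have h3 := lift_mem_pow 𝔍 l hl hz
    rw [map_sub, hp, zero_sub] at h3
    have hpow : Fintype.card (ULift.{u} (Fin (j + 1))) + 1 = j + 1 + 1 := by rw [hcard]
    rw [hpow] at hw'
    have h4 : Ideal.Quotient.mk (𝔍 ^ n) (w : B) ∈ imgIdeal 𝔍 n ^ (j + 1 + 1) := by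
      have := Ideal.sub_mem _ (neg_mem_iff.mp h3) hw'
      simpa using this
    obtain ⟨v, hv, hvw⟩ := exists_of_mem_imgIdeal_pow 𝔍 h4
    have hwmem : (w : B) ∈ 𝔍 ^ (j + 1 + 1) := by
      have h5 := Ideal.pow_le_pow_right (by omega : j + 1 + 1 ≤ n) (Ideal.Quotient.eq.mp hvw)
      simpa using Ideal.sub_mem _ hv h5
    have hz0 : z = 0 := by
      apply (symGrBijective_iff 𝔍).mp hgr (ULift.{u} (Fin (j + 1)))
      rw [hw, map_zero, Submodule.Quotient.mk_eq_zero, Submodule.mem_comap]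
      show (w : B) ∈ 𝔍 ^ (Fintype.card (ULift.{u} (Fin (j + 1))) + 1)
      rw [hpow]
      exact hwmem
    rw [hz0, map_zero, sub_zero] at hz
    exact hz

end presentation

/-- If `B/𝔍` is formally smooth, `𝔍/𝔍²` is projective and the graded ring is symmetric, then `B` is
formally smooth for the `𝔍`-adic topology. -/
theorem isAdicFormallySmooth_of_symGr [Algebra.FormallySmooth A (B ⧸ 𝔍)]
    (hproj : Module.Projective (B ⧸ 𝔍) 𝔍.Cotangent) (hgr : PP16.SymGrBijective B 𝔍) :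
    CAlgX.IsAdicFormallySmooth A B 𝔍 := by
  intro E _ _ J hJ ψ hψ
  obtain ⟨k₀, hk₀⟩ := hψ
  set k := k₀ + 1 with hk
  have hψk : ∀ x ∈ 𝔍 ^ k, ψ x = 0 := fun x hx => hk₀ x (Ideal.pow_le_pow_right (by omega) hx)
  set n := 2 * k with hn
  have hle : 𝔍 ^ n ≤ 𝔍 := Ideal.pow_le_self (by omega)
  have hker : IsNilpotent (RingHom.ker (Ideal.Quotient.factorₐ A hle : (B ⧸ 𝔍 ^ n) →+* B ⧸ 𝔍)) := by
    refine ⟨n, ?_⟩
    rw [Submodule.zero_eq_bot, eq_bot_iff]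
    refine (Ideal.pow_right_mono ?_ n).trans (imgIdeal_pow_eq_bot 𝔍 le_rfl).le
    intro x hx
    obtain ⟨b, rfl⟩ := Ideal.Quotient.mk_surjective x
    exact Ideal.mem_map_of_mem _ (Ideal.Quotient.eq_zero_iff_mem.mp hx)
  let σ : (B ⧸ 𝔍) →ₐ[A] B ⧸ 𝔍 ^ n :=
    Algebra.FormallySmooth.liftOfSurjective (AlgHom.id A (B ⧸ 𝔍)) (Ideal.Quotient.factorₐ A hle)
      (Ideal.Quotient.factor_surjective hle) hker
  letI : Algebra (B ⧸ 𝔍) (B ⧸ 𝔍 ^ n) := σ.toRingHom.toAlgebra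
  have : IsScalarTower A (B ⧸ 𝔍) (B ⧸ 𝔍 ^ n) :=
    IsScalarTower.of_algebraMap_eq (fun a => (σ.commutes a).symm)
  have hσ : ∀ b : B, algebraMap (B ⧸ 𝔍) (B ⧸ 𝔍 ^ n) (Ideal.Quotient.mk 𝔍 b) - Ideal.Quotient.mk _ b
      ∈ imgIdeal 𝔍 n := by
    intro b
    have h : Ideal.Quotient.factorₐ A hle (σ (Ideal.Quotient.mk 𝔍 b)) = Ideal.Quotient.mk 𝔍 b :=
      Algebra.FormallySmooth.liftOfSurjective_apply _ _ _ _ _
    obtain ⟨c, hc⟩ := Ideal.Quotient.mk_surjective (σ (Ideal.Quotient.mk 𝔍 b))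
    rw [← hc] at h
    show σ (Ideal.Quotient.mk 𝔍 b) - _ ∈ _
    rw [← hc, ← map_sub]
    exact Ideal.mem_map_of_mem _ (Ideal.Quotient.eq.mp h)
  obtain ⟨s, hs⟩ := (Module.projective_def).mp hproj
  let rB : 𝔍.Cotangent → B ⧸ 𝔍 ^ n := fun m => Ideal.Quotient.mk (𝔍 ^ n) ((rep 𝔍 m : ↥𝔍) : B)
  let l : 𝔍.Cotangent →ₗ[B ⧸ 𝔍] B ⧸ 𝔍 ^ n := (Finsupp.linearCombination (B ⧸ 𝔍) rB).comp s
  have hl : ∀ x : 𝔍, l (𝔍.toCotangent x) - Ideal.Quotient.mk (𝔍 ^ n) (x : B) ∈ imgIdeal 𝔍 n ^ 2 := by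
    intro x
    set f := s (𝔍.toCotangent x) with hf
    choose b hb using fun m => Ideal.Quotient.mk_surjective (f m)
    let y : ↥𝔍 := f.support.sum fun m => b m • rep 𝔍 m
    have hy : 𝔍.toCotangent y = 𝔍.toCotangent x := by
      have h1 := hs (𝔍.toCotangent x)
      rw [← hf, Finsupp.linearCombination_apply] at h1
      rw [map_sum]
      refine Eq.trans (Finset.sum_congr rfl fun m _ => ?_) h1
      rw [map_smul, toCotangent_rep, ← algebraMap_smul (B ⧸ 𝔍) (b m) m, Ideal.Quotient.algebraMap_eq, hb]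
      rfl
    have h2 : Ideal.Quotient.mk (𝔍 ^ n) (y : B) - Ideal.Quotient.mk (𝔍 ^ n) (x : B) ∈ imgIdeal 𝔍 n ^ 2 := by
      rw [← map_sub]
      exact mk_mem_imgIdeal_pow 𝔍 ((Ideal.toCotangent_eq 𝔍).mp hy)
    have h3 : l (𝔍.toCotangent x) - Ideal.Quotient.mk (𝔍 ^ n) (y : B) ∈ imgIdeal 𝔍 n ^ 2 := by
      simp only [l, LinearMap.comp_apply, ← hf, Finsupp.linearCombination_apply, Finsupp.sum,
        y, AddSubmonoidClass.coe_finsetSum, map_sum, ← Finset.sum_sub_distrib]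
      refine Ideal.sum_mem _ fun m _ => ?_
      rw [Submodule.coe_smul, smul_eq_mul, map_mul, Algebra.smul_def, ← sub_mul, pow_two, ← hb m]
      exact Ideal.mul_mem_mul (hσ (b m)) (Ideal.mem_map_of_mem _ (rep 𝔍 m).2)
    simpa using Ideal.add_mem _ h3 h2
  let Θ : SymmetricAlgebra (B ⧸ 𝔍) 𝔍.Cotangent →ₐ[A] B ⧸ 𝔍 ^ n :=
    (SymmetricAlgebra.lift l).restrictScalars A
  have hΘ : Function.Surjective Θ := lift_surjective 𝔍 hσ l hl
  let ψn : (B ⧸ 𝔍 ^ n) →ₐ[A] E ⧸ J :=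
    Ideal.Quotient.liftₐ (𝔍 ^ n) ψ (fun x hx => hψk x (Ideal.pow_le_pow_right (by omega) hx))
  have hψn : ∀ b, ψn (Ideal.Quotient.mk _ b) = ψ b := fun b => rfl
  obtain ⟨c, hc⟩ := Algebra.FormallySmooth.exists_lift J ⟨2, hJ⟩ (ψn.comp σ)
  letI : Algebra (B ⧸ 𝔍) E := c.toRingHom.toAlgebra
  have : IsScalarTower A (B ⧸ 𝔍) E := IsScalarTower.of_algebraMap_eq (fun a => (c.commutes a).symm)
  let f : 𝔍.Cotangent →ₗ[B ⧸ 𝔍] E ⧸ J :=
    { toFun := fun m => ψn (l m)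
      map_add' := fun a b => by simp
      map_smul' := fun r m => by
        rw [map_smul, Algebra.smul_def, map_mul, Algebra.smul_def, RingHom.id_apply]
        congr 1
        exact (AlgHom.congr_fun hc r).symm }
  obtain ⟨g, hg⟩ := Module.projective_lifting_property (Ideal.Quotient.mkₐ (B ⧸ 𝔍) J).toLinearMap f
    Ideal.Quotient.mk_surjective
  let Θ' : SymmetricAlgebra (B ⧸ 𝔍) 𝔍.Cotangent →ₐ[A] E :=
    (SymmetricAlgebra.lift g).restrictScalars A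
  have hcompat : ∀ p, Ideal.Quotient.mk J (Θ' p) = ψn (Θ p) := by
    intro p
    induction p using SymmetricAlgebra.induction with
    | algebraMap r =>
      simp only [Θ', Θ, AlgHom.restrictScalars_apply, AlgHom.commutes]
      exact AlgHom.congr_fun hc r
    | ι x =>
      simp only [Θ', Θ, AlgHom.restrictScalars_apply, SymmetricAlgebra.lift_ι_apply]
      exact LinearMap.congr_fun hg x
    | mul a b ha hb => simp [ha, hb]
    | add a b ha hb => simp [ha, hb]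
  have hkill : ∀ p ∈ augIdeal 𝔍 ^ n, Θ' p = 0 := by
    have h1 : (augIdeal 𝔍 ^ k).map Θ'.toRingHom ≤ J := by
      rw [Ideal.map_le_iff_le_comap]
      intro p hp
      rw [Ideal.mem_comap, ← Ideal.Quotient.eq_zero_iff_mem]
      show Ideal.Quotient.mk J (Θ' p) = 0
      rw [hcompat]
      obtain ⟨w, hw, hwe⟩ := exists_of_mem_imgIdeal_pow 𝔍 (lift_mem_pow 𝔍 l hl hp)
      show ψn (SymmetricAlgebra.lift l p) = 0
      rw [← hwe, hψn]
      exact hψk w hw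
    intro p hp
    have h2 := Ideal.mem_map_of_mem Θ'.toRingHom hp
    rw [hn, mul_comm, pow_mul, Ideal.map_pow] at h2
    have h3 := Ideal.pow_right_mono h1 2 h2
    rw [hJ] at h3
    exact (Submodule.mem_bot E).mp h3
  have hkerle : ∀ p ∈ RingHom.ker Θ, Θ' p = 0 := fun p hp =>
    hkill p (lift_ker_le 𝔍 hσ l hl (by omega) hgr hp)
  let χn : (B ⧸ 𝔍 ^ n) →ₐ[A] E :=
    (Ideal.Quotient.liftₐ (RingHom.ker Θ) Θ' hkerle).comp
      (Ideal.quotientKerAlgEquivOfSurjective hΘ).symm.toAlgHom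
  have hχn : ∀ p, χn (Θ p) = Θ' p := by
    intro p
    have h : (Ideal.quotientKerAlgEquivOfSurjective hΘ).symm (Θ p)
        = Ideal.Quotient.mk _ p := by
      rw [AlgEquiv.symm_apply_eq]
      rfl
    show Ideal.Quotient.liftₐ (RingHom.ker Θ) Θ' hkerle
      ((Ideal.quotientKerAlgEquivOfSurjective hΘ).symm (Θ p)) = Θ' p
    rw [h]
    rfl
  refine ⟨χn.comp (Ideal.Quotient.mkₐ A (𝔍 ^ n)), AlgHom.ext fun b => ?_⟩
  obtain ⟨p, hp⟩ := hΘ (Ideal.Quotient.mk (𝔍 ^ n) b)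
  show Ideal.Quotient.mk J (χn (Ideal.Quotient.mk (𝔍 ^ n) b)) = ψ b
  rw [← hp, hχn, hcompat, hp, hψn]

end SymGr13

end Groth.Agent.EGA4Alg4
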