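import Groth.Agent.EGA4Alg4.SymGrOf
import Groth.Agent.FSAdic12.Basic
import Mathlib.RingTheory.MvPolynomial.Ideal
import Mathlib.RingTheory.MvPolynomial.Homogeneous
import Mathlib.LinearAlgebra.Finsupp.Pi

/-!
# Adic formal smoothness implies projective cotangent module and symmetric graded ring
-/

universe u v

set_option maxHeartbeats 1000000

namespace Groth.Agent.EGA4Alg4

namespace SymGr13

open MvPolynomial
open scoped Pointwise

section polynomial

variable {σ : Type v} {R : Type u} [CommRing R]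

/-- The vector of coefficients of degree one. -/
noncomputable def linCoeff : MvPolynomial σ R →ₗ[R] σ →₀ R :=
  (Finsupp.lcomapDomain (fun a : σ => Finsupp.single a 1) (Finsupp.single_left_injective one_ne_zero)).comp
    (basisMonomials σ R).repr.toLinearMap

theorem linCoeff_apply (p : MvPolynomial σ R) (a : σ) : linCoeff p a = coeff (Finsupp.single a 1) p := rfl

/-- The linear form with given coefficients. -/
noncomputable def linForm : (σ →₀ R) →ₗ[R] MvPolynomial σ R := Finsupp.linearCombination R X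

theorem linForm_mem (v : σ →₀ R) : linForm v ∈ idealOfVars σ R := by
  rw [linForm, Finsupp.linearCombination_apply]
  refine Submodule.sum_mem _ fun a _ => ?_
  show v a • X a ∈ idealOfVars σ R
  rw [smul_eq_C_mul]
  exact Ideal.mul_mem_left _ _ (Ideal.subset_span (Set.mem_range_self a))

theorem linForm_isHomogeneous (v : σ →₀ R) : (linForm v).IsHomogeneous 1 := by
  rw [linForm, Finsupp.linearCombination_apply]
  refine IsHomogeneous.sum _ _ _ fun a _ => ?_
  show (v a • X a).IsHomogeneous 1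
  rw [smul_eq_C_mul]
  exact (isHomogeneous_X R a).C_mul _

theorem linCoeff_linForm (v : σ →₀ R) : linCoeff (linForm v) = v := by
  classical
  have h : (linCoeff.comp linForm : (σ →₀ R) →ₗ[R] σ →₀ R) = LinearMap.id := by
    refine Finsupp.lhom_ext fun a r => Finsupp.ext fun b => ?_
    simp only [LinearMap.comp_apply, linForm, Finsupp.linearCombination_single, map_smul,
      LinearMap.id_apply, Finsupp.smul_apply, linCoeff_apply, coeff_X', Finsupp.single_apply,
      (Finsupp.single_left_injective (α := σ) (one_ne_zero : (1 : ℕ) ≠ 0)).eq_iff]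
    split <;> simp
  exact LinearMap.congr_fun h v

theorem eq_zero_of_linForm_mem {v : σ →₀ R} (h : linForm v ∈ idealOfVars σ R ^ 2) : v = 0 := by
  rw [← linCoeff_linForm v]
  refine Finsupp.ext fun a => ?_
  rw [linCoeff_apply, Finsupp.zero_apply]
  exact (mem_pow_idealOfVars_iff' 2 _).mp h _ (by simp)

theorem sub_constant_sub_linForm_mem (p : MvPolynomial σ R) :
    ∃ v, p - C (coeff 0 p) - linForm v ∈ idealOfVars σ R ^ 2 := by
  classical
  induction p using MvPolynomial.induction_on with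
  | C r => exact ⟨0, by simp⟩
  | add p q hp hq =>
    obtain ⟨v, hv⟩ := hp
    obtain ⟨w, hw⟩ := hq
    refine ⟨v + w, ?_⟩
    convert Ideal.add_mem _ hv hw using 1
    simp only [coeff_add, map_add]; ring
  | mul_X p a hp =>
    obtain ⟨v, hv⟩ := hp
    refine ⟨Finsupp.single a (coeff 0 p), ?_⟩
    have hc : coeff 0 (p * X a) = 0 := by simp [coeff_mul_X']
    have e : p * X a - C (coeff 0 (p * X a)) - linForm (Finsupp.single a (coeff 0 p))
        = (p - C (coeff 0 p) - linForm v) * X a + linForm v * X a := by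
      rw [hc, linForm, Finsupp.linearCombination_single, smul_eq_C_mul, map_zero]
      ring
    rw [e]
    refine Ideal.add_mem _ (Ideal.mul_mem_right _ _ hv) ?_
    rw [pow_two]
    exact Ideal.mul_mem_mul (linForm_mem v) (Ideal.subset_span (Set.mem_range_self a))

theorem map_mk_pow (N k : ℕ) :
    ((idealOfVars σ R).map (Ideal.Quotient.mk (idealOfVars σ R ^ N))) ^ k
      = (idealOfVars σ R ^ k).map (Ideal.Quotient.mk (idealOfVars σ R ^ N)) :=
  (Ideal.map_pow _ _ _).symm

theorem mem_of_mk_mem_sq {N : ℕ} (hN : 2 ≤ N) {p : MvPolynomial σ R}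
    (h : Ideal.Quotient.mk (idealOfVars σ R ^ N) p
      ∈ ((idealOfVars σ R).map (Ideal.Quotient.mk (idealOfVars σ R ^ N))) ^ 2) :
    p ∈ idealOfVars σ R ^ 2 := by
  rw [map_mk_pow] at h
  obtain ⟨q, hq, hqp⟩ := (Ideal.mem_map_iff_of_surjective _ Ideal.Quotient.mk_surjective).mp h
  simpa using Ideal.sub_mem _ hq (Ideal.pow_le_pow_right hN (Ideal.Quotient.eq.mp hqp))

theorem eq_zero_of_mem_map_pow {N : ℕ} {e : MvPolynomial σ R ⧸ idealOfVars σ R ^ N}
    (h : e ∈ ((idealOfVars σ R).map (Ideal.Quotient.mk (idealOfVars σ R ^ N))) ^ N) : e = 0 := by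
  rw [map_mk_pow, Ideal.map_quotient_self] at h
  exact (Submodule.mem_bot _).mp h

end polynomial

variable {A B : Type u} [CommRing A] [CommRing B] [Algebra A B] {𝔍 : Ideal B}
  {D : Type u} [CommRing D] [Algebra A D] [Algebra B D] [IsScalarTower A B D]
  {M : Type u} [AddCommGroup M] [Module B M] [Module D M] [IsScalarTower B D M]

/-- An adically formally smooth algebra maps to truncated polynomial rings over `D = B/𝔍`, with a linear
part splitting the free cover of `M = 𝔍/𝔍²`. -/
theorem exists_poly_lift [Algebra.FormallySmooth A D] (h : CAlgX.IsAdicFormallySmooth A B 𝔍)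
    (hD : Function.Surjective (algebraMap B D)) (hDker : RingHom.ker (algebraMap B D) = 𝔍)
    (cl : 𝔍 →ₗ[B] M) (hcl : Function.Surjective cl) (hcl0 : ∀ x, cl x = 0 ↔ (x : B) ∈ 𝔍 ^ 2)
    {N : ℕ} (hN : 2 ≤ N) :
    ∃ (χ : B →ₐ[A] MvPolynomial M D ⧸ idealOfVars M D ^ N) (s : M →ₗ[D] M →₀ D),
      (∀ m, Finsupp.linearCombination D id (s m) = m) ∧
      (∀ b : B, χ b - Ideal.Quotient.mk _ (C (algebraMap B D b))
        ∈ (idealOfVars M D).map (Ideal.Quotient.mk (idealOfVars M D ^ N))) ∧
      (∀ x : 𝔍, χ x - Ideal.Quotient.mk _ (linForm (s (cl x)))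
        ∈ ((idealOfVars M D).map (Ideal.Quotient.mk (idealOfVars M D ^ N))) ^ 2) := by
  classical
  have hmem : ∀ {b : B}, b ∈ 𝔍 → algebraMap B D b = 0 := fun hb => RingHom.mem_ker.mp (hDker.ge hb)
  have hle : 𝔍 ^ 2 ≤ 𝔍 := Ideal.pow_le_self two_ne_zero
  let red : (B ⧸ 𝔍 ^ 2) →ₐ[A] D :=
    Ideal.Quotient.liftₐ (𝔍 ^ 2) (IsScalarTower.toAlgHom A B D) (fun b hb => hmem (hle hb))
  have hredmk : ∀ b, red (Ideal.Quotient.mk _ b) = algebraMap B D b := fun b => rfl
  have hredmem : ∀ {e}, red e = 0 → e ∈ imgIdeal 𝔍 2 := by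
    intro e he
    obtain ⟨b, rfl⟩ := Ideal.Quotient.mk_surjective e
    exact Ideal.mem_map_of_mem _ (hDker.le (RingHom.mem_ker.mpr he))
  have hredsurj : Function.Surjective red := fun d => by
    obtain ⟨b, rfl⟩ := hD d
    exact ⟨Ideal.Quotient.mk _ b, rfl⟩
  have hker : IsNilpotent (RingHom.ker (red : (B ⧸ 𝔍 ^ 2) →+* D)) := by
    refine ⟨2, ?_⟩
    rw [Submodule.zero_eq_bot, eq_bot_iff]
    exact (Ideal.pow_right_mono (fun x hx => hredmem hx) 2).trans (imgIdeal_pow_eq_bot 𝔍 le_rfl).le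
  let σ : D →ₐ[A] B ⧸ 𝔍 ^ 2 :=
    Algebra.FormallySmooth.liftOfSurjective (AlgHom.id A D) red hredsurj hker
  have hred : ∀ c, red (σ c) = c := fun c =>
    Algebra.FormallySmooth.liftOfSurjective_apply _ _ _ _ c
  let g : M →ₗ[B] B ⧸ 𝔍 ^ 2 :=
    ((LinearMap.ker cl).liftQ ((Submodule.mkQ (𝔍 ^ 2)).comp 𝔍.subtype)
      (fun x hx => by
        rw [LinearMap.mem_ker]
        exact Ideal.Quotient.eq_zero_iff_mem.mpr ((hcl0 x).mp hx))).comp
      (cl.quotKerEquivOfSurjective hcl).symm.toLinearMap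
  have hgcl : ∀ x, g (cl x) = Ideal.Quotient.mk (𝔍 ^ 2) (x : B) := by
    intro x
    have e : (cl.quotKerEquivOfSurjective hcl).symm (cl x) = Submodule.Quotient.mk x := by
      rw [LinearEquiv.symm_apply_eq]
      rfl
    simp only [g, LinearMap.comp_apply, LinearEquiv.coe_coe, e]
    rfl
  have hgmem : ∀ m, g m ∈ imgIdeal 𝔍 2 := by
    intro m
    obtain ⟨x, rfl⟩ := hcl m
    rw [hgcl]
    exact Ideal.mem_map_of_mem _ x.2
  have hginj : ∀ m, g m = 0 → m = 0 := by
    intro m hm
    obtain ⟨x, rfl⟩ := hcl m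
    rw [hgcl, Ideal.Quotient.eq_zero_iff_mem] at hm
    exact (hcl0 x).mpr hm
  have hsq : ∀ {a b : B ⧸ 𝔍 ^ 2}, a ∈ imgIdeal 𝔍 2 → b ∈ imgIdeal 𝔍 2 → a * b = 0 := by
    intro a b ha hb
    have := Ideal.mul_mem_mul ha hb
    rw [← pow_two, imgIdeal_pow_eq_bot 𝔍 le_rfl] at this
    exact (Submodule.mem_bot _).mp this
  have hgsmul : ∀ c m, g (c • m) = σ c * g m := by
    intro c m
    obtain ⟨b, rfl⟩ := hD c
    rw [algebraMap_smul, map_smul, Algebra.smul_def, Ideal.Quotient.algebraMap_eq]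
    have h1 : Ideal.Quotient.mk (𝔍 ^ 2) b - σ (algebraMap B D b) ∈ imgIdeal 𝔍 2 :=
      hredmem (by rw [map_sub, hredmk, hred, sub_self])
    rw [← sub_eq_zero, ← sub_mul]
    exact hsq h1 (hgmem m)
  let f' : MvPolynomial M D →ₐ[A] B ⧸ 𝔍 ^ 2 :=
    { eval₂Hom σ.toRingHom (fun m => g m) with
      commutes' := fun a => by
        show eval₂Hom σ.toRingHom (fun m => g m) (algebraMap A (MvPolynomial M D) a) = _
        rw [IsScalarTower.algebraMap_apply A D (MvPolynomial M D), MvPolynomial.algebraMap_eq, eval₂Hom_C]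
        exact σ.commutes a }
  have hf'C : ∀ c, f' (C c) = σ c := fun c => eval₂Hom_C _ _ c
  have hf'X : ∀ m, f' (X m) = g m := fun m => eval₂Hom_X' _ _ m
  have hf'lin : ∀ v, f' (linForm v) = g (Finsupp.linearCombination D id v) := by
    intro v
    induction v using Finsupp.induction_linear with
    | zero => simp
    | add v w hv hw => simp [hv, hw]
    | single a r =>
      rw [linForm, Finsupp.linearCombination_single, Finsupp.linearCombination_single, smul_eq_C_mul,
        map_mul, hf'C, hf'X, id_eq, hgsmul]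
  have hf'q : (idealOfVars M D).map f'.toRingHom ≤ imgIdeal 𝔍 2 := by
    rw [idealOfVars, Ideal.map_span, Ideal.span_le]
    rintro _ ⟨_, ⟨a, rfl⟩, rfl⟩
    exact (hf'X a).symm ▸ hgmem a
  have hf'zero : ∀ p ∈ idealOfVars M D ^ 2, f' p = 0 := by
    intro p hp
    have h1 := Ideal.mem_map_of_mem f'.toRingHom hp
    rw [Ideal.map_pow] at h1
    have h2 := Ideal.pow_right_mono hf'q 2 h1
    rw [imgIdeal_pow_eq_bot 𝔍 le_rfl] at h2
    exact (Submodule.mem_bot _).mp h2
  have hredg : ∀ m, red (g m) = 0 := by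
    intro m
    obtain ⟨x, rfl⟩ := hcl m
    rw [hgcl, hredmk]
    exact hmem x.2
  have hform : ∀ p, ∃ v, p - C (coeff 0 p) - linForm v ∈ idealOfVars M D ^ 2 ∧
      f' p = σ (coeff 0 p) + g (Finsupp.linearCombination D id v) := by
    intro p
    obtain ⟨v, hv⟩ := sub_constant_sub_linForm_mem p
    refine ⟨v, hv, ?_⟩
    have := hf'zero _ hv
    rw [map_sub, map_sub, hf'C, hf'lin, sub_sub, sub_eq_zero] at this
    exact this
  have hredf : ∀ p, red (f' p) = coeff 0 p := by
    intro p
    obtain ⟨v, _, hv⟩ := hform p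
    rw [hv, map_add, hred, hredg, add_zero]
  let f : MvPolynomial M D ⧸ idealOfVars M D ^ N →ₐ[A] B ⧸ 𝔍 ^ 2 :=
    Ideal.Quotient.liftₐ (idealOfVars M D ^ N) f' (fun p hp => hf'zero p (Ideal.pow_le_pow_right hN hp))
  have hfmk : ∀ p, f (Ideal.Quotient.mk _ p) = f' p := fun p => rfl
  have hfsurj : Function.Surjective f := by
    intro e
    obtain ⟨b, hb⟩ := Ideal.Quotient.mk_surjective (e - σ (red e))
    have hbmem : b ∈ 𝔍 := by
      refine hDker.le (RingHom.mem_ker.mpr ?_)
      rw [← hredmk, hb, map_sub, hred, sub_self]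
    refine ⟨Ideal.Quotient.mk _ (C (red e) + X (cl ⟨b, hbmem⟩)), ?_⟩
    rw [hfmk, map_add, hf'C, hf'X, hgcl]
    simp [hb]
  have hkerf : RingHom.ker f ≤ (idealOfVars M D).map (Ideal.Quotient.mk (idealOfVars M D ^ N)) := by
    intro x hx
    obtain ⟨p, rfl⟩ := Ideal.Quotient.mk_surjective x
    rw [RingHom.mem_ker, hfmk] at hx
    refine Ideal.mem_map_of_mem _ ?_
    obtain ⟨v, hv, _⟩ := hform p
    have h0 : coeff 0 p = 0 := by rw [← hredf, hx, map_zero]
    rw [h0, map_zero, sub_zero] at hv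
    simpa using Ideal.add_mem _ (Ideal.pow_le_self two_ne_zero hv) (linForm_mem v)
  have hJ : RingHom.ker f ^ (N - 2 + 2) = ⊥ := by
    rw [Nat.sub_add_cancel hN, eq_bot_iff]
    intro x hx
    exact (Submodule.mem_bot _).mpr (eq_zero_of_mem_map_pow (Ideal.pow_right_mono hkerf N hx))
  obtain ⟨χ, hχ⟩ := FSAdic12.lift_of_pow_eq_bot 𝔍 h (N - 2) _ (RingHom.ker f) hJ
    ((Ideal.quotientKerAlgEquivOfSurjective hfsurj).symm.toAlgHom.comp (Ideal.Quotient.mkₐ A (𝔍 ^ 2)))
    ⟨2, fun x hx => by simp [Ideal.Quotient.eq_zero_iff_mem.mpr hx]⟩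
  have hfχ : ∀ b, f (χ b) = Ideal.Quotient.mk (𝔍 ^ 2) b := by
    intro b
    have h1 := congrArg (Ideal.quotientKerAlgEquivOfSurjective hfsurj) (AlgHom.congr_fun hχ b)
    simp only [AlgHom.comp_apply, AlgEquiv.coe_toAlgHom, AlgEquiv.apply_symm_apply] at h1
    exact h1
  have hconst : ∀ b, χ b - Ideal.Quotient.mk _ (C (algebraMap B D b))
      ∈ (idealOfVars M D).map (Ideal.Quotient.mk (idealOfVars M D ^ N)) := by
    intro b
    obtain ⟨p, hp⟩ := Ideal.Quotient.mk_surjective (χ b)
    rw [← hp, ← map_sub]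
    refine Ideal.mem_map_of_mem _ ?_
    obtain ⟨v, hv, _⟩ := hform p
    have h0 : coeff 0 p = algebraMap B D b := by
      rw [← hredf, ← hfmk, hp, hfχ, hredmk]
    rw [h0] at hv
    simpa using Ideal.add_mem _ (Ideal.pow_le_self two_ne_zero hv) (linForm_mem v)
  have hex : ∀ x : 𝔍, ∃ v, χ x - Ideal.Quotient.mk _ (linForm v)
      ∈ ((idealOfVars M D).map (Ideal.Quotient.mk (idealOfVars M D ^ N))) ^ 2 ∧
      Finsupp.linearCombination D id v = cl x := by
    intro x
    obtain ⟨p, hp⟩ := Ideal.Quotient.mk_surjective (χ (x : B))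
    obtain ⟨v, hv, hv'⟩ := hform p
    have hfx : f' p = Ideal.Quotient.mk (𝔍 ^ 2) (x : B) := by rw [← hfmk, hp, hfχ]
    have h0 : coeff 0 p = 0 := by rw [← hredf, hfx, hredmk, hmem x.2]
    refine ⟨v, ?_, ?_⟩
    · rw [h0, map_zero, sub_zero] at hv
      rw [← hp, ← map_sub, map_mk_pow]
      exact Ideal.mem_map_of_mem _ hv
    · rw [h0, map_zero, zero_add, hfx, ← hgcl] at hv'
      rw [← sub_eq_zero]
      exact hginj _ (by rw [map_sub, hv', sub_self])
  choose v hv hv' using hex
  have huniq : ∀ (x : 𝔍) w, χ x - Ideal.Quotient.mk _ (linForm w)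
      ∈ ((idealOfVars M D).map (Ideal.Quotient.mk (idealOfVars M D ^ N))) ^ 2 → v x = w := by
    intro x w hw
    rw [← sub_eq_zero]
    refine eq_zero_of_linForm_mem (mem_of_mk_mem_sq hN ?_)
    have := Ideal.sub_mem _ hw (hv x)
    simpa [map_sub] using this
  let s₀ : 𝔍 →ₗ[B] M →₀ D :=
    { toFun := v
      map_add' := fun x y => huniq _ _ (by
        convert Ideal.add_mem _ (hv x) (hv y) using 1
        simp only [Submodule.coe_add, map_add]; ring)
      map_smul' := fun b x => huniq _ _ (by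
        rw [RingHom.id_apply, Submodule.coe_smul, smul_eq_mul, map_mul,
          ← algebraMap_smul D b (v x), map_smul, smul_eq_C_mul, map_mul]
        set c := Ideal.Quotient.mk (idealOfVars M D ^ N) (C (algebraMap B D b))
        set l := Ideal.Quotient.mk (idealOfVars M D ^ N) (linForm (v x))
        have e : χ b * χ x - c * l = (χ b - c) * χ x + c * (χ x - l) := by ring
        rw [e]
        refine Ideal.add_mem _ ?_ (Ideal.mul_mem_left _ _ (hv x))
        rw [pow_two]
        refine Ideal.mul_mem_mul (hconst b) ?_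
        have h2 := Ideal.add_mem _ (Ideal.pow_le_self two_ne_zero (hv x))
          (Ideal.mem_map_of_mem (Ideal.Quotient.mk (idealOfVars M D ^ N)) (linForm_mem (v x)))
        simpa [l] using h2) }
  have hs₀ : LinearMap.ker cl ≤ LinearMap.ker s₀ := by
    intro x hx
    rw [LinearMap.mem_ker]
    refine huniq x 0 ?_
    rw [map_zero, map_zero, sub_zero]
    have h1 : 𝔍.map χ.toRingHom ≤ (idealOfVars M D).map (Ideal.Quotient.mk (idealOfVars M D ^ N)) := by
      refine Ideal.map_le_iff_le_comap.mpr fun y hy => ?_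
      have h2 := Ideal.add_mem _ (Ideal.pow_le_self two_ne_zero (hv ⟨y, hy⟩))
        (Ideal.mem_map_of_mem (Ideal.Quotient.mk (idealOfVars M D ^ N)) (linForm_mem (v ⟨y, hy⟩)))
      simpa using h2
    have h3 := Ideal.mem_map_of_mem χ.toRingHom ((hcl0 x).mp hx)
    rw [Ideal.map_pow] at h3
    exact Ideal.pow_right_mono h1 2 h3
  let s₁ : M →ₗ[B] M →₀ D :=
    ((LinearMap.ker cl).liftQ s₀ hs₀).comp (cl.quotKerEquivOfSurjective hcl).symm.toLinearMap
  have hs₁ : ∀ x, s₁ (cl x) = v x := by
    intro x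
    have e : (cl.quotKerEquivOfSurjective hcl).symm (cl x) = Submodule.Quotient.mk x := by
      rw [LinearEquiv.symm_apply_eq]
      rfl
    simp only [s₁, LinearMap.comp_apply, LinearEquiv.coe_coe, e]
    rfl
  refine ⟨χ, LinearMap.extendScalarsOfSurjective hD s₁, ?_, hconst, ?_⟩
  · intro m
    obtain ⟨x, rfl⟩ := hcl m
    rw [LinearMap.extendScalarsOfSurjective_apply, hs₁]
    exact hv' x
  · intro x
    rw [LinearMap.extendScalarsOfSurjective_apply, hs₁]
    exact hv x

theorem smul_tprod_eq_zero (hD0 : ∀ (b : B) (m : M), b ∈ 𝔍 → b • m = 0) {ι : Type u} [Nonempty ι]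
    {b : B} (hb : b ∈ 𝔍) (g : ι → M) : b • SymmetricPower.tprod B g = 0 := by
  classical
  let i := Classical.arbitrary ι
  conv_lhs => rw [← Function.update_eq_self i g]
  rw [← MultilinearMap.map_update_smul, hD0 b _ hb]
  exact MultilinearMap.map_update_zero _ _ _

theorem exists_perm_of_sum_single_eq {ι σ : Type u} [Fintype ι] (g g' : ι → σ)
    (h : ∑ i, Finsupp.single (g i) (1 : ℕ) = ∑ i, Finsupp.single (g' i) 1) :
    ∃ e : Equiv.Perm ι, g = fun i => g' (e i) := by
  classical
  have hc : ∀ a, Fintype.card { i // g i = a } = Fintype.card { i // g' i = a } := by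
    intro a
    have h1 := DFunLike.congr_fun h a
    simpa [Finsupp.finset_sum_apply, Finsupp.single_apply, Finset.sum_boole, Fintype.card_subtype] using h1
  let e : Equiv.Perm ι := Equiv.ofFiberEquiv (fun a => Fintype.equivOfCardEq (hc a))
  exact ⟨e, funext fun i => (Equiv.ofFiberEquiv_map _ i).symm⟩

variable (B) in
/-- The symmetric tensor attached to a monomial of degree `#ι`. -/
noncomputable def monTensor (ι : Type u) [Fintype ι] (d : M →₀ ℕ) : SymmetricPower B ι M := by
  classical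
  exact if h : ∃ g : ι → M, ∑ i, Finsupp.single (g i) 1 = d then SymmetricPower.tprod B h.choose else 0

theorem monTensor_sum (ι : Type u) [Fintype ι] (g : ι → M) :
    monTensor B ι (∑ i, Finsupp.single (g i) 1) = SymmetricPower.tprod B g := by
  have h : ∃ g' : ι → M, ∑ i, Finsupp.single (g' i) 1 = ∑ i, Finsupp.single (g i) 1 := ⟨g, rfl⟩
  rw [monTensor, dif_pos h]
  obtain ⟨e, he⟩ := exists_perm_of_sum_single_eq h.choose g h.choose_spec
  rw [he]
  exact SymmetricPower.tprod_equiv e g

theorem smul_monTensor_eq_zero (hD0 : ∀ (b : B) (m : M), b ∈ 𝔍 → b • m = 0) (ι : Type u) [Fintype ι]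
    [Nonempty ι] {b : B} (hb : b ∈ 𝔍) (d : M →₀ ℕ) : b • monTensor B ι d = 0 := by
  classical
  rw [monTensor]
  split
  · exact smul_tprod_eq_zero hD0 hb _
  · exact smul_zero b

/-- Read a symmetric tensor off a polynomial. -/
noncomputable def readOff (hD : Function.Surjective (algebraMap B D))
    (hDker : RingHom.ker (algebraMap B D) = 𝔍) (hD0 : ∀ (b : B) (m : M), b ∈ 𝔍 → b • m = 0)
    (ι : Type u) [Fintype ι] [Nonempty ι] : MvPolynomial M D →ₗ[B] SymmetricPower B ι M :=
  (Finsupp.lsum B fun d =>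
    ((LinearMap.ker (Algebra.linearMap B D)).liftQ (LinearMap.toSpanSingleton B _ (monTensor B ι d))
      (fun b hb => smul_monTensor_eq_zero hD0 ι (hDker.le hb) d)).comp
      ((Algebra.linearMap B D).quotKerEquivOfSurjective hD).symm.toLinearMap).comp
  ((basisMonomials M D).repr.toLinearMap.restrictScalars B)

theorem readOff_monomial (hD : Function.Surjective (algebraMap B D))
    (hDker : RingHom.ker (algebraMap B D) = 𝔍) (hD0 : ∀ (b : B) (m : M), b ∈ 𝔍 → b • m = 0)
    (ι : Type u) [Fintype ι] [Nonempty ι] (d : M →₀ ℕ) :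
    readOff hD hDker hD0 ι (monomial d 1) = monTensor B ι d := by
  have h : (basisMonomials M D).repr (monomial d 1) = Finsupp.single d 1 := by
    rw [← Module.Basis.repr_self (basisMonomials M D) d, coe_basisMonomials]
  have e : ((Algebra.linearMap B D).quotKerEquivOfSurjective hD).symm 1 = Submodule.Quotient.mk 1 := by
    rw [LinearEquiv.symm_apply_eq]
    exact (map_one (algebraMap B D)).symm
  simp only [readOff, LinearMap.comp_apply, LinearMap.restrictScalars_apply, LinearEquiv.coe_coe, h,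
    Finsupp.lsum_single, e]
  show LinearMap.toSpanSingleton B _ (monTensor B ι d) 1 = _
  rw [LinearMap.toSpanSingleton_apply, one_smul]

variable (B) in
/-- The composite `M → F → D[F]`, linear over `B`. -/
noncomputable abbrev linB (s : M →ₗ[D] M →₀ D) : M →ₗ[B] MvPolynomial M D :=
  (linForm.comp s).restrictScalars B

theorem readOff_symProd (hD : Function.Surjective (algebraMap B D))
    (hDker : RingHom.ker (algebraMap B D) = 𝔍) (hD0 : ∀ (b : B) (m : M), b ∈ 𝔍 → b • m = 0)
    {s : M →ₗ[D] M →₀ D} (hs : ∀ m, Finsupp.linearCombination D id (s m) = m)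
    (ι : Type u) [Fintype ι] [Nonempty ι] (z : SymmetricPower B ι M) :
    readOff hD hDker hD0 ι (symProd (linB B s) z) = z := by
  classical
  induction z using sym_induction with
  | zero => simp
  | add x y hx hy => rw [map_add, map_add, hx, hy]
  | smul r x hx => rw [map_smul, map_smul, hx]
  | tprod f =>
    choose b hb using fun i a => hD (s (f i) a)
    have hf : ∀ i, f i = ∑ a ∈ (s (f i)).support, b i a • a := by
      intro i
      conv_lhs => rw [← hs (f i), Finsupp.linearCombination_apply, Finsupp.sum]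
      refine Finset.sum_congr rfl fun a _ => ?_
      rw [← hb i a, id_eq, algebraMap_smul]
    have hlin : ∀ i, linB B s (f i)
        = ∑ a ∈ (s (f i)).support, b i a • (X a : MvPolynomial M D) := by
      intro i
      show linForm (s (f i)) = _
      rw [linForm, Finsupp.linearCombination_apply, Finsupp.sum]
      refine Finset.sum_congr rfl fun a _ => ?_
      rw [← hb i a, algebraMap_smul]
    rw [symProd_tprod]
    have h1 : SymmetricPower.tprod B f
        = ∑ r ∈ Fintype.piFinset fun i => (s (f i)).support,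
            (∏ i, b i (r i)) • SymmetricPower.tprod B r := by
      conv_lhs => rw [funext hf, MultilinearMap.map_sum_finset]
      exact Finset.sum_congr rfl fun r _ => MultilinearMap.map_smul_univ _ _ _
    have h2 : ∏ i, linB B s (f i)
        = ∑ r ∈ Fintype.piFinset fun i => (s (f i)).support,
            (∏ i, b i (r i)) • ∏ i, (X (r i) : MvPolynomial M D) := by
      rw [Finset.prod_congr rfl fun i _ => hlin i, Finset.prod_univ_sum]
      exact Finset.sum_congr rfl fun r _ => Finset.prod_smul _ _ _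
    rw [h1, h2, map_sum]
    refine Finset.sum_congr rfl fun r _ => ?_
    rw [map_smul]
    congr 1
    have h3 : ∏ i, (X (r i) : MvPolynomial M D) = monomial (∑ i, Finsupp.single (r i) 1) 1 :=
      (monomial_sum_one _ _).symm
    rw [h3, readOff_monomial, monTensor_sum]

theorem symProd_isHomogeneous (s : M →ₗ[D] M →₀ D) (ι : Type u) [Fintype ι] (z : SymmetricPower B ι M) :
    (symProd (linB B s) z).IsHomogeneous (Fintype.card ι) := by
  induction z using sym_induction with
  | zero => rw [map_zero]; exact isHomogeneous_zero _ _ _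
  | add x y hx hy => rw [map_add]; exact hx.add hy
  | smul r x hx =>
    rw [map_smul, ← algebraMap_smul D r, smul_eq_C_mul]
    exact hx.C_mul _
  | tprod f =>
    rw [symProd_tprod]
    simpa using IsHomogeneous.prod Finset.univ (fun i => linB B s (f i)) (fun _ => 1)
      (fun i _ => linForm_isHomogeneous _)

/-- A map out of the symmetric power with the canonical values is injective. -/
theorem injective_of_values [Algebra.FormallySmooth A D] (h : CAlgX.IsAdicFormallySmooth A B 𝔍)
    (hD : Function.Surjective (algebraMap B D)) (hDker : RingHom.ker (algebraMap B D) = 𝔍)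
    (cl : 𝔍 →ₗ[B] M) (hcl : Function.Surjective cl) (hcl0 : ∀ x, cl x = 0 ↔ (x : B) ∈ 𝔍 ^ 2)
    (ι : Type u) [Fintype ι] [Nonempty ι]
    (φ : SymmetricPower B ι M →ₗ[B] PP16.grJ B 𝔍 (Fintype.card ι))
    (hφ : ∀ x : ι → 𝔍, φ (SymmetricPower.tprod B fun i => cl (x i)) = PP16.zetaJ B 𝔍 x) :
    Function.Injective φ := by
  classical
  have hm1 : 0 < Fintype.card ι := Fintype.card_pos
  have hD0 : ∀ (b : B) (n : M), b ∈ 𝔍 → b • n = 0 := fun b n hb => by
    rw [← algebraMap_smul D b n, RingHom.mem_ker.mp (hDker.ge hb), zero_smul]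
  obtain ⟨χ, s, hs, hconst, hlin⟩ := exists_poly_lift h hD hDker cl hcl hcl0 (by omega : 2 ≤ (Fintype.card ι + 1))
  have hJ : ∀ x : B, x ∈ 𝔍 → χ x ∈ (idealOfVars M D).map (Ideal.Quotient.mk (idealOfVars M D ^ (Fintype.card ι + 1))) := by
    intro x hx
    have h2 := Ideal.add_mem _ (Ideal.pow_le_self two_ne_zero (hlin ⟨x, hx⟩))
      (Ideal.mem_map_of_mem (Ideal.Quotient.mk _) (linForm_mem (s (cl ⟨x, hx⟩))))
    simpa using h2
  have hcls : ∀ z, ∃ w : ↥(𝔍 ^ Fintype.card ι), φ z = Submodule.Quotient.mk w ∧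
      χ (w : B) = Ideal.Quotient.mk _ (symProd (linB B s) z) := by
    intro z
    induction z using sym_induction with
    | zero => exact ⟨0, by simp, by simp⟩
    | add x y hx hy =>
      obtain ⟨w, hw, hw'⟩ := hx
      obtain ⟨w₂, hw₂, hw₂'⟩ := hy
      exact ⟨w + w₂, by rw [map_add, hw, hw₂]; rfl, by simp [hw', hw₂']⟩
    | tprod f =>
      choose x hx using fun i => hcl (f i)
      rw [show f = fun i => cl (x i) from funext fun i => (hx i).symm, hφ, symProd_tprod]
      refine ⟨⟨∏ i, (x i : B), ?_⟩, rfl, ?_⟩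
      · simpa using PP16.prod_mem_pow 𝔍 Finset.univ (fun i => (x i : B)) (fun i _ => (x i).2)
      · simp only [map_prod]
        rw [← sub_eq_zero]
        refine eq_zero_of_mem_map_pow ?_
        exact prod_sub_prod_mem Finset.univ _ _ _ (fun i _ => hJ _ (x i).2)
          (fun i _ => Ideal.mem_map_of_mem _ (linForm_mem _)) (fun i _ => hlin (x i))
    | smul r x hx =>
      obtain ⟨w, hw, hw'⟩ := hx
      refine ⟨r • w, by rw [map_smul, hw]; rfl, ?_⟩
      rw [Submodule.coe_smul, smul_eq_mul, map_mul, hw', map_smul, ← algebraMap_smul D r,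
        smul_eq_C_mul, map_mul, ← sub_eq_zero, ← sub_mul]
      refine eq_zero_of_mem_map_pow ?_
      have hx2 : symProd (linB B s) x ∈ idealOfVars M D ^ Fintype.card ι :=
        (mem_pow_idealOfVars_iff' _ _).mpr fun d hd =>
          (symProd_isHomogeneous s ι x).coeff_eq_zero (by omega)
      have hx3 := Ideal.mem_map_of_mem (Ideal.Quotient.mk (idealOfVars M D ^ (Fintype.card ι + 1))) hx2
      rw [← map_mk_pow] at hx3
      have hx4 := Ideal.mul_mem_mul (hconst r) hx3
      have e := pow_succ' ((idealOfVars M D).map (Ideal.Quotient.mk (idealOfVars M D ^ (Fintype.card ι + 1))))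
        (Fintype.card ι)
      exact e.ge hx4
  rw [injective_iff_map_eq_zero]
  intro z hz
  obtain ⟨w, hw, hw'⟩ := hcls z
  rw [hw, Submodule.Quotient.mk_eq_zero, Submodule.mem_comap] at hz
  have hz' : (w : B) ∈ 𝔍 ^ (Fintype.card ι + 1) := hz
  have h1 : χ (w : B) = 0 := by
    refine eq_zero_of_mem_map_pow ?_
    have h2 : 𝔍.map χ.toRingHom ≤ (idealOfVars M D).map (Ideal.Quotient.mk (idealOfVars M D ^ (Fintype.card ι + 1))) :=
      Ideal.map_le_iff_le_comap.mpr fun x hx => hJ x hx
    have h3 := Ideal.mem_map_of_mem χ.toRingHom hz'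
    rw [Ideal.map_pow] at h3
    exact Ideal.pow_right_mono h2 (Fintype.card ι + 1) h3
  rw [h1, eq_comm, Ideal.Quotient.eq_zero_iff_mem] at hw'
  have h4 : symProd (linB B s) z = 0 := by
    refine MvPolynomial.ext _ _ fun d => ?_
    rw [coeff_zero]
    by_cases hd : d.degree < (Fintype.card ι + 1)
    · exact (mem_pow_idealOfVars_iff' _ _).mp hw' d hd
    · exact (symProd_isHomogeneous s ι z).coeff_eq_zero (by omega)
  have h5 := readOff_symProd hD hDker hD0 hs ι z
  rw [h4, map_zero] at h5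
  exact h5.symm

theorem cotangent_projective (𝔍 : Ideal B) [Algebra.FormallySmooth A (B ⧸ 𝔍)]
    (h : CAlgX.IsAdicFormallySmooth A B 𝔍) : Module.Projective (B ⧸ 𝔍) 𝔍.Cotangent := by
  obtain ⟨χ, s, hs, -, -⟩ := exists_poly_lift (D := B ⧸ 𝔍) (M := 𝔍.Cotangent) h Ideal.Quotient.mk_surjective
    Ideal.mk_ker 𝔍.toCotangent 𝔍.toCotangent_surjective (fun x => 𝔍.toCotangent_eq_zero x) (le_refl 2)
  exact Module.projective_def.mpr ⟨s, hs⟩

/-- An adically formally smooth algebra over `A`, with `B/𝔍` formally smooth, has symmetric graded ring. -/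
theorem symGrBijective_of_isAdicFormallySmooth (𝔍 : Ideal B) [Algebra.FormallySmooth A (B ⧸ 𝔍)]
    (h : CAlgX.IsAdicFormallySmooth A B 𝔍) : PP16.SymGrBijective B 𝔍 :=
  (symGrBijective_iff 𝔍).mpr fun ι _ _ =>
    injective_of_values (D := B ⧸ 𝔍) (M := 𝔍.Cotangent) h Ideal.Quotient.mk_surjective Ideal.mk_ker
      𝔍.toCotangent 𝔍.toCotangent_surjective (fun x => 𝔍.toCotangent_eq_zero x) ι (symGrMap 𝔍 ι)
      (symGrMap_tprod 𝔍 ι)

/-- Formal smoothness for the adic topology, when the quotient is formally smooth. -/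
theorem isAdicFormallySmooth_iff_symGr (𝔍 : Ideal B) [Algebra.FormallySmooth A (B ⧸ 𝔍)] :
    CAlgX.IsAdicFormallySmooth A B 𝔍 ↔
      (Module.Projective (B ⧸ 𝔍) 𝔍.Cotangent ∧ PP16.SymGrBijective B 𝔍) :=
  ⟨fun h => ⟨cotangent_projective 𝔍 h, symGrBijective_of_isAdicFormallySmooth 𝔍 h⟩,
    fun h => isAdicFormallySmooth_of_symGr 𝔍 h.1 h.2⟩

end SymGr13

end Groth.Agent.EGA4Alg4
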