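import Mathlib
import Groth.Prelude.Def_ProCons
import Groth.Agent.ConsPts12.Range
import Groth.Agent.SchBasics.Closure
import Groth.Agent.S12442
import Groth.Agent.S15542
import Groth.Agent.S15543

/-! Topological rows S4586, S4587, S4591, S4596–S4599, S4603, S4608, S4609, S4613. -/

set_option autoImplicit false
set_option linter.style.haveILetI false

universe u

open CategoryTheory AlgebraicGeometry Limits Topology TopologicalSpace Groth.Agent.ConsPts12

namespace Groth.Agent.EGA4Alg4.Top13

theorem quasiCompact_of_comp_of_surjective {X Y Z : Scheme.{u}} (f : X ⟶ Y) (g : Y ⟶ Z)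
    [QuasiCompact (f ≫ g)] [Surjective f] : QuasiCompact g := by
  refine ⟨fun U hUo hUc => ?_⟩
  have h := (QuasiCompact.isCompact_preimage (f := f ≫ g) U hUo hUc).image f.continuous
  rwa [Scheme.Hom.comp_base, TopCat.coe_comp, Set.preimage_comp, Set.image_preimage_eq _ f.surjective] at h

theorem descend {X Y Y' : Scheme.{u}} (f : X ⟶ Y) (g : Y' ⟶ Y) [Surjective g] :
    (QuasiCompact g → QuasiCompact (pullback.snd f g) → QuasiCompact f) ∧
    (IsDominant (pullback.snd f g) → IsDominant f) := by
  constructor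
  · intro hg hf'
    have : QuasiCompact (pullback.fst f g ≫ f) := by rw [pullback.condition]; infer_instance
    exact quasiCompact_of_comp_of_surjective (pullback.fst f g) f
  · intro h
    refine ⟨fun y => ?_⟩
    obtain ⟨y', rfl⟩ := g.surjective y
    have h1 : g y' ∈ g '' closure (Set.range (pullback.snd f g)) :=
      ⟨y', h.denseRange y', rfl⟩
    refine closure_mono ?_ (image_closure_subset_closure_image g.continuous h1)
    rintro _ ⟨_, ⟨x, rfl⟩, rfl⟩
    refine ⟨pullback.fst f g x, ?_⟩
    rw [← Scheme.Hom.comp_apply, ← Scheme.Hom.comp_apply, pullback.condition]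

theorem quasiSeparated_descends {X Y Y' : Scheme.{u}} (f : X ⟶ Y)
    (g : Y' ⟶ Y) [QuasiCompact g] [Surjective g] [QuasiSeparated (pullback.snd f g)] :
    QuasiSeparated f := by
  refine ⟨?_⟩
  let pr := pullback.fst f g
  let f' := pullback.snd f g
  let p : pullback f' f' ⟶ pullback f f :=
    (pullbackLeftPullbackSndIso f g f').hom ≫ (pullback.congrHom rfl pullback.condition.symm).hom ≫
      (pullbackLeftPullbackSndIso f f pr).inv ≫ pullback.fst (pullback.snd f f) pr
  haveI : QuasiCompact (pullback.diagonal f' ≫ p) := by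
    dsimp only [p]
    infer_instance
  have key : pr ≫ pullback.diagonal f = pullback.diagonal f' ≫ p := by
    apply pullback.hom_ext
    · simp [p, pr, f', pullback.congrHom_hom, pullback.map]
      erw [pullback.lift_fst]
      simp
    · simp [p, pr, f', pullback.congrHom_hom, pullback.map]
      erw [pullback.lift_snd_assoc]
      simp
  haveI : QuasiCompact (pr ≫ pullback.diagonal f) := by rw [key]; infer_instance
  exact quasiCompact_of_comp_of_surjective pr (pullback.diagonal f)

theorem lfp_diagonal {Y Z : Scheme.{u}} (g : Y ⟶ Z)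
    [LocallyOfFiniteType g] : LocallyOfFinitePresentation (pullback.diagonal g) := by
  have : LocallyOfFinitePresentation (pullback.diagonal g ≫ pullback.fst g g) := by
    rw [pullback.diagonal_fst]; infer_instance
  exact Groth.Agent.S12442.result (pullback.diagonal g) (pullback.fst g g)

theorem maximal_iff {X : Scheme.{u}} (y : X) :
    (∀ y' : X, y' ⤳ y → y' = y) ↔ closure {y} ∈ irreducibleComponents (X : Type u) :=
  (SchBasics.closure_singleton_mem_irreducibleComponents_iff y).symm

theorem tfae_isDominant {X Y : Scheme.{u}} (f : X ⟶ Y) [QuasiCompact f] :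
    [IsDominant f,
     ∀ y : Y, (∀ y' : Y, y' ⤳ y → y' = y) → y ∈ Set.range f.base,
     ∀ y : Y, (∀ y' : Y, y' ⤳ y → y' = y) → ∃ x : X, (∀ x' : X, x' ⤳ x → x' = x) ∧ f.base x = y].TFAE := by
  tfae_have 1 → 3 := fun _ y hy => by
    obtain ⟨x, rfl⟩ := SchBasics.mem_range_of_mem_closure_range f
      (by rw [f.denseRange.closure_range]; trivial) ((maximal_iff y).1 hy)
    obtain ⟨z, hz, hzx⟩ := SchBasics.exists_maximal_specializes x
    exact ⟨z, (maximal_iff z).2 hz, hy _ (hzx.map f.continuous)⟩
  tfae_have 3 → 2 := fun h y hy => by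
    obtain ⟨x, -, hx⟩ := h y hy
    exact ⟨x, hx⟩
  tfae_have 2 → 1 := fun h => by
    refine ⟨fun y => ?_⟩
    obtain ⟨z, hz, hzy⟩ := SchBasics.exists_maximal_specializes y
    obtain ⟨x, rfl⟩ := h z ((maximal_iff z).2 hz)
    exact hzy.mem_closed isClosed_closure (subset_closure ⟨x, rfl⟩)
  tfae_finish

theorem lc_compl {X : Type u} [TopologicalSpace X] {E : Set X} (h : IsLocallyConstructible E) :
    IsLocallyConstructible Eᶜ := fun x => by
  obtain ⟨U, hx, hU, hc⟩ := h x
  exact ⟨U, hx, hU, by rw [Set.preimage_compl]; exact hc.compl⟩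

theorem compl_ind {X : Type u} [TopologicalSpace X] {E : Set X} :
    ProCons.IsIndConstructible Eᶜ ↔ ProCons.IsProConstructible E := by
  constructor
  · intro h x
    obtain ⟨U, hU, hxU, S, hS, hE⟩ := h x
    refine ⟨U, hU, hxU, compl '' S, by rintro _ ⟨T, hT, rfl⟩; exact lc_compl (hS T hT), ?_⟩
    rw [← Set.compl_sUnion, ← hE, Set.preimage_compl, compl_compl]
  · intro h x
    obtain ⟨U, hU, hxU, S, hS, hE⟩ := h x
    refine ⟨U, hU, hxU, compl '' S, by rintro _ ⟨T, hT, rfl⟩; exact lc_compl (hS T hT), ?_⟩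
    rw [Set.preimage_compl, hE, Set.compl_sInter]

theorem compl_pro {X : Type u} [TopologicalSpace X] {E : Set X} :
    ProCons.IsProConstructible Eᶜ ↔ ProCons.IsIndConstructible E := by
  rw [← compl_ind, compl_compl]

theorem exists_finite_cover (X : Scheme.{u}) [CompactSpace X]
    (F : Set X) (hF : ProCons.IsProConstructible F) {ι : Type u} (E : ι → Set X)
    (hE : ∀ i, ProCons.IsIndConstructible (E i)) (h : F ⊆ ⋃ i, E i) :
    ∃ J : Finset ι, F ⊆ ⋃ i ∈ J, E i := by
  obtain ⟨J, hJ⟩ := exists_finite_inter_subset (compl_ind.2 hF) (fun i => (E i)ᶜ)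
    (fun i => compl_pro.2 (hE i)) (by rw [← Set.compl_iUnion]; exact Set.compl_subset_compl.2 h)
  refine ⟨J, fun x hx => ?_⟩
  by_contra hc
  simp only [Set.mem_iUnion, not_exists] at hc
  exact hJ (Set.mem_iInter₂.2 hc) hx

theorem constructibility_iff {X Y : Scheme.{u}} (f : X ⟶ Y) [Surjective f]
    (hf : QuasiCompact f ∨ LocallyOfFinitePresentation f) (E : Set Y) :
    (IsLocallyConstructible E ↔ IsLocallyConstructible (f.base ⁻¹' E)) ∧
    (ProCons.IsProConstructible E ↔ ProCons.IsProConstructible (f.base ⁻¹' E)) ∧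
    (ProCons.IsIndConstructible E ↔ ProCons.IsIndConstructible (f.base ⁻¹' E)) := by
  have hfwdP : ∀ E : Set Y, ProCons.IsProConstructible E → ProCons.IsProConstructible (f.base ⁻¹' E) :=
    fun E hE => Groth.Agent.S15542.result f E hE
  have hfwdI : ∀ E : Set Y, ProCons.IsIndConstructible E → ProCons.IsIndConstructible (f.base ⁻¹' E) :=
    fun E hE => by
      rw [← compl_pro, ← Set.preimage_compl]
      exact hfwdP _ (compl_pro.2 hE)
  have himg : ∀ E : Set Y, f.base '' (f.base ⁻¹' E) = E := fun E => Set.image_preimage_eq _ f.surjective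
  have hP : ∀ E : Set Y, ProCons.IsProConstructible E ↔ ProCons.IsProConstructible (f.base ⁻¹' E) := by
    refine fun E => ⟨hfwdP E, fun h => ?_⟩
    rcases hf with hq | hl
    · exact himg E ▸ isProConstructible_image f h
    · rw [← compl_ind] at h ⊢
      rw [← Set.preimage_compl] at h
      exact himg Eᶜ ▸ isIndConstructible_image f h
  have hI : ∀ E : Set Y, ProCons.IsIndConstructible E ↔ ProCons.IsIndConstructible (f.base ⁻¹' E) := fun E => by
    rw [← compl_pro, hP, Set.preimage_compl, compl_pro]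
  refine ⟨?_, hP E, hI E⟩
  rw [isLocallyConstructible_iff, isLocallyConstructible_iff, ← hP, ← hI]

theorem generalizingMap_iff {X Y : Scheme.{u}} (f : X ⟶ Y) :
    GeneralizingMap f.base ↔
      ∀ Y' : Set Y, IsClosed Y' → IsIrreducible Y' →
        ∀ Z ∈ irreducibleComponents ↥(f.base ⁻¹' Y'), closure (f.base '' (Subtype.val '' Z)) = Y' := by
  constructor
  · intro hgen Y' hY' hirr Z hZ
    have : QuasiSober ↥(f.base ⁻¹' Y') := (hY'.preimage f.continuous).isClosedEmbedding_subtypeVal.quasiSober
    set z := hZ.1.genericPoint with hzdef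
    have hz : IsGenericPoint z Z := by
      have := hZ.1.isGenericPoint_genericPoint_closure
      rwa [(isClosed_of_mem_irreducibleComponents Z hZ).closure_eq] at this
    obtain ⟨η, hη⟩ := QuasiSober.sober hirr hY'
    obtain ⟨x, hx, hfx⟩ := hgen (hη.specializes z.2 : η ⤳ f.base z.1)
    have hxY : x ∈ f.base ⁻¹' Y' := by change f.base x ∈ Y'; rw [hfx]; exact hη.mem
    have hxz : (⟨x, hxY⟩ : ↥(f.base ⁻¹' Y')) = z := by
      have hmax := (SchBasics.closure_singleton_mem_irreducibleComponents_iff z).1 (by rw [hz.def]; exact hZ)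
      exact hmax _ ((subtype_specializes_iff _ _).2 hx)
    have hzη : f.base z.1 = η := by rw [← hfx, ← hxz]
    apply subset_antisymm
    · refine closure_minimal ?_ hY'
      rintro _ ⟨_, ⟨w, -, rfl⟩, rfl⟩
      exact w.2
    · refine hη.def.symm.trans_subset (closure_mono ?_)
      rw [Set.singleton_subset_iff, ← hzη]
      exact ⟨z.1, ⟨z, hz.mem, rfl⟩, rfl⟩
  · intro h x y hy
    have hxY : x ∈ f.base ⁻¹' closure {y} := specializes_iff_mem_closure.1 hy
    have : QuasiSober ↥(f.base ⁻¹' closure {y}) :=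
      (isClosed_closure.preimage f.continuous).isClosedEmbedding_subtypeVal.quasiSober
    obtain ⟨z, hz, hzx⟩ := SchBasics.exists_maximal_specializes (⟨x, hxY⟩ : ↥(f.base ⁻¹' closure {y}))
    refine ⟨z.1, (subtype_specializes_iff _ _).1 hzx, ?_⟩
    have h1 := h _ isClosed_closure isIrreducible_singleton.closure _ hz
    have hgy : IsGenericPoint y (closure {y}) := isGenericPoint_closure
    refine IsGenericPoint.eq ?_ hgy
    refine Eq.trans ?_ h1
    apply subset_antisymm
    · exact closure_mono (Set.singleton_subset_iff.2 ⟨z.1, ⟨z, subset_closure rfl, rfl⟩, rfl⟩)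
    · refine closure_minimal ?_ isClosed_closure
      rintro _ ⟨_, ⟨w, hw, rfl⟩, rfl⟩
      exact specializes_iff_mem_closure.1
        (((subtype_specializes_iff _ _).1 (specializes_iff_mem_closure.2 hw)).map f.continuous)

theorem quasiCompact_coprod_desc_iff {X' X'' Y : Scheme.{u}} (f' : X' ⟶ Y) (f'' : X'' ⟶ Y) :
    QuasiCompact (coprod.desc f' f'') ↔ QuasiCompact f' ∧ QuasiCompact f'' := by
  have hc := isCompl_range_inl_inr X' X''
  have hl : IsClosedEmbedding (coprod.inl : X' ⟶ X' ⨿ X'') := by
    refine ⟨(Scheme.Hom.isOpenEmbedding _).isEmbedding, ?_⟩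
    rw [hc.eq_compl]
    exact (Scheme.Hom.isOpenEmbedding _).isOpen_range.isClosed_compl
  have hr : IsClosedEmbedding (coprod.inr : X'' ⟶ X' ⨿ X'') := by
    refine ⟨(Scheme.Hom.isOpenEmbedding _).isEmbedding, ?_⟩
    rw [hc.symm.eq_compl]
    exact (Scheme.Hom.isOpenEmbedding _).isOpen_range.isClosed_compl
  constructor
  · intro h
    refine ⟨⟨fun U ho hU => ?_⟩, ⟨fun U ho hU => ?_⟩⟩
    · have := hl.isCompact_preimage (QuasiCompact.isCompact_preimage (f := coprod.desc f' f'') U ho hU)
      rwa [← Set.preimage_comp, ← TopCat.coe_comp, ← Scheme.Hom.comp_base, coprod.inl_desc] at this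
    · have := hr.isCompact_preimage (QuasiCompact.isCompact_preimage (f := coprod.desc f' f'') U ho hU)
      rwa [← Set.preimage_comp, ← TopCat.coe_comp, ← Scheme.Hom.comp_base, coprod.inr_desc] at this
  · rintro ⟨_, _⟩
    refine ⟨fun U ho hU => ?_⟩
    have h1 := (QuasiCompact.isCompact_preimage (f := f') U ho hU).image (coprod.inl : X' ⟶ X' ⨿ X'').continuous
    have h2 := (QuasiCompact.isCompact_preimage (f := f'') U ho hU).image (coprod.inr : X'' ⟶ X' ⨿ X'').continuous
    convert h1.union h2
    conv_rhs => arg 1; rw [← coprod.inl_desc f' f'']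
    conv_rhs => arg 2; rw [← coprod.inr_desc f' f'']
    rw [Scheme.Hom.comp_base, Scheme.Hom.comp_base, TopCat.coe_comp, TopCat.coe_comp, Set.preimage_comp,
      Set.preimage_comp, Set.image_preimage_eq_inter_range, Set.image_preimage_eq_inter_range,
      ← Set.inter_union_distrib_left, show (Set.range (coprod.inl : X' ⟶ X' ⨿ X'') ∪ Set.range (coprod.inr : X'' ⟶ X' ⨿ X'')) = Set.univ from hc.sup_eq_top, Set.inter_univ]

set_option backward.isDefEq.respectTransparency.types false in
theorem quasiSeparated_iff_forall {X Y : Scheme.{u}} (f : X ⟶ Y) :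
    QuasiSeparated f ↔ ∀ U : Y.Opens, IsAffineOpen U → IsQuasiSeparated (f ⁻¹ᵁ U : Set X) := by
  refine ⟨fun h U hU => f.isQuasiSeparated_preimage hU.isQuasiSeparated, fun h => ?_⟩
  refine IsZariskiLocalAtTarget.of_iSup_eq_top (P := @QuasiSeparated.{u}) (fun U : Y.affineOpens => U.1) (iSup_affineOpens_eq_top Y) fun U => ?_
  have : IsAffine U.1 := U.2
  rw [HasAffineProperty.iff_of_isAffine (P := @QuasiSeparated)]
  exact (isQuasiSeparated_iff_quasiSeparatedSpace _ (f ⁻¹ᵁ U.1).2).1 (h U.1 U.2)

theorem quasiSeparated_coprod_desc_iff {X' X'' Y : Scheme.{u}} (f' : X' ⟶ Y) (f'' : X'' ⟶ Y) :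
    QuasiSeparated (coprod.desc f' f'') ↔ QuasiSeparated f' ∧ QuasiSeparated f'' := by
  set F := coprod.desc f' f'' with hF
  constructor
  · intro h
    refine ⟨?_, ?_⟩
    · rw [← coprod.inl_desc f' f'', ← hF]; infer_instance
    · rw [← coprod.inr_desc f' f'', ← hF]; infer_instance
  · rintro ⟨h1, h2⟩
    rw [quasiSeparated_iff_forall] at h1 h2 ⊢
    intro U hU A B hA hAo hAc hB hBo hBc
    have hc := isCompl_range_inl_inr X' X''
    have key : ∀ {Z : Scheme.{u}} (j : Z ⟶ X' ⨿ X'') [IsOpenImmersion j], IsClosed (Set.range j) →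
        IsQuasiSeparated (((j ≫ F) ⁻¹ᵁ U : Z.Opens) : Set Z) → IsCompact (A ∩ B ∩ Set.range j) := by
      intro Z j _ hj hq
      have hje : IsClosedEmbedding j := ⟨j.isOpenEmbedding.isEmbedding, hj⟩
      have h3 := hq (j ⁻¹' A) (j ⁻¹' B) (fun x hx => hA hx) (hAo.preimage j.continuous)
        (hje.isCompact_preimage hAc) (fun x hx => hB hx) (hBo.preimage j.continuous)
        (hje.isCompact_preimage hBc)
      have h4 := h3.image j.continuous
      rwa [← Set.preimage_inter, Set.image_preimage_eq_inter_range] at h4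
    have hL := key (coprod.inl : X' ⟶ X' ⨿ X'')
      (by rw [hc.eq_compl]; exact (Scheme.Hom.isOpenEmbedding _).isOpen_range.isClosed_compl)
      (by rw [hF, coprod.inl_desc]; exact h1 U hU)
    have hR := key (coprod.inr : X'' ⟶ X' ⨿ X'')
      (by rw [hc.symm.eq_compl]; exact (Scheme.Hom.isOpenEmbedding _).isOpen_range.isClosed_compl)
      (by rw [hF, coprod.inr_desc]; exact h2 U hU)
    have := hL.union hR
    rwa [← Set.inter_union_distrib_left, show (Set.range (coprod.inl : X' ⟶ X' ⨿ X'') ∪ Set.range (coprod.inr : X'' ⟶ X' ⨿ X'')) = Set.univ from hc.sup_eq_top,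
      Set.inter_univ] at this

set_option backward.isDefEq.respectTransparency.types false in
theorem lfp_iff_ker_fg {X Y : Scheme.{u}} (j : X ⟶ Y) [IsClosedImmersion j] :
    LocallyOfFinitePresentation j ↔ ∀ U : Y.affineOpens, (RingHom.ker (j.app U).hom).FG := by
  constructor
  · intro h U
    have h1 := j.finitePresentation_appLE U.2 (U.2.preimage j) le_rfl
    rw [← Scheme.Hom.app_eq_appLE] at h1
    algebraize [(j.app U).hom]
    exact Algebra.FinitePresentation.ker_fG_of_surjective
      (Algebra.ofId _ _) (j.app_surjective U.1 U.2)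
  · intro h
    refine IsZariskiLocalAtTarget.of_iSup_eq_top (P := @LocallyOfFinitePresentation.{u}) (fun U : Y.affineOpens => U.1) (iSup_affineOpens_eq_top Y) fun U => ?_
    have : IsAffine U.1 := U.2
    have : IsAffine (j ⁻¹ᵁ U.1) := U.2.preimage j
    rw [HasRingHomProperty.iff_of_isAffine (P := @LocallyOfFinitePresentation)]
    rw [Scheme.Hom.appTop, morphismRestrict_app]
    have hV : IsAffineOpen (U.1.ι ''ᵁ ⊤) := (isAffineOpen_top U.1.toScheme).image_of_isOpenImmersion U.1.ι
    exact RingHom.FinitePresentation.comp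
      (RingHom.FinitePresentation.of_bijective (ConcreteCategory.bijective_of_isIso (X.presheaf.map _)))
      (RingHom.FinitePresentation.of_surjective _ (j.app_surjective _ hV) (h ⟨_, hV⟩))

end Groth.Agent.EGA4Alg4.Top13
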