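import Groth.Agent.TorMod7.Basic
import Groth.Agent.TorMod7.PD
import Groth.Agent.EGA4H10.ProjDim

/-! Projective dimension over a local ring through `Tor` with the residue field. -/

set_option autoImplicit false
universe u

open CategoryTheory Limits MonoidalCategory TensorProduct IsLocalRing

namespace Groth.Agent.EGA4Alg4

variable {A : Type u} [CommRing A]

theorem isZero_tor_X₁ (N : ModuleCat.{u} A) (S : TorMod7.SES (ModuleCat.{u} A)) (h : Projective S.1.X₂)
    (n : ℕ) (h3 : IsZero (((Tor (ModuleCat.{u} A) (n + 2)).obj N).obj S.1.X₃)) :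
    IsZero (((Tor (ModuleCat.{u} A) (n + 1)).obj N).obj S.1.X₁) := by
  let F := (tensoringLeft (ModuleCat.{u} A)).obj N
  have hepi : Epi (TorMod7.leftDerivedδ F S (n + 1)) :=
    (TorMod7.exact₁ F S (n + 1)).epi_f ((F.isZero_leftDerived_obj_projective_succ n S.1.X₂).eq_of_tgt _ _)
  exact @IsZero.of_epi _ _ _ _ _ (TorMod7.leftDerivedδ F S (n + 1)) hepi h3

variable [IsLocalRing A] [IsNoetherianRing A]

theorem exists_minimal_free_cover (M : Type u) [AddCommGroup M] [Module A M] [Module.Finite A M] :
    ∃ (n : ℕ) (p : (Fin n → A) →ₗ[A] M), Function.Surjective p ∧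
      LinearMap.ker p ≤ maximalIdeal A • (⊤ : Submodule A (Fin n → A)) := by
  obtain ⟨s, hspan⟩ := Module.Finite.fg_top (R := A) (M := M)
  obtain ⟨n, hn⟩ : ∃ n, ∃ v : Fin n → M, Submodule.span A (Set.range v) = ⊤ :=
    ⟨s.card, fun i => (s.equivFin.symm i : M), by
      convert hspan using 2
      ext z
      exact ⟨fun ⟨i, hi⟩ => hi ▸ (s.equivFin.symm i).2, fun hz => ⟨s.equivFin ⟨z, hz⟩, by simp⟩⟩⟩
  classical
  have hex : ∃ n, ∃ v : Fin n → M, Submodule.span A (Set.range v) = ⊤ := ⟨n, hn⟩
  obtain ⟨v, hv⟩ := Nat.find_spec hex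
  refine ⟨Nat.find hex, Fintype.linearCombination A v, ?_, ?_⟩
  · rw [← LinearMap.range_eq_top, Fintype.range_linearCombination, hv]
  · intro c hc
    rw [LinearMap.mem_ker, Fintype.linearCombination_apply] at hc
    have hall : ∀ i, c i ∈ maximalIdeal A := by
      intro i
      by_contra hi
      rw [mem_maximalIdeal, mem_nonunits_iff, not_not] at hi
      obtain ⟨u, hu⟩ := hi
      obtain ⟨m, hm⟩ : ∃ m, Nat.find hex = m + 1 := ⟨Nat.find hex - 1, by have := i.2; omega⟩
      let e := finCongr hm
      refine Nat.find_min hex (m := m) (by omega) ⟨fun j => v (e.symm ((e i).succAbove j)), ?_⟩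
      refine eq_top_iff.mpr (hv.ge.trans (Submodule.span_le.mpr ?_))
      rintro _ ⟨k, rfl⟩
      set T := Submodule.span A (Set.range fun j => v (e.symm ((e i).succAbove j)))
      have hne : ∀ k, k ≠ i → v k ∈ T := by
        intro k hk
        obtain ⟨j, hj⟩ := Fin.exists_succAbove_eq (x := e k) (y := e i) (fun h => hk (e.injective h))
        exact Submodule.subset_span ⟨j, by simp only [hj, Equiv.symm_apply_apply]⟩
      by_cases hk : k = i
      · subst hk
        rw [← Finset.add_sum_erase _ _ (Finset.mem_univ k)] at hc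
        have : c k • v k ∈ T := by
          rw [eq_neg_of_add_eq_zero_left hc]
          exact neg_mem (Submodule.sum_mem _ fun j hj => Submodule.smul_mem _ _ (hne j (by simpa using hj)))
        rw [← hu] at this
        simpa [smul_smul] using Submodule.smul_mem T ((u⁻¹ : Aˣ) : A) this
      · exact hne k hk
    rw [show c = ∑ i, c i • (Pi.single i (1 : A) : Fin (Nat.find hex) → A) from by
      ext j; simp [Pi.single_apply]]
    exact Submodule.sum_mem _ fun i _ => Submodule.smul_mem_smul (hall i) trivial

theorem hasProjectiveDimensionLT_of_isZero_tor (n : ℕ) : ∀ (M : Type u) [AddCommGroup M] [Module A M]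
    [Module.Finite A M],
    IsZero (((Tor (ModuleCat.{u} A) (n + 1)).obj (ModuleCat.of A (ResidueField A))).obj (ModuleCat.of A M)) →
    HasProjectiveDimensionLT (ModuleCat.of A M) (n + 1) := by
  induction n with
  | zero =>
    intro M _ _ _ h
    obtain ⟨r, p, hp, hker⟩ := exists_minimal_free_cover (A := A) M
    rw [TorMod7.isZero_tor_one_iff_of_surjective _ p hp] at h
    set K := LinearMap.ker p
    have hk0 : ∀ a ∈ maximalIdeal A, ∀ c : ResidueField A, a • c = 0 := fun a ha c => by
      rw [Algebra.smul_def]
      have : algebraMap A (ResidueField A) a = 0 := Ideal.Quotient.eq_zero_iff_mem.mpr ha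
      rw [this, zero_mul]
    have hzero : K.subtype.lTensor (ResidueField A) = 0 := by
      refine TensorProduct.ext' fun c x => ?_
      rw [LinearMap.lTensor_tmul, LinearMap.zero_apply]
      refine Submodule.smul_induction_on (p := fun y => c ⊗ₜ[A] y = 0) (hker x.2) ?_ ?_
      · intro a ha y _
        rw [tmul_smul, smul_tmul', hk0 a ha, zero_tmul]
      · intro y z hy hz
        rw [tmul_add, hy, hz, add_zero]
    have hsub : Subsingleton (ResidueField A ⊗[A] K) := by
      refine ⟨fun a b => h ?_⟩
      exact (DFunLike.congr_fun hzero a).trans (DFunLike.congr_fun hzero b).symm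
    have hK : Subsingleton K := by
      have : Subsingleton (TensorProduct A (A ⧸ maximalIdeal A) K) := hsub
      have := (TensorProduct.quotTensorEquivQuotSMul (M := K) (maximalIdeal A)).symm.toEquiv.subsingleton
      rw [Submodule.Quotient.subsingleton_iff] at this
      by_contra hc
      rw [not_subsingleton_iff_nontrivial] at hc
      exact Submodule.top_ne_ideal_smul_of_le_jacobson_annihilator (maximalIdeal_le_jacobson _) this.symm
    have hinj : Function.Injective p :=
      LinearMap.ker_eq_bot.mp (Submodule.eq_bot_of_subsingleton (p := K))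
    rw [zero_add, ← projective_iff_hasProjectiveDimensionLT_one, ← IsProjective.iff_projective]
    exact Module.Projective.of_equiv (LinearEquiv.ofBijective p ⟨hinj, hp⟩)
  | succ n ih =>
    intro M _ _ _ h
    obtain ⟨r, p, hp, -⟩ := exists_minimal_free_cover (A := A) M
    refine (EGA4H10.hasPD_succ_iff (LinearMap.ker p).subtype p (Submodule.subtype_injective _)
      (LinearMap.exact_subtype_ker_map p) hp n).mpr (ih _ ?_)
    exact isZero_tor_X₁ _ (TorMod7.sesOfSurjective p hp)
      ((IsProjective.iff_projective (R := A) (P := (Fin r → A))).1 inferInstance) n h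

end Groth.Agent.EGA4Alg4
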